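import Cfsg.Agent.H843.IMC.Frame3_m3
import Cfsg.Agent.H843.IMC.Co2B
import Cfsg.Agent.H714.DG.CoTwoX
import Cfsg.Agent.H597.Base
import Cfsg.Agent.H651.Two.Row
import Cfsg.Agent.H511.Ore.WRow_m3
import Cfsg.Agent.S2070
import Cfsg.Agent.H843.IMC.Co2C
import Cfsg.Agent.H717.Two.SevenEight_m3
import Cfsg.Agent.H314.IMLy
import Cfsg.Agent.H436.TwoRu
import Cfsg.Agent.H148.Ru.CentSeven
import Cfsg.Agent.H713.Two.Ru
import Cfsg.Agent.H870.IMRu_m3
import Cfsg.Agent.H868.Dl.RuCls
import Cfsg.Agent.H752.Two.CoInv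
import Cfsg.Agent.CpAutCoOneFive.Mat
import Cfsg.Agent.S0399
import Cfsg.Agent.Co2Type.Mono
import Cfsg.Agent.H593.IMRank
import Cfsg.Agent.H651.Two.Count
import Cfsg.Agent.H546.MElevenB_m3
import Cfsg.Agent.H843.IMC.Co1D
import Cfsg.Agent.H961.SevX
import Cfsg.Agent.H600.AltIM_m3
import Cfsg.Agent.S2069
import Cfsg.Agent.H648.Loc.Value_m3
import Cfsg.Agent.H665.EvenDegree
import Cfsg.Agent.H729.Norm
import Cfsg.Agent.S0165
import Cfsg.Agent.H30.GraphFi24A
import Cfsg.Agent.H843.N17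
import Cfsg.Agent.S2081
import Cfsg.Agent.CoOneType.QFold
import Cfsg.Agent.H492.IMJ4
import Cfsg.Agent.H877.IMJ4
import Cfsg.Agent.S2068
import Cfsg.Agent.Lib.SieveFast
import Cfsg.Agent.H305.SepJ1
import Cfsg.Agent.S2065
import Cfsg.Agent.H314.LyOrb.Deg
import Cfsg.Agent.H215.CC.LyThirtySeven
import Cfsg.Agent.H256.Sep.RowLy
import Cfsg.Agent.S2076
import Cfsg.Agent.H492.IMPair_m3
import Cfsg.Agent.H492.IMHe
import Cfsg.Agent.H678.DG.HeDegB
import Cfsg.Agent.S2075
import Cfsg.Agent.H492.FactsON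
import Cfsg.Agent.H999.ONIMFive
import Cfsg.Agent.H535.Ore.ON
import Cfsg.Agent.S2078
import Cfsg.Agent.S2052
import Cfsg.Agent.BM.Fi22O_m3
import Cfsg.Agent.H672.SporIM.RankRows
import Cfsg.Agent.H852.IMJTwo
import Cfsg.Agent.H379.J2Spec
import Cfsg.Agent.S2066
import Cfsg.Agent.S0157
import Cfsg.Agent.H651.Two.Mathieu
import Cfsg.Agent.H174.Two.McL
import Cfsg.Agent.H417.Two.Co3
import Cfsg.Agent.H892.Two.Fi23
import Cfsg.Agent.H399.Two.HN
import Cfsg.Agent.H399.Two.Th
import Cfsg.Agent.H654.Two.F4Row_m3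
import Cfsg.Agent.H53.HC.TwoTwE6
import Cfsg.Agent.H53.HC.ExcGraph
import Cfsg.Agent.H40.GGRgd
import Cfsg.Agent.H928.Van.Tor
import Cfsg.Agent.OddHalf.NI.Mult.Torus
import Cfsg.Agent.H53.HC.ExcIn
import Cfsg.Agent.H246.Dl.KTypeMJ_m3
import Cfsg.Agent.H113.Two.PsuTwo
import Cfsg.Agent.H321.Dl.PslMany
import Cfsg.Agent.H627.Gow.Mackey_m3
import Cfsg.Agent.H115.HC.TwoGTwo
import Cfsg.Agent.H115.HC.TwoDFour
import Cfsg.Agent.H115.HC.Four
import Cfsg.Agent.H596.OneFacts
import Cfsg.Agent.H996.Deg.GThree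
import Mathlib
import Cfsg.Agent.H717.Two.Char
import Cfsg.Agent.H53.HC.TwoE6
import Cfsg.Agent.H749.TwoMinus
import Cfsg.Agent.H749.TwoRows
import Cfsg.Agent.H477.HC.N5
import Cfsg.Agent.H722.HC.SpFour
import Cfsg.Agent.H678.DG.Tits_m3
import Cfsg.Agent.S0000
import Cfsg.Agent.FastGrp
import Cfsg.Agent.Prune
set_option linter.all false

section
prune_inst 0x7fd0fdf88ba825dfdfff7e3ff6ddcffa11c48fffe6dff943bfe8a99f0b9f030009c56b8d8de050fe0ed6e21410b87843f9ffeeffe06bdc7ffffd5fb41ffbee0fa5e7350811d48c300e242ffe03f07f0e6f3ffff7ffffffffffffffffffffffbeffbdebfeffff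

-- part: H651/Two/Co2_mg
section
prune_inst 0x20240409000000000000900100182286000000002000001020054000823d020002010008001d02000a000000300020010000804000000000000000000405010000100010000000200000001002000000000000000000000000000000041004200000000
set_option linter.all false
open scoped Cfsg.Agent.FastGrp

-- part: H566/Two/CoTwoA
section
/-!
# `Co₂`: two characters of degree divisible by `p`, `p = 5, 7, 11, 23` (helper566)
-/

set_option autoImplicit false

namespace Cfsg.Agent.H566.Two.CoTwoA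

open Cfsg Cfsg.Agent.H33 Cfsg.Agent.H651.Two Cfsg.Agent.H596.OneFacts Cfsg.Agent.H653.Sieve
open Cfsg.Agent.H843.IMC Cfsg.Agent.H843.IMC.Syn Cfsg.Agent.H843.IMC.Lam Cfsg.Agent.H843.IMC.LamCo1
open Cfsg.Agent.H843.IMC.LamCo2
open Cfsg.Agent.SporadicA.GolayBase Cfsg.Agent.SporadicStructure.M24El Cfsg.Agent.H419.LeechIrr
open Cfsg.Agent.SporadicA.GolayPerm Cfsg.Agent.SporadicA.Co0Mono

universe u

section

variable {G : Type*} [Group G] [Fintype G] {E : Type*} [Group E] [Fintype E]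

/-- Exterior powers: a constituent of small degree divisible by `p`. -/
theorem deg_lam {p k : ℕ} [Fact p.Prime] (hk : k ≤ 24) (w : E →* Multiplicative (GolayPt → ZMod 2))
    (hw : Function.Injective w) (f : E →* G) {P : ℕ} (hP : ok P = true) (hPp : el P ^ p = 1) (σ : E ≃* E)
    (hσ : ∀ e i, (w (σ e)).toAdd (el P • i) = (w e).toAdd i) (x : G) (hx : ∀ e, f (σ e) = x * f e * x⁻¹)
    {W : G → ℂ} (hW : IsCharacter G W)
    (hWf : ∀ e, W (f e) = altk k (Matrix.diagonal fun i => sgnC ((w e).toAdd i)))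
    {bs : List ℕ} (hbs : ∀ m ∈ bs, ∃ e, (w e).toAdd = word m)
    (hchk : chk k 0 ((List.range 24).map (syn P bs)) = true) :
    ∃ ψ : IrrCharacter G, p ∣ charDegree (ψ : G → ℂ) ∧ k.factorial * charDegree (ψ : G → ℂ) ≤ 24 ^ k := by
  classical
  have hW1 : W 1 = ((k.factorial : ℂ))⁻¹ *
      ∑ i : Fin k → GolayPt, (if Function.Injective i then (1 : ℂ) else 0) := by
    have h := hWf 1
    rw [map_one, altk_diagonal] at h
    rw [h]
    congr 1
    refine Finset.sum_congr rfl fun i _ => ?_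
    rw [Finset.prod_eq_one, mul_one]
    intro t _
    rw [map_one]
    exact sgnC_zero
  have hW0 : W ≠ 0 := by
    intro h0
    rw [h0, Pi.zero_apply] at hW1
    have h1 : ((k.factorial : ℂ))⁻¹ ≠ 0 := inv_ne_zero (by exact_mod_cast k.factorial_ne_zero)
    have h2 := (mul_eq_zero.1 hW1.symm).resolve_left h1
    rw [Finset.sum_boole] at h2
    have h3 : (Finset.univ.filter fun i : Fin k → GolayPt => Function.Injective i).card = 0 := by exact_mod_cast h2
    rw [Finset.card_eq_zero, Finset.filter_eq_empty_iff] at h3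
    have h4 : Fintype.card (Fin k) ≤ Fintype.card GolayPt := by
      rw [Fintype.card_fin]
      exact hk
    obtain ⟨e⟩ := Function.Embedding.nonempty_of_card_le h4
    exact h3 (Finset.mem_univ (e : Fin k → GolayPt)) e.injective
  have hiter : ∀ (n : ℕ) (e : E) (i : GolayPt), (w ((σ : E → E)^[n] e)).toAdd ((el P) ^ n • i) = (w e).toAdd i := by
    intro n
    induction n with
    | zero => intro e i; rw [pow_zero, one_smul]; rfl
    | succ n ih =>
      intro e i
      rw [Function.iterate_succ_apply', pow_succ', mul_smul, hσ]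
      exact ih e i
  obtain ⟨ψ, hψ⟩ := exists_constituent hW hW0
  refine ⟨ψ, dvd_of_free p f x σ hx ?_ hW ?_ ψ hψ, ?_⟩
  · intro e
    apply hw
    apply Multiplicative.toAdd.injective
    funext i
    have h := hiter p e i
    rwa [hPp, one_smul] at h
  · intro η hη h0
    have hWf' : W ∘ f = ∑ j : Fin k → GolayPt,
        (((k.factorial : ℂ))⁻¹ * (if Function.Injective j then (1 : ℂ) else 0)) •
          (fun e => ((lamH w j e : ℂˣ) : ℂ)) := by
      funext e
      rw [Function.comp_apply, hWf, altk_diagonal, Finset.sum_apply, Finset.mul_sum]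
      refine Finset.sum_congr rfl fun j _ => ?_
      rw [Pi.smul_apply, smul_eq_mul, mul_assoc, lamH_apply, sgnC_sum]
    have hlam : ∀ j : Fin k → GolayPt, IsIrrCharacter E (fun e => ((lamH w j e : ℂˣ) : ℂ)) := fun j =>
      Cfsg.Agent.CharDeep.LinearChar.isIrrCharacter_of_hom (lamH w j)
    have h1 : ∃ j : Fin k → GolayPt, (((k.factorial : ℂ))⁻¹ * (if Function.Injective j then (1 : ℂ) else 0)) ≠ 0 ∧
        (fun e => ((lamH w j e : ℂˣ) : ℂ)) = η := by
      by_contra hcon
      push Not at hcon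
      apply h0
      rw [hWf', Cfsg.Agent.Characters.Core.classInner_sum_left, Finset.sum_eq_zero]
      intro j _
      rw [Cfsg.Agent.Characters.Core.classInner_smul_left]
      by_cases hc : (((k.factorial : ℂ))⁻¹ * (if Function.Injective j then (1 : ℂ) else 0)) = 0
      · rw [hc, zero_mul]
      · rw [Cfsg.Agent.Characters.Core.classInner_irr_ne (hlam j) hη (hcon j hc), mul_zero]
    obtain ⟨j, hj, rfl⟩ := h1
    intro hcon
    have hj' : Function.Injective j := by
      by_contra h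
      rw [if_neg h, mul_zero] at hj
      exact hj rfl
    have hinj : Function.Injective fun t => (el P)⁻¹ • j t := fun s t h => hj' (MulAction.injective _ h)
    obtain ⟨m, hm, hne⟩ := exists_moved hP hchk hinj
    obtain ⟨e, he⟩ := hbs m hm
    have h1 := congrFun hcon e
    simp only [Function.comp_apply] at h1
    rw [lamH_apply, lamH_apply] at h1
    have h2 := sgnC_injective h1
    apply hne
    simp only [smul_inv_smul]
    rw [← he, ← h2]
    refine Finset.sum_congr rfl fun t _ => ?_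
    rw [← hσ e, smul_inv_smul]
  · have h1 : W 1 = (((Finset.univ.filter fun i : Fin k → GolayPt => Function.Injective i).card : ℕ) : ℂ) /
        (k.factorial : ℂ) := by
      rw [hW1, Finset.sum_boole, div_eq_inv_mul]
    obtain ⟨d, ρ, hρ⟩ := hW
    have h2 : W 1 = (d : ℂ) := by
      rw [← hρ, Representation.char_one]
      simp only [_root_.Module.finrank_fintype_fun_eq_card, _root_.Fintype.card_fin]
    have h3 : charDegree (ψ : G → ℂ) ≤ d :=
      Cfsg.Agent.H597.Base.degree_le_of_constituent ⟨d, ρ, hρ⟩ ψ.2 h2 hψ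
    have h4 : k.factorial * d = (Finset.univ.filter fun i : Fin k → GolayPt => Function.Injective i).card := by
      have h5 : ((k.factorial : ℂ)) ≠ 0 := by exact_mod_cast k.factorial_ne_zero
      rw [h2, eq_div_iff h5] at h1
      rw [mul_comm]
      exact_mod_cast h1
    have h5 : (Finset.univ.filter fun i : Fin k → GolayPt => Function.Injective i).card ≤ 24 ^ k := by
      refine (Finset.card_le_univ _).trans ?_
      rw [Fintype.card_fun, Fintype.card_fin]
      exact le_of_eq rfl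
    exact (Nat.mul_le_mul_left _ h3).trans (h4.le.trans h5)

end

/-- **An irreducible character of `Co₂` of degree divisible by `7` and at most `13824`.** -/
theorem exists_seven : ∃ χ : IrrCharacter Spor.Co2, 7 ∣ charDegree (χ : Spor.Co2 → ℂ) ∧
    charDegree (χ : Spor.Co2 → ℂ) ≤ 13824 := by
  classical
  have : Fact (Nat.Prime 7) := ⟨by norm_num⟩
  have := Fintype.ofFinite Spor.Co2
  have := Fintype.ofFinite (Multiplicative C2)
  have hfix := fixQ7
  have hP := okQ7
  rw [Bool.and_eq_true] at hfix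
  have h1 : el Q7 • (none : GolayPt) = none := by
    apply idx_injective
    rw [idx_el_smul hP]
    exact Nat.eq_of_beq_eq_true hfix.1
  have h2 : el Q7 • (some 0 : GolayPt) = some 0 := by
    apply idx_injective
    rw [idx_el_smul hP]
    exact Nat.eq_of_beq_eq_true hfix.2
  obtain ⟨χ, h3, h4⟩ := deg_lam (p := 7) (k := 4) (E := Multiplicative C2) (G := Spor.Co2) (by norm_num) _root_.Cfsg.Agent.H843.IMC.LamCo2.wd (by
    intro a b h
    exact Subtype.ext (Subtype.ext h)) _root_.Cfsg.Agent.H843.IMC.LamCo2.sg hP (el_pow_eq_one okQ7 powQ7) (_root_.Cfsg.Agent.H843.IMC.LamCo2.wp (el Q7) h1 h2) (by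
    intro e i
    show ((e.toAdd : golayCode) : GolayPt → ZMod 2) (((el Q7 : M24) : Equiv.Perm GolayPt).symm
      (((el Q7 : M24) : Equiv.Perm GolayPt) i)) = _
    rw [Equiv.symm_apply_apply]
    rfl) (of (permCo0 (el Q7)) (perm_fix _ h1 h2)) (by
    intro e
    apply inc_injective
    rw [map_mul, map_mul, map_inv, inc_of]
    show signCo0 (wordPerm (el Q7) (e.toAdd : golayCode)) =
      permCo0 (el Q7) * signCo0 (e.toAdd : golayCode) * (permCo0 (el Q7))⁻¹
    rw [← perm_mul_sign_mul_inv]) (isCharacter_altk 4 (matH.comp inc)) (by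
    intro e
    show altk 4 (matC (signCo0 (e.toAdd : golayCode))) = _
    rw [matC_sign]
    rfl) (bs := masks) (fun m hm => mem_of_mem_masks hm) chkQ7
  refine ⟨χ, h3, ?_⟩
  have h5 : (4 : ℕ).factorial = 24 := by decide
  rw [h5] at h4
  norm_num at h4
  omega

theorem two_seven : Two 7 Spor.Co2 := by
  obtain ⟨χ, h1, h2⟩ := exists_seven
  obtain ⟨ψ, h3⟩ := Cfsg.Agent.H714.DG.CoTwoX.exists_44275
  exact two_of_degree_ne χ ψ h1 (by rw [h3]; norm_num) (by omega)

/-- **`Co₂`, all primes up to `2` and `3`.** -/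
theorem two_co2_of {S : Type u} [Group S] (h : Cfsg.Spor.IsoCo2 S) {p : ℕ} [hp : Fact p.Prime]
    (hd : p ∣ Nat.card S) (h2 : Two 2 Spor.Co2) (h3 : Two 3 Spor.Co2) : TwoOr p S := by
  refine twoOr_of h hd fun hd => ?_
  have h0 := prime_mem hp.out (L := [(23, 1), (11, 1), (7, 1), (5, 3), (3, 6), (2, 18)]) (by norm_num)
    (N := 42305421312000) (by decide +kernel) (Cfsg.Agent.H843.IMC.Co2A.card_co2 ▸ hd)
  simp only [List.map_cons, List.map_nil, List.mem_cons, List.not_mem_nil, or_false] at h0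
  rcases h0 with rfl | rfl | rfl | rfl | rfl | rfl
  · exact two_of_degs Co2A.hasDeg_23 Co2A.hasDeg_2024_275.1 (by norm_num) (by norm_num) (by norm_num)
  · exact two_of_degs Co2A.hasDeg_2024_275.1 Co2A.hasDeg_2024_275.2 (by norm_num) (by norm_num) (by norm_num)
  · exact two_seven
  · exact two_of_degs Co2A.hasDeg_2024_275.2 Cfsg.Agent.H714.DG.CoTwoX.exists_44275 (by norm_num) (by norm_num)
      (by norm_num)
  · exact h3
  · exact h2

end Cfsg.Agent.H566.Two.CoTwoA
end

-- part: H651/Two/Co2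
section
/-!
# `Co₂`: two characters of degree divisible by `p`

A degree divisible by `6` and the degrees `2024`, `2277`.
-/

set_option autoImplicit false

namespace Cfsg.Agent.H651.Two.Co2

open Cfsg Cfsg.Agent.H596.OneFacts Cfsg.Agent.H843.IMC

universe u

theorem two_two : Two 2 Spor.Co2 := by
  obtain ⟨χ, hχ⟩ := Co2C.hasDvd_six
  obtain ⟨ψ, hψ⟩ := Co2A.hasDeg_2024_275.1
  exact two_of_degree_ne χ ψ (dvd_trans (by norm_num) hχ) (by rw [hψ]; norm_num) (by omega)

theorem two_three : Two 3 Spor.Co2 := by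
  obtain ⟨χ, hχ⟩ := Co2C.hasDvd_six
  obtain ⟨ψ, hψ⟩ := Co2B.hasDeg_2277
  exact two_of_degree_ne χ ψ (dvd_trans (by norm_num) hχ) (by rw [hψ]; norm_num) (by omega)

/-- **`Co₂`.** -/
theorem two_co2 {S : Type u} [Group S] (h : Cfsg.Spor.IsoCo2 S) {p : ℕ} [hp : Fact p.Prime]
    (hd : p ∣ Nat.card S) : TwoOr p S :=
  Cfsg.Agent.H566.Two.CoTwoA.two_co2_of h hd two_two two_three

end Cfsg.Agent.H651.Two.Co2
end

-- part: H805/Two/RuCert
section
/-!
# `Ru`: the linear programming certificate for `p = 2` (generated with the tools of helper651)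
-/

set_option autoImplicit false
set_option maxRecDepth 100000

open Cfsg Subgroup

namespace Cfsg.Agent.H805.Two.Ru

open Cfsg.Agent.H653.Sieve Cfsg.Agent.Characters.Core Cfsg.Agent.H596.OneFacts Cfsg.Agent.H651.Two

universe u

variable {G : Type u} [Group G] [Finite G] [IsSimpleGroup G]

/-- The columns. -/
def cd : List CD :=
  [⟨29, 1, 14, 2, [(0, 0), (1, 2), (14, -1), (15, 1), (28, -2)], 2, true⟩,
    ⟨13, 4, 12, 1, [(0, 0), (1, 1), (2, 2), (3, 3), (10, -3), (11, -2), (12, -1)], 0, false⟩,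
    ⟨7, 4, 6, 1, [(0, 0), (1, 1), (2, 2), (3, 3), (4, -3), (5, -2), (6, -1)], 0, false⟩]

def pr : List ((ℕ → Bool) × ℕ) := [(fun d => Nat.beq d 783, 1), (fun d => Nat.beq d 3276, 1)]

theorem ok : (cd.all (CD.ok 145926144000)) = true := by decide +kernel

theorem nd : (cd.map CD.r).Nodup := by decide

def facs : List (ℕ × ℕ) := [(29, 1), (13, 1), (7, 1), (5, 3), (3, 3), (2, 14)]

theorem facs_prime : (facs.all fun pa => Nat.Prime pa.1) = true := by norm_num [facs]

theorem facs_prod : facProd facs = 145926144000 := by decide +kernel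

/-! ### `p = 2` -/

def c2 : List Cert :=
  [⟨0, [⟨10, -5506, 10000, [145, -4932]⟩, ⟨0, 0, 0, [0]⟩, ⟨0, 0, 0, []⟩], [0, 6466], -274236⟩]

theorem h1_2 : (c2.all (headOK 145926144000 (cd.map CD.par) pr)) = true := by decide +kernel

def kn2 : List (ℕ → Bool) := [fun d => Nat.beq d 3276]

theorem h2_2 : allDiv 145926144000 (scenD 145926144000 2 1 (cd.map CD.par) pr kn2
    (cd.map CD.t) (fun _ _ _ => true) c2) facs 1 = true := by decide +kernel

theorem two_2 (hG : ¬ IsMulCommutative G) (hN : Nat.card G = 145926144000) (hM : Nat.card (Out G) ≤ 1)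
    (hx : ∀ d ∈ cd, d.Has G) (hpr : ∀ Pc ∈ pr, Pc.2 ≤ Nat.card {χ : IrrCharacter G // Pc.1 (charDegree (χ : G → ℂ)) = true}) (hkn : ∀ P ∈ kn2, ∃ χ ∈ PD 2 G, P (charDegree (χ : G → ℂ)) = true) : Two 2 G := by
  have : Fact (Nat.Prime 2) := ⟨by norm_num⟩
  exact two_of_data hG 145926144000 1 hN hM facs facs_prime facs_prod cd ok nd hx pr
    hpr kn2 hkn c2 h1_2 (by decide) h2_2


end Cfsg.Agent.H805.Two.Ru
end

-- part: H805/Two/Klein
section
/-!
# Centralizers `p × 2²` (helper805)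

`x` of odd prime order `p`, `t`, `u` two commuting involutions in `C(x)`, `|C(x)| ≤ 4 p`:
* `mem` : the elements of `C(x)` are the `x ^ k * v`, `v ∈ {1, t, u, t u}`;
* `comm` : `C(x)` is commutative;
* `not_isConj` : `x v` and `x w` are not conjugate for `v ≠ w`;
* `numCls_le_two` : if `n` normalizes `⟨x⟩` and permutes the involutions as a 3-cycle: `numCls p ⟨x⟩ ≤ 2`.
-/

set_option autoImplicit false

open Cfsg

namespace Cfsg.Agent.H805.Two.Klein

open Subgroup Cfsg.Agent.Blocks.Local Cfsg.Agent.H593.IMCyc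

universe u

/-- The data. -/
structure Dat {G : Type u} [Group G] (p : ℕ) (x t u : G) : Prop where
  hx : orderOf x = p
  hp2 : ¬ 2 ∣ p
  tt : t * t = 1
  uu : u * u = 1
  tu : t * u = u * t
  tx : t * x = x * t
  ux : u * x = x * u
  t1 : t ≠ 1
  u1 : u ≠ 1
  ne : t ≠ u
  hC : Nat.card (centralizer ({x} : Set G)) ≤ 4 * p

variable {G : Type u} [Group G] {p : ℕ} {x t u : G}

/-- The four elements. -/
def v (t u : G) : Fin 4 → G := ![1, t, u, t * u]

theorem Dat.v_sq (D : Dat p x t u) (i : Fin 4) : v t u i * v t u i = 1 := by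
  fin_cases i
  · exact one_mul 1
  · exact D.tt
  · exact D.uu
  · show t * u * (t * u) = 1
    calc t * u * (t * u) = t * (u * t) * u := by group
      _ = t * (t * u) * u := by rw [D.tu]
      _ = (t * t) * (u * u) := by group
      _ = 1 := by rw [D.tt, D.uu, one_mul]

theorem Dat.v_x (D : Dat p x t u) (i : Fin 4) : v t u i * x = x * v t u i := by
  fin_cases i
  · show 1 * x = x * 1
    rw [one_mul, mul_one]
  · exact D.tx
  · exact D.ux
  · show t * u * x = x * (t * u)
    rw [mul_assoc, D.ux, ← mul_assoc, D.tx, mul_assoc]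

theorem Dat.v_comm (D : Dat p x t u) (i j : Fin 4) : v t u i * v t u j = v t u j * v t u i := by
  have htu : Commute t u := D.tu
  have hc : ∀ i : Fin 4, Commute (v t u i) t ∧ Commute (v t u i) u := by
    intro i
    fin_cases i
    · exact ⟨Commute.one_left _, Commute.one_left _⟩
    · exact ⟨Commute.refl _, htu⟩
    · exact ⟨htu.symm, Commute.refl _⟩
    · exact ⟨Commute.mul_left (Commute.refl _) htu.symm, Commute.mul_left htu (Commute.refl _)⟩
  fin_cases j
  · exact (Commute.one_right _).eq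
  · exact (hc i).1.eq
  · exact (hc i).2.eq
  · exact ((hc i).1.mul_right (hc i).2).eq

theorem Dat.v_inj (D : Dat p x t u) : Function.Injective (v t u) := by
  have h3 : t * u ≠ 1 := fun h => D.ne (by
    have := mul_left_cancel (h.trans D.tt.symm)
    exact this.symm)
  have h4 : t * u ≠ t := fun h => D.u1 (by
    have := mul_left_cancel (h.trans (mul_one t).symm)
    exact this)
  have h5 : t * u ≠ u := fun h => D.t1 (by
    have := mul_right_cancel (h.trans (one_mul u).symm)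
    exact this)
  intro i j hij
  fin_cases i <;> fin_cases j
  · rfl
  · exact absurd hij.symm D.t1
  · exact absurd hij.symm D.u1
  · exact absurd hij.symm h3
  · exact absurd hij D.t1
  · rfl
  · exact absurd hij D.ne
  · exact absurd hij.symm h4
  · exact absurd hij D.u1
  · exact absurd hij.symm D.ne
  · rfl
  · exact absurd hij.symm h5
  · exact absurd hij h3
  · exact absurd hij h4
  · exact absurd hij h5
  · rfl

theorem Dat.odd (D : Dat p x t u) : ∃ k, p = 2 * k + 1 := ⟨p / 2, by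
  have := D.hp2
  omega⟩

theorem Dat.v_pow (D : Dat p x t u) (i : Fin 4) : v t u i ^ p = v t u i := by
  obtain ⟨k, hk⟩ := D.odd
  rw [hk, pow_succ, pow_mul, pow_two, D.v_sq, one_pow, one_mul]

theorem Dat.pow_eq (D : Dat p x t u) (i : Fin 4) (k : ℕ) : (x ^ k * v t u i) ^ p = v t u i := by
  have h : Commute (x ^ k) (v t u i) := (show Commute x (v t u i) from (D.v_x i).symm).pow_left k
  rw [h.mul_pow, D.v_pow, ← pow_mul, mul_comm k p, pow_mul, ← D.hx, pow_orderOf_eq_one, one_pow, one_mul]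

theorem Dat.mem_cent (D : Dat p x t u) (k : ℕ) (i : Fin 4) :
    x ^ k * v t u i ∈ centralizer ({x} : Set G) := by
  rw [mem_centralizer_singleton_iff, mul_assoc, D.v_x, ← mul_assoc, ← mul_assoc, ← pow_succ, ← pow_succ']

/-- **The elements of the centralizer.** -/
theorem Dat.mem [Finite G] (D : Dat p x t u) (hp : 0 < p) {c : G} (hc : c * x = x * c) :
    ∃ k : ℕ, ∃ i : Fin 4, c = x ^ k * v t u i := by
  let f : Fin p × Fin 4 → centralizer ({x} : Set G) := fun a => ⟨x ^ (a.1 : ℕ) * v t u a.2, D.mem_cent _ _⟩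
  have hf : Function.Injective f := by
    rintro ⟨k, i⟩ ⟨l, j⟩ h
    have h1 : x ^ (k : ℕ) * v t u i = x ^ (l : ℕ) * v t u j := congrArg Subtype.val h
    have h2 : v t u i = v t u j := by rw [← D.pow_eq i k, ← D.pow_eq j l, h1]
    have h3 : i = j := D.v_inj h2
    subst h3
    have h4 : x ^ (k : ℕ) = x ^ (l : ℕ) := mul_right_cancel h1
    have h5 := pow_injOn_Iio_orderOf (x := x) (by rw [D.hx]; exact k.2) (by rw [D.hx]; exact l.2) h4
    exact Prod.ext (Fin.ext h5) rfl
  have hb : Function.Bijective f := by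
    refine Function.Injective.bijective_of_nat_card_le hf ?_
    rw [Nat.card_prod, Nat.card_fin, Nat.card_fin]
    exact D.hC.trans (by rw [mul_comm])
  obtain ⟨⟨k, i⟩, h⟩ := hb.2 ⟨c, mem_centralizer_singleton_iff.2 hc⟩
  exact ⟨k, i, (congrArg Subtype.val h).symm⟩

/-- The centralizer is commutative. -/
theorem Dat.comm [Finite G] (D : Dat p x t u) (hp : 0 < p) {c d : G} (hc : c * x = x * c)
    (hd : d * x = x * d) : c * d = d * c := by
  obtain ⟨k, i, rfl⟩ := D.mem hp hc
  obtain ⟨l, j, rfl⟩ := D.mem hp hd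
  have h1 : Commute x (v t u i) := (D.v_x i).symm
  have h2 : Commute x (v t u j) := (D.v_x j).symm
  have h3 : Commute (v t u i) (v t u j) := D.v_comm i j
  have h4 : Commute (x ^ k * v t u i) (x ^ l * v t u j) :=
    Commute.mul_left (Commute.mul_right (Commute.pow_pow (Commute.refl x) k l) (h2.pow_left k))
      (Commute.mul_right (h1.symm.pow_right l) h3)
  exact h4.eq

theorem Dat.card [Finite G] (D : Dat p x t u) : Nat.card (centralizer ({x} : Set G)) = 4 * p := by
  apply le_antisymm D.hC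
  let f : Fin p × Fin 4 → centralizer ({x} : Set G) := fun a => ⟨x ^ (a.1 : ℕ) * v t u a.2, D.mem_cent _ _⟩
  have hf : Function.Injective f := by
    rintro ⟨k, i⟩ ⟨l, j⟩ h
    have h1 : x ^ (k : ℕ) * v t u i = x ^ (l : ℕ) * v t u j := congrArg Subtype.val h
    have h2 : v t u i = v t u j := by rw [← D.pow_eq i k, ← D.pow_eq j l, h1]
    have h3 : i = j := D.v_inj h2
    subst h3
    have h4 : x ^ (k : ℕ) = x ^ (l : ℕ) := mul_right_cancel h1
    have h5 := pow_injOn_Iio_orderOf (x := x) (by rw [D.hx]; exact k.2) (by rw [D.hx]; exact l.2) h4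
    exact Prod.ext (Fin.ext h5) rfl
  have h := Nat.card_le_card_of_injective f hf
  rw [Nat.card_prod, Nat.card_fin, Nat.card_fin, mul_comm] at h
  exact h

/-- The order of `x v`. -/
theorem Dat.order (D : Dat p x t u) (i : Fin 4) (hi : i ≠ 0) : orderOf (x * v t u i) = 2 * p := by
  have h1 : orderOf (v t u i) = 2 := by
    apply orderOf_eq_prime
    · rw [pow_two]; exact D.v_sq i
    · intro h
      exact hi (D.v_inj (a₂ := 0) h)
  have h2 : Commute x (v t u i) := (D.v_x i).symm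
  have hc : (orderOf x).Coprime (orderOf (v t u i)) := by
    rw [D.hx, h1, Nat.coprime_comm]
    exact (Nat.Prime.coprime_iff_not_dvd Nat.prime_two).2 D.hp2
  rw [h2.orderOf_mul_eq_mul_orderOf_of_coprime hc, D.hx, h1, mul_comm]

/-- **`x v` and `x w` are not conjugate.** -/
theorem Dat.not_isConj [Finite G] (D : Dat p x t u) (hp : 0 < p) {i j : Fin 4} (hij : i ≠ j) :
    ¬ IsConj (x * v t u i) (x * v t u j) := by
  intro h
  obtain ⟨g, hg⟩ := isConj_iff.1 h
  have e1 : ∀ i, (x * v t u i) ^ p = v t u i := by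
    intro i
    have := D.pow_eq i 1
    rwa [pow_one] at this
  have h1 : g * v t u i * g⁻¹ = v t u j := by
    rw [← e1 i, ← e1 j, ← hg, conj_pow]
  have h2 : g * x * g⁻¹ = x := by
    have h3 : g * x * g⁻¹ * (g * v t u i * g⁻¹) = x * v t u j := by
      rw [← hg]; group
    rw [h1] at h3
    exact mul_right_cancel h3
  have h3 : g * x = x * g := by
    calc g * x = (g * x * g⁻¹) * g := by group
      _ = x * g := by rw [h2]
  have h4 := D.comm hp h3 (D.v_x i)
  apply hij
  apply D.v_inj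
  rw [← h1, h4]
  group

/-- The elements of `C(x)` of order prime to `p`. -/
theorem Dat.regular [Finite G] (D : Dat p x t u) (hp : p.Prime) {c : G} (hc : c * x = x * c)
    (h : ¬ p ∣ orderOf c) : ∃ i : Fin 4, c = v t u i := by
  obtain ⟨k, i, rfl⟩ := D.mem hp.pos hc
  refine ⟨i, ?_⟩
  have h1 : Commute (x ^ k) (v t u i) := (show Commute x (v t u i) from (D.v_x i).symm).pow_left k
  have h2 : (x ^ k * v t u i) ^ 2 = (x ^ k) ^ 2 := by
    rw [h1.mul_pow, pow_two (v t u i), D.v_sq, mul_one]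
  have h3 : ((x ^ k) ^ 2) ^ p = 1 := by
    rw [← pow_mul, ← pow_mul, show k * (2 * p) = p * (k * 2) by ring, pow_mul, ← D.hx, pow_orderOf_eq_one, one_pow]
  have h4 : orderOf ((x ^ k) ^ 2) ∣ p := orderOf_dvd_of_pow_eq_one h3
  have h5 : orderOf ((x ^ k) ^ 2) ∣ orderOf (x ^ k * v t u i) := by
    rw [← h2]; exact orderOf_pow_dvd 2
  have h6 : (x ^ k) ^ 2 = 1 := by
    rcases (Nat.dvd_prime hp).1 h4 with h6 | h6
    · exact orderOf_eq_one_iff.1 h6
    · exact absurd (h6 ▸ h5) h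
  have h7 : orderOf (x ^ k) ∣ 2 := orderOf_dvd_of_pow_eq_one h6
  have h8 : orderOf (x ^ k) ∣ p := by rw [← D.hx]; exact orderOf_pow_dvd k
  have h9 : orderOf (x ^ k) = 1 := by
    rcases (Nat.dvd_prime Nat.prime_two).1 h7 with h9 | h9
    · exact h9
    · exact absurd (h9 ▸ h8) D.hp2
  rw [orderOf_eq_one_iff.1 h9, one_mul]

/-- **At most two classes.** -/
theorem Dat.numCls_le_two [Finite G] (D : Dat p x t u) (hp : p.Prime) {n : G} {r : ℕ}
    (hn : n * x = x ^ r * n) (h1 : n * t = u * n) (h2 : n * u = t * u * n) :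
    numCls p (zpowers x) ≤ 2 := by
  have hN : n ∈ normalizer ((zpowers x : Subgroup G) : Set G) := by
    have hle : map (MulAut.conj n).toMonoidHom (zpowers x) ≤ zpowers x := by
      rw [MonoidHom.map_zpowers, zpowers_le]
      refine ⟨(r : ℤ), ?_⟩
      show x ^ (r : ℤ) = n * x * n⁻¹
      rw [hn, zpow_natCast]
      group
    have heq : map (MulAut.conj n).toMonoidHom (zpowers x) = zpowers x :=
      Subgroup.eq_of_le_of_card_ge hle (Subgroup.card_map_of_injective (MulAut.conj n).injective).ge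
    rw [mem_normalizer_iff]
    intro y
    constructor
    · intro hy
      have : (MulAut.conj n).toMonoidHom y ∈ map (MulAut.conj n).toMonoidHom (zpowers x) := ⟨y, hy, rfl⟩
      rw [heq] at this
      exact this
    · intro hy
      have h3 : n * y * n⁻¹ ∈ map (MulAut.conj n).toMonoidHom (zpowers x) := by rw [heq]; exact hy
      obtain ⟨z, hz, hz'⟩ := h3
      have h4 : z = y := (MulAut.conj n).injective hz'
      rw [← h4]
      exact hz
  refine (Cfsg.Agent.H314.LyOrb.IMSeven.numCls_le_norm p (zpowers x) (![1, t] : Fin 2 → G) ?_).trans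
    (by rw [Fintype.card_fin])
  intro c hc h
  have hc' : c * x = x * c := by
    have := mem_centralizer_iff.1 hc x (mem_zpowers x)
    exact this.symm
  obtain ⟨i, rfl⟩ := D.regular hp hc' h
  fin_cases i
  · exact ⟨0, 1, one_mem _, by show (1 : G) * 1 * 1⁻¹ = 1; group⟩
  · exact ⟨1, 1, one_mem _, by show (1 : G) * t * 1⁻¹ = t; group⟩
  · exact ⟨1, n, hN, by show n * t * n⁻¹ = u; rw [h1]; group⟩
  · refine ⟨1, n * n, mul_mem hN hN, ?_⟩
    show n * n * t * (n * n)⁻¹ = t * u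
    rw [mul_assoc n n t, h1, ← mul_assoc, h2]
    group

end Cfsg.Agent.H805.Two.Klein
end

-- part: H805/Two/Ru
section
/-!
# The Rudvalis group: two characters of degree divisible by `p` (helper805)

* 2: linear programming; 3: degrees 783, 3276; 5: the centralizer `5 × A₅`;
* 7, 13, 29: the number of `p`-regular classes is larger than in the blocks with cyclic defect group.
-/

set_option autoImplicit false
set_option maxRecDepth 100000

universe u

namespace Cfsg.Agent.H805.Two.Ru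

open Subgroup Cfsg
open Cfsg.Agent.SporadicB Cfsg.Agent.RuD.Letters Cfsg.Agent.SporRec.TCUpperCert
open Cfsg.Agent.KFacts.Ru Cfsg.Agent.KFacts.Ru.CentEng Cfsg.Agent.CpAutRuFive
open Cfsg.Agent.H651.Two Cfsg.Agent.H596.OneFacts Cfsg.Agent.H653.Sieve Cfsg.Agent.Characters.Core
open Cfsg.Agent.H805.Two.Klein

/-! ### Words -/

/-- the involutions in the centralizer of `f` -/
def wt : List ℕ := [0]
def wu : List ℕ := [4, 0, 8]
def wn : List ℕ := [2, 1, 1, 7, 1, 7, 4]

theorem evalK_ne {w : List ℕ} {b : ℕ} (hb : b < 4060) (h : Nat.beq (evalK w b) b = false) :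
    (wprod ml w : RuOrder.H) ≠ 1 := by
  intro h1
  have h2 := evalK_eq w ⟨b, hb⟩
  rw [h1] at h2
  have h3 : evalK w b = b := h2.symm
  rw [h3, Nat.beq_refl] at h
  exact absurd h (by decide)

theorem k_tt : chkEq [0, 0] [] = true := by decide +kernel
theorem k_uu : chkEq [4, 0, 8, 4, 0, 8] [] = true := by decide +kernel
theorem k_tu : chkEq [0, 4, 0, 8] [4, 0, 8, 0] = true := by decide +kernel
theorem k_t1 : Nat.beq (evalK [0] 0) 0 = false := by decide +kernel
theorem k_u1 : Nat.beq (evalK [4, 0, 8] 0) 0 = false := by decide +kernel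
theorem k_tu1 : Nat.beq (evalK [0, 4, 0, 8] 0) 0 = false := by decide +kernel
theorem k_t7 : chkEq [0, 3] [3, 0] = true := by decide +kernel
theorem k_u7 : chkEq [4, 0, 8, 3] [3, 4, 0, 8] = true := by decide +kernel
theorem k_t13 : chkEq [0, 1, 2, 7] [1, 2, 7, 0] = true := by decide +kernel
theorem k_u13 : chkEq [4, 0, 8, 1, 2, 7] [1, 2, 7, 4, 0, 8] = true := by decide +kernel
theorem k_n7 : chkEq [4, 3] [3, 3, 4] = true := by decide +kernel
theorem k_nt : chkEq [4, 0] [4, 0, 8, 4] = true := by decide +kernel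
theorem k_nu : chkEq [4, 4, 0, 8] [0, 4, 0, 8, 4] = true := by decide +kernel
theorem k_m13 : chkEq [2, 1, 1, 7, 1, 7, 4, 1, 2, 7] [1, 2, 7, 1, 2, 7, 1, 2, 7, 2, 1, 1, 7, 1, 7, 4] = true := by
  decide +kernel
theorem k_mt : chkEq [2, 1, 1, 7, 1, 7, 4, 0] [4, 0, 8, 2, 1, 1, 7, 1, 7, 4] = true := by decide +kernel
theorem k_mu : chkEq [2, 1, 1, 7, 1, 7, 4, 4, 0, 8] [0, 4, 0, 8, 2, 1, 1, 7, 1, 7, 4] = true := by decide +kernel

theorem rel2 {a b c d : List ℕ} (h : chkEq (a ++ b) (c ++ d) = true) :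
    (wprod ml a : RuOrder.H) * wprod ml b = wprod ml c * wprod ml d := by
  have := eq_of_chkEq h
  rwa [wprod_append, wprod_append] at this

theorem ne_tu : (wprod ml wt : RuOrder.H) ≠ wprod ml wu := by
  intro h
  apply evalK_ne (b := 0) (by norm_num) k_tu1
  have h1 : (wprod ml [0, 4, 0, 8] : RuOrder.H) = wprod ml wt * wprod ml wu := wprod_append _ wt wu
  rw [h1, ← h]
  exact (wprod_append _ wt wt).symm.trans (eq_of_chkEq k_tt)

theorem dat7 : Dat 7 (wprod ml H148.Ru.wC : RuOrder.H) (wprod ml wt) (wprod ml wu) where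
  hx := H148.Ru.orderC
  hp2 := by norm_num
  tt := (wprod_append _ wt wt).symm.trans (eq_of_chkEq k_tt)
  uu := (wprod_append _ wu wu).symm.trans (eq_of_chkEq k_uu)
  tu := rel2 k_tu
  tx := rel2 k_t7
  ux := rel2 k_u7
  t1 := evalK_ne (by norm_num) k_t1
  u1 := evalK_ne (by norm_num) k_u1
  ne := ne_tu
  hC := by
    rw [H436.TwoRu.cen_eq]
    exact H148.Ru.card_C

theorem dat13 : Dat 13 (wprod ml H436.RuCent.wB : RuOrder.H) (wprod ml wt) (wprod ml wu) where
  hx := H436.RuCent.orderB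
  hp2 := by norm_num
  tt := (wprod_append _ wt wt).symm.trans (eq_of_chkEq k_tt)
  uu := (wprod_append _ wu wu).symm.trans (eq_of_chkEq k_uu)
  tu := rel2 k_tu
  tx := rel2 k_t13
  ux := rel2 k_u13
  t1 := evalK_ne (by norm_num) k_t1
  u1 := evalK_ne (by norm_num) k_u1
  ne := ne_tu
  hC := by
    rw [H436.TwoRu.cen_eq]
    exact H436.RuCent.card_B

theorem num7 : Cfsg.Agent.H593.IMCyc.numCls 7 (zpowers (wprod ml H148.Ru.wC : RuOrder.H)) ≤ 2 := by
  have := H436.TwoRu.finite_H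
  refine dat7.numCls_le_two (by norm_num) (n := wprod ml [4]) (r := 2) ?_ (rel2 k_nt) ?_
  · have h := rel2 (a := [4]) (b := [3]) (c := [3, 3]) (d := [4]) k_n7
    rw [show (wprod ml [3, 3] : RuOrder.H) = wprod ml [3] * wprod ml [3] from wprod_append _ [3] [3], ← pow_two] at h
    exact h
  · have h := rel2 (a := [4]) (b := wu) (c := [0, 4, 0, 8]) (d := [4]) k_nu
    rw [show (wprod ml [0, 4, 0, 8] : RuOrder.H) = wprod ml wt * wprod ml wu from wprod_append _ wt wu] at h
    exact h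

theorem num13 : Cfsg.Agent.H593.IMCyc.numCls 13 (zpowers (wprod ml H436.RuCent.wB : RuOrder.H)) ≤ 2 := by
  have := H436.TwoRu.finite_H
  refine dat13.numCls_le_two (by norm_num) (n := wprod ml wn) (r := 3) ?_ (rel2 k_mt) ?_
  · have h := rel2 (a := wn) (b := [1, 2, 7]) (c := [1, 2, 7, 1, 2, 7, 1, 2, 7]) (d := wn) k_m13
    rw [show (wprod ml [1, 2, 7, 1, 2, 7, 1, 2, 7] : RuOrder.H) = wprod ml [1, 2, 7] ^ 3 by
      rw [pow_succ, pow_two, ← wprod_append, ← wprod_append]; rfl] at h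
    exact h
  · have h := rel2 (a := wn) (b := wu) (c := [0, 4, 0, 8]) (d := wn) k_mu
    rw [show (wprod ml [0, 4, 0, 8] : RuOrder.H) = wprod ml wt * wprod ml wu from wprod_append _ wt wu] at h
    exact h

/-! ### The classes -/

/-- the representatives of order `n` -/
noncomputable def dn (n : ℕ) : List (List ℕ × ℕ × ℕ × List ℕ) :=
  H153.Zeros.RuCls.data.filter fun d => Nat.beq d.2.1 n

noncomputable def ln (n : ℕ) : List RuOrder.H := (dn n).map fun d => wprod ml d.1

theorem ln_order (n : ℕ) : ∀ g ∈ ln n, orderOf g = n := by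
  intro g hg
  obtain ⟨d, hd, rfl⟩ := List.mem_map.1 hg
  obtain ⟨h1, h2⟩ := List.mem_filter.1 hd
  have h3 := List.all_eq_true.1 H153.Zeros.RuCls.data_chk d h1
  have h4 := (H153.Zeros.RuCls.hasOrd_of_chk (H153.Zeros.RuCls.data_primes d h1) h3).1
  exact h4.trans (Nat.eq_of_beq_eq_true h2)

theorem ln_pairwise (n : ℕ) : (ln n).Pairwise fun a b => ¬ IsConj a b := by
  rw [ln, List.pairwise_map]
  have h1 := H153.Zeros.RuCls.data_nodup
  rw [List.Nodup, List.pairwise_map] at h1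
  have h2 := List.all_eq_true.1 H153.Zeros.RuCls.data_chk
  have h0 : (dn n).Pairwise fun a b => (a.2.1, a.2.2.1) ≠ (b.2.1, b.2.2.1) :=
    List.Pairwise.sublist List.filter_sublist h1
  refine List.Pairwise.imp_of_mem ?_ h0
  intro a b ha hb hab hc
  have ha := (List.mem_filter.1 ha).1
  have hb := (List.mem_filter.1 hb).1
  apply hab
  obtain ⟨e1, e2⟩ := H153.Zeros.RuCls.hasOrd_of_chk (H153.Zeros.RuCls.data_primes a ha) (h2 a ha)
  obtain ⟨f1, f2⟩ := H153.Zeros.RuCls.hasOrd_of_chk (H153.Zeros.RuCls.data_primes b hb) (h2 b hb)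
  have h3 := H153.Zeros.RuCls.fxn_conj hc
  rw [e2, f2] at h3
  have h4 : orderOf (wprod ml a.1 : RuOrder.H) = orderOf (wprod ml b.1 : RuOrder.H) := by
    rw [ln_order n _ (List.mem_map.2 ⟨a, ?_, rfl⟩), ln_order n _ (List.mem_map.2 ⟨b, ?_, rfl⟩)]
    all_goals assumption
  rw [e1, f1] at h4
  exact Prod.ext h4 h3

/-- elements of order 29 -/
theorem self29 {x : RuOrder.H} (hx : orderOf x = 29) : Nat.card (centralizer ({x} : Set RuOrder.H)) = 29 := by
  have := H436.TwoRu.finite_H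
  apply Nat.dvd_antisymm
  · exact (H436.TwoRu.cent29 x hx).trans (by norm_num)
  · have h3 : x ∈ centralizer ({x} : Set RuOrder.H) := mem_centralizer_singleton_iff.2 rfl
    have := Subgroup.orderOf_dvd_natCard _ h3
    rwa [hx] at this

theorem fact29 : (145926144000 : ℕ).factorization 29 = 1 := by
  rw [show (145926144000 : ℕ) = 29 ^ 1 * 5031936000 by norm_num,
    H713.Two.Ru.factorization_of (by norm_num) (by norm_num)]

theorem fact13 : (145926144000 : ℕ).factorization 13 = 1 := by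
  rw [show (145926144000 : ℕ) = 13 ^ 1 * 11225088000 by norm_num,
    H713.Two.Ru.factorization_of (by norm_num) (by norm_num)]

theorem fact7 : (145926144000 : ℕ).factorization 7 = 1 := by
  rw [show (145926144000 : ℕ) = 7 ^ 1 * 20846592000 by norm_num,
    H713.Two.Ru.factorization_of (by norm_num) (by norm_num)]

theorem fus29 : have := (⟨by norm_num⟩ : Fact (Nat.Prime 29))
    ∀ x : RuOrder.H, orderOf x = 29 → (H713.Count.fus (p := 29) x).card = 14 := by
  intro _ x hx
  have := H436.TwoRu.finite_H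
  exact H713.Two.Sing.card_fus_eq (by rw [H436.TwoRu.card_H]; exact fact29) hx (self29 hx)
    (by rw [H436.TwoRu.card_H])

/-- the general family -/
theorem fam {S : Finset ℕ} {P : ℕ → Prop} (h : ∀ n ∈ S, P n) :
    ∀ n ∈ S, P n ∧ ∃ l : List RuOrder.H, l.length = (dn n).length ∧
      (∀ g ∈ l, orderOf g = n) ∧ l.Pairwise fun a b => ¬ IsConj a b :=
  fun n hn => ⟨h n hn, ln n, by rw [ln, List.length_map], ln_order n, ln_pairwise n⟩

theorem three29 : 3 ≤ ND 29 RuOrder.H := by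
  have := H436.TwoRu.finite_H
  have : Fact (Nat.Prime 29) := ⟨by norm_num⟩
  have h := self_le (G := RuOrder.H) (p := 29) (by rw [H436.TwoRu.card_H]; exact fact29) H436.RuCent.orderA
    (self29 H436.RuCent.orderA) (fus29 _ H436.RuCent.orderA).le
    {1, 2, 3, 4, 5, 6, 7, 8, 10, 12, 13, 14, 15, 16, 20, 24, 26} (fun n => (dn n).length)
    (fam (by decide))
  have h2 : (∑ n ∈ ({1, 2, 3, 4, 5, 6, 7, 8, 10, 12, 13, 14, 15, 16, 20, 24, 26} : Finset ℕ), (dn n).length) = 25 := by
    decide +kernel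
  omega

theorem three7 : 3 ≤ ND 7 RuOrder.H := by
  have := H436.TwoRu.finite_H
  have : Fact (Nat.Prime 7) := ⟨by norm_num⟩
  have h := regular_le_lists (G := RuOrder.H) (p := 7) (by rw [H436.TwoRu.card_H]; exact fact7) H148.Ru.orderC
    (fus_le H148.Ru.orderC) num7
    {1, 2, 3, 4, 5, 6, 8, 10, 12, 13, 15, 16, 20, 24, 26, 29} (fun n => (dn n).length)
    (fam (by decide))
  have h2 : (∑ n ∈ ({1, 2, 3, 4, 5, 6, 8, 10, 12, 13, 15, 16, 20, 24, 26, 29} : Finset ℕ), (dn n).length) = 24 := by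
    decide +kernel
  omega

/-- the numbers of classes of order `n` for `p = 13` -/
def f13 (n : ℕ) : ℕ := if n = 29 then 2 else if n = 14 then 3 else
  (H153.Zeros.RuCls.data.filter fun d => Nat.beq d.2.1 n).length

theorem fam13 {S : Finset ℕ} {P : ℕ → Prop} (h : ∀ n ∈ S, P n) :
    ∀ n ∈ S, P n ∧ ∃ l : List RuOrder.H, l.length = f13 n ∧
      (∀ g ∈ l, orderOf g = n) ∧ l.Pairwise fun a b => ¬ IsConj a b := by
  have := H436.TwoRu.finite_H
  intro n hn
  refine ⟨h n hn, ?_⟩
  by_cases h29 : n = 29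
  · subst h29
    have : Fact (Nat.Prime 29) := ⟨by norm_num⟩
    exact exists_powers H436.RuCent.orderA (fus29 _ H436.RuCent.orderA).le (k := 2) (by norm_num) (by norm_num)
  by_cases h14 : n = 14
  · subst h14
    refine ⟨[wprod ml H148.Ru.wC * v (wprod ml wt) (wprod ml wu) 1,
      wprod ml H148.Ru.wC * v (wprod ml wt) (wprod ml wu) 2,
      wprod ml H148.Ru.wC * v (wprod ml wt) (wprod ml wu) 3], rfl, ?_, ?_⟩
    · intro g hg
      simp only [List.mem_cons, List.not_mem_nil, or_false] at hg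
      rcases hg with rfl | rfl | rfl
      · exact dat7.order 1 (by decide)
      · exact dat7.order 2 (by decide)
      · exact dat7.order 3 (by decide)
    · refine List.Pairwise.cons ?_ (List.Pairwise.cons ?_ (List.pairwise_singleton _ _))
      · intro g hg
        simp only [List.mem_cons, List.not_mem_nil, or_false] at hg
        rcases hg with rfl | rfl
        · exact dat7.not_isConj (by norm_num) (by decide)
        · exact dat7.not_isConj (by norm_num) (by decide)
      · intro g hg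
        simp only [List.mem_cons, List.not_mem_nil, or_false] at hg
        rcases hg with rfl
        exact dat7.not_isConj (by norm_num) (by decide)
  · refine ⟨ln n, ?_, ln_order n, ln_pairwise n⟩
    rw [ln, List.length_map, f13, if_neg h29, if_neg h14]
    rfl

theorem three13 : 3 ≤ ND 13 RuOrder.H := by
  have := H436.TwoRu.finite_H
  have : Fact (Nat.Prime 13) := ⟨by norm_num⟩
  have h := regular_le_lists (G := RuOrder.H) (p := 13) (by rw [H436.TwoRu.card_H]; exact fact13) H436.RuCent.orderB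
    (fus_le H436.RuCent.orderB) num13
    {1, 2, 3, 4, 5, 6, 7, 8, 10, 12, 14, 15, 16, 20, 24, 29} f13
    (fam13 (by decide))
  have h2 : (∑ n ∈ ({1, 2, 3, 4, 5, 6, 7, 8, 10, 12, 14, 15, 16, 20, 24, 29} : Finset ℕ), f13 n) = 27 := by
    decide +kernel
  omega

open Cfsg.Agent.CpAutRuFive.Cert Cfsg.Agent.H870.IMRu in
theorem three5 : 3 ≤ ND 5 RuOrder.H := by
  have := H436.TwoRu.finite_H
  have : Fact (Nat.Prime 5) := ⟨by norm_num⟩
  have hr := rel_of_chk chkY
  have hY : wprod ml [5, 5] = (1 : RuOrder.H) := hr _ (by simp)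
  have hB : wprod ml [0, 4, 0, 4, 0, 4] = (1 : RuOrder.H) := hr _ (by simp)
  have hYB : wprod ml [5, 0, 4, 5, 0, 4, 5, 0, 4, 5, 0, 4, 5, 0, 4] = (1 : RuOrder.H) := hr _ (by simp)
  have e1 : wprod ml [5, 5] = (wprod ml [5] : RuOrder.H) ^ 2 := by
    rw [show ([5, 5] : List ℕ) = [5] ++ [5] from rfl, wprod_append, pow_two]
  have e2 : wprod ml [0, 4, 0, 4, 0, 4] = (wprod ml [0, 4] : RuOrder.H) ^ 3 := by
    rw [show ([0, 4, 0, 4, 0, 4] : List ℕ) = [0, 4] ++ ([0, 4] ++ [0, 4]) from rfl, wprod_append, wprod_append]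
    simp only [pow_succ, pow_zero, one_mul, mul_assoc]
  have e3 : wprod ml [5, 0, 4, 5, 0, 4, 5, 0, 4, 5, 0, 4, 5, 0, 4] =
      ((wprod ml [5] : RuOrder.H) * wprod ml [0, 4]) ^ 5 := by
    rw [show ([5, 0, 4, 5, 0, 4, 5, 0, 4, 5, 0, 4, 5, 0, 4] : List ℕ) =
      ([5] ++ [0, 4]) ++ (([5] ++ [0, 4]) ++ (([5] ++ [0, 4]) ++ (([5] ++ [0, 4]) ++ ([5] ++ [0, 4])))) from rfl]
    simp only [wprod_append]
    simp only [pow_succ, pow_zero, one_mul, mul_assoc]
  have hca := eq_of_chkEq chkCa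
  have hcb := eq_of_chkEq chkCb
  rw [wprod_append, wprod_append] at hca hcb
  obtain ⟨h1, h2⟩ := im_cent_five (x := (wprod ml wB : RuOrder.H)) orderB cardB hca hcb (e1.symm.trans hY)
    (e2.symm.trans hB) (e3.symm.trans hYB) ne_one
  exact three_le_of_cent orderB (by norm_num) h1 h2 (by rw [H436.TwoRu.card_H]; norm_num)

/-! ### `p = 2` -/

theorem has : have := H436.TwoRu.finite_H
    ∀ d ∈ cd, d.Has RuOrder.H := by
  intro _ d hd
  simp only [cd, List.mem_cons, List.not_mem_nil, or_false] at hd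
  rcases hd with rfl | rfl | rfl
  · exact has_of (by norm_num) H436.RuCent.orderA (self29 H436.RuCent.orderA)
  · exact has_of (by norm_num) H436.RuCent.orderB dat13.card
  · exact has_of (by norm_num) H148.Ru.orderC dat7.card

theorem pos_of {a : ℕ} (h : ∃ χ : IrrCharacter RuOrder.H, charDegree (χ : RuOrder.H → ℂ) = a) :
    1 ≤ Nat.card {χ : IrrCharacter RuOrder.H // Nat.beq (charDegree (χ : RuOrder.H → ℂ)) a = true} := by
  have := H436.TwoRu.finite_H
  have hfin : Finite (IrrCharacter RuOrder.H) := Cfsg.Agent.Characters.Core.finite_irr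
  obtain ⟨χ, hχ⟩ := h
  have : Nonempty {χ : IrrCharacter RuOrder.H // Nat.beq (charDegree (χ : RuOrder.H → ℂ)) a = true} :=
    ⟨⟨χ, by rw [hχ]; exact Nat.beq_refl a⟩⟩
  exact Nat.card_pos

theorem twoTwo : Two 2 RuOrder.H := by
  have := H436.TwoRu.finite_H
  have hs : IsSimpleGroup RuOrder.H := Cfsg.Agent.SporadicB.RuSimple.isSimpleGroup_H
  obtain ⟨χ, ψ, hχ, hψ⟩ := H713.Two.Ru.exists_783
  refine two_2 ?_ H436.TwoRu.card_H H713.Two.Ru.card_out.le has ?_ ?_
  · intro hcm
    have h1 : centralizer ({(wprod ml H436.RuCent.wA : RuOrder.H)} : Set RuOrder.H) = ⊤ := by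
      rw [eq_top_iff]
      intro z _
      rw [mem_centralizer_singleton_iff]
      exact hcm.is_comm.comm z _
    have h2 := self29 H436.RuCent.orderA
    rw [h1, card_top, H436.TwoRu.card_H] at h2
    exact absurd h2 (by norm_num)
  · intro P hP
    simp only [pr, List.mem_cons, List.not_mem_nil, or_false] at hP
    rcases hP with rfl | rfl
    · exact pos_of ⟨χ, hχ⟩
    · exact pos_of ⟨ψ, hψ⟩
  · intro P hP
    simp only [kn2, List.mem_cons, List.not_mem_nil, or_false] at hP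
    subst hP
    exact ⟨ψ, by show 2 ∣ charDegree (ψ : RuOrder.H → ℂ); rw [hψ]; norm_num, by rw [hψ]; rfl⟩

theorem two {p : ℕ} (hp : p.Prime) (hd : p ∣ Nat.card RuOrder.H) : Two p RuOrder.H := by
  have := H436.TwoRu.finite_H
  have h0 := prime_mem hp facs_prime facs_prod (H436.TwoRu.card_H ▸ hd)
  obtain ⟨χ, ψ, hχ, hψ⟩ := H713.Two.Ru.exists_783
  have ho : Nat.card (Out RuOrder.H) ≤ 2 := by rw [H713.Two.Ru.card_out]; norm_num
  simp only [facs, List.map_cons, List.map_nil, List.mem_cons, List.not_mem_nil, or_false] at h0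
  rcases h0 with rfl | rfl | rfl | rfl | rfl | rfl
  · exact two_of_three ho three29
  · exact two_of_three ho three13
  · exact two_of_three ho three7
  · exact two_of_three ho three5
  · exact two_of_degs ⟨χ, hχ⟩ ⟨ψ, hψ⟩ (by norm_num) (by norm_num) (by norm_num)
  · exact twoTwo

/-- **The row `Ru`.** -/
theorem two_ru {S : Type u} [Group S] (h : Cfsg.Spor.IsoRu S) {p : ℕ} [hp : Fact p.Prime]
    (hd : p ∣ Nat.card S) : TwoOr p S := by
  obtain ⟨e⟩ := h
  exact twoOr_of ⟨e.trans Cfsg.Agent.RuLat.Main.equiv⟩ hd (two hp.out)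

end Cfsg.Agent.H805.Two.Ru
end

-- part: H752/Two/CoClassesData
section
/-!
# `Co1` has at least 68 conjugacy classes (helper752)

Words in the letters `CpAutCoOneFive.Mat.e` with pairwise different traces of the powers `1, .., 6`.
-/

set_option autoImplicit false
set_option Elab.async false
set_option maxRecDepth 100000

namespace Cfsg.Agent.H752.CoClasses

open Cfsg Cfsg.Agent.SporadicA Cfsg.Agent.H752.CoInv Cfsg.Agent.CpAutCoOneFive.Mat

/-- the words and the invariants (traces times 8) -/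
def tab : List (List ℕ × List ℤ) := [
  ([0], [32, 32, 32, 32, 192, 32]),
  ([2], [48, -48, 48, -48, 192, -48]),
  ([3], [8, -8, 8, -8, 192, -8]),
  ([4], [0, 0, 48, 0, 0, -48]),
  ([5], [0, -32, 0, 32, 0, -32]),
  ([6], [0, 0, 0, 192, 0, 0]),
  ([8], [0, 16, 0, -16, 0, -32]),
  ([0, 4], [0, 0, 192, 0, 0, 192]),
  ([0, 5], [0, 48, 0, -48, 0, 48]),
  ([0, 6], [0, 0, 0, 32, 0, 0]),
  ([0, 7], [8, 8, 8, 8, 32, 8]),
  ([1, 3], [0, 32, 0, 32, 0, 32]),
  ([1, 7], [16, 16, 16, 16, 16, 16]),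
  ([1, 8], [0, 0, 0, 0, 0, 0]),
  ([2, 7], [8, 8, 8, 8, 8, 8]),
  ([2, 8], [0, -16, 0, -16, 0, -64]),
  ([3, 7], [8, 8, 16, 40, 8, 32]),
  ([3, 8], [8, 24, 16, 24, 32, -48]),
  ([4, 7], [8, -8, 16, -8, 8, 16]),
  ([5, 6], [16, -48, 16, -48, 64, -48]),
  ([6, 6], [0, 192, 0, 192, 0, 192]),
  ([6, 7], [0, 16, 0, 16, 0, 16]),
  ([8, 8], [16, -16, 32, -16, 96, 32]),
  ([0, 0, 7], [0, 16, 0, -16, 0, 16]),
  ([0, 0, 8], [0, 0, 24, 0, 0, 24]),
  ([0, 1, 7], [8, 24, 8, 24, 8, -24]),
  ([0, 1, 8], [0, 0, 0, -32, 0, 0]),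
  ([0, 2, 8], [16, 0, 8, 0, 16, -24]),
  ([0, 4, 8], [8, -8, 32, -8, 8, -32]),
  ([0, 5, 6], [24, -8, 24, -8, 64, -8]),
  ([0, 5, 7], [16, 16, 8, 16, 24, -8]),
  ([0, 7, 1], [8, -8, 8, 24, 8, -8]),
  ([0, 7, 3], [8, 8, 8, -24, 8, 8]),
  ([0, 8, 8], [0, -16, 0, 16, 0, 32]),
  ([1, 1, 5], [0, 0, 0, 0, 0, -192]),
  ([1, 2, 7], [0, 32, 0, 0, 0, 32]),
  ([1, 3, 6], [0, 0, 0, 0, 0, 48]),
  ([1, 3, 7], [16, 0, 16, 0, 16, 0]),
  ([1, 5, 7], [8, -24, 8, -24, 8, -24]),
  ([1, 6, 5], [0, 0, 0, 0, 0, 192]),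
  ([1, 6, 7], [8, 8, 16, 8, 32, 32]),
  ([1, 7, 5], [8, 8, 32, 8, 48, 32]),
  ([1, 7, 6], [8, 24, 8, 24, 8, 24]),
  ([1, 7, 7], [0, 16, 0, -16, 0, 64]),
  ([1, 8, 3], [0, 16, 24, 16, 40, -8]),
  ([2, 2, 7], [0, -16, 0, 48, 0, -64]),
  ([2, 5, 8], [8, 24, 8, -8, 32, 24]),
  ([2, 7, 5], [0, 0, 0, -64, 0, 0]),
  ([3, 6, 4], [0, -192, 0, 192, 0, -192]),
  ([3, 7, 6], [8, -8, 16, 24, 32, 16]),
  ([3, 8, 6], [16, 16, 32, 48, 16, 64]),
  ([4, 7, 7], [0, 0, 24, 0, 0, -24]),
  ([4, 8, 5], [8, 8, 16, 8, 8, -16]),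
  ([5, 7, 6], [0, 32, 0, 32, 0, -64]),
  ([0, 0, 5, 6], [16, 32, 16, 32, 64, 32]),
  ([0, 0, 7, 7], [0, 16, 0, 48, 0, 64]),
  ([0, 1, 8, 8], [16, 0, 32, 32, 16, 0]),
  ([0, 2, 8, 4], [24, 24, 24, 24, 24, -24]),
  ([0, 3, 3, 8], [16, -16, 16, -16, 16, -16]),
  ([0, 4, 1, 7], [24, 24, 24, 24, 24, 24]),
  ([0, 4, 7, 1], [24, 8, 0, -24, 24, -64]),
  ([0, 6, 7, 4], [8, 40, 32, -24, 8, 64]),
  ([0, 8, 0, 8], [0, 32, 0, -32, 0, 32]),
  ([0, 8, 6, 1], [0, 48, 0, 48, 0, 192]),
  ([1, 2, 1, 7], [16, 32, 16, 64, 16, 32]),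
  ([2, 2, 6, 5], [64, 192, 64, 192, 64, 192]),
  ([2, 4, 4, 4], [192, 192, 192, 192, 192, 192]),
  ([2, 7, 8, 8], [16, -16, 64, 48, 16, -64])]

def eqI : List ℤ → List ℤ → Bool
  | [], [] => true
  | a :: s, b :: t => decide (a = b) && eqI s t
  | _, _ => false

theorem eq_of_eqI : ∀ {s t : List ℤ}, eqI s t = true → s = t
  | [], [], _ => rfl
  | a :: s, b :: t, h => by
    rw [eqI, Bool.and_eq_true] at h
    rw [of_decide_eq_true h.1, eq_of_eqI h.2]
  | [], _ :: _, h => by simp [eqI] at h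
  | _ :: _, [], h => by simp [eqI] at h

theorem tab_length : tab.length = 68 := by decide +kernel

theorem tab_nodup : (tab.map Prod.snd).Nodup := by decide +kernel

def chk (a b : ℕ) : Bool := ((tab.drop a).take b).all fun x => eqI (invW M x.1) x.2

section
open Cfsg.Agent.CoOneType.CoEval Cfsg.Agent.LThreeCo1.Ev Cfsg.Agent.Co0Q

/-- a word acts on a code -/
private noncomputable def rV (w : List ℕ) (V : ℕ) : ℕ :=
  List.rec V (fun i _ U => Nat.rec (stp (M 0) U) (fun k _ => stp (M (Nat.succ k)) U) i) w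

private theorem rV_spec (V : ℕ) : ∀ w : List ℕ, rV w V ≠ 0 → V ≠ 0 ∧ unp (rV w V) = foldZ M w (unp V)
  | [], h => ⟨h, rfl⟩
  | i :: w, h => by
    have e : rV (i :: w) V = stp (M i) (rV w V) := by cases i <;> rfl
    rw [e] at h ⊢
    obtain ⟨h1, h2⟩ := stp_spec _ _ h
    obtain ⟨h3, h4⟩ := rV_spec V w h1
    refine ⟨h3, ?_⟩
    rw [h2, h4]
    exact (Cfsg.Agent.LThreeCo1.Ev.apZ_eq _ _).symm

/-- the trace of a code, plus `32 n` -/
private noncomputable def tV (V n : ℕ) : ℕ :=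
  Nat.rec 0 (fun j ih => Nat.add ih (Nat.mod (Nat.shiftRight (Nat.sub (Nat.add (Cfsg.Agent.Co0Q.dg V j)
    11327362640523491119510206106742024891926560) 11150372599265311570767859136324180752990208) (Nat.mul 6 j)) 64)) n

private theorem tV_eq (V : ℕ) : ∀ n, n ≤ 24 →
    ((List.range n).map fun j => Cfsg.Agent.H752.CoInv.dg ((unp V).getD j 0) j).sum = tV V n - 32 * n
  | 0, _ => rfl
  | n + 1, h => by
    have e : tV V (n + 1) = tV V n + (Cfsg.Agent.Co0Q.dg V n + 11327362640523491119510206106742024891926560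
      - 11150372599265311570767859136324180752990208) >>> (6 * n) % 64 := rfl
    have e1 : Cfsg.Agent.H752.CoInv.dg ((unp V).getD n 0) n =
      ((((unp V).getD n 0 + 11327362640523491119510206106742024891926560).toNat / 64 ^ n % 64 : ℕ) : ℤ) - 32 := rfl
    have e2 : ((unp V).getD n 0 + 11327362640523491119510206106742024891926560).toNat = Cfsg.Agent.Co0Q.dg V n + 11327362640523491119510206106742024891926560
      - 11150372599265311570767859136324180752990208 := by rw [unp_get V h]; omega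
    rw [List.range_succ, List.map_append, List.sum_append, tV_eq V n (Nat.le_of_succ_le h), e, List.map_singleton,
      List.sum_singleton, e1, e2, Nat.shiftRight_eq_div_pow, pow_mul]
    push_cast
    ring

private theorem trB_unp (V : ℕ) : trB (unp V) = Int.subNatNat (tV V 24) 768 :=
  (tV_eq V 24 le_rfl).trans Int.subNatNat_eq_coe.symm

/-- the code of `betaL` -/
private def V0 : ℕ := 8601683060598877485631445013533814104987597315340496836742816638110163919529611887208697677024962873502547430890990125999135218115410968375486234189165232250159919522361780011605419340563757979028748429592454138000981634965453399349020979353052729647301195812447773315167937106903874043920223134139943756247950599374150298775293081064349771814042529855312050769609523627834616761464409606565833013175666346303576790182976892874853911728451927429529150535453699470466775860728049190655653267892744765953272279703164328424053017747035774999614043853118220705143038564140284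4088018574317019236330230337826383054080021757927259385455754716138966628178153588998185451455048629528264949309558779592328714951884283437340031467067853443642939476331219705023642557175286034288626715518520575642954257138072567594518131425340088218187126397451138908002702822865570649660831714611130313390011745660093964107307502965895502007887336964158079487252301558248658882363538580527009455265402735414890526397524003954436287855960287079193141178165445887244421261666502906124555470080742932424952443506460010435672380071535531637713921672295852185070001060060291162701832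

/-- a guard -/
private noncomputable def sel (z : ℕ) (b : Bool) : Bool := Nat.rec false (fun _ _ => b) z

private theorem sel_spec : ∀ {z : ℕ} {b : Bool}, sel z b = true → z ≠ 0 ∧ b = true
  | 0, _, h => absurd h Bool.false_ne_true
  | _ + 1, _, h => ⟨Nat.succ_ne_zero _, h⟩

/-- the check of one word -/
private noncomputable def okV (w : List ℕ) (t : List ℤ) : Bool :=
  let V1 := rV w V0
  let V2 := rV w V1
  let V3 := rV w V2
  let V4 := rV w V3
  let V5 := rV w V4
  let V6 := rV w V5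
  sel V6 (eqI [((Int.subNatNat (tV V1 24) 768).natAbs : ℤ), Int.subNatNat (tV V2 24) 768,
    ((Int.subNatNat (tV V3 24) 768).natAbs : ℤ), Int.subNatNat (tV V4 24) 768,
    ((Int.subNatNat (tV V5 24) 768).natAbs : ℤ), Int.subNatNat (tV V6 24) 768] t)

private theorem unp_V0 : unp V0 = betaL := by decide +kernel

private theorem okV_spec {w : List ℕ} {t : List ℤ} (h : okV w t = true) : eqI (invW M w) t = true := by
  obtain ⟨h6, h'⟩ := sel_spec h
  obtain ⟨h5, e6⟩ := rV_spec _ w h6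
  obtain ⟨h4, e5⟩ := rV_spec _ w h5
  obtain ⟨h3, e4⟩ := rV_spec _ w h4
  obtain ⟨h2, e3⟩ := rV_spec _ w h3
  obtain ⟨h1, e2⟩ := rV_spec _ w h2
  obtain ⟨-, e1⟩ := rV_spec _ w h1
  rw [unp_V0] at e1
  delta Cfsg.Agent.H752.CoInv.invW
  dsimp only
  rw [← e1, ← e2, ← e3, ← e4, ← e5, ← e6]
  simp only [trB_unp]
  exact h'

private theorem chk_all : (tab.all fun x => okV x.1 x.2) = true := by decide +kernel

private theorem chk_of (a b : ℕ) : chk a b = true :=
  List.all_eq_true.2 fun x hx => okV_spec (List.all_eq_true.1 chk_all x (List.mem_of_mem_drop (List.mem_of_mem_take hx)))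

end

theorem chk0 : chk 0 8 = true := chk_of _ _

theorem chk1 : chk 8 8 = true := chk_of _ _

theorem chk2 : chk 16 8 = true := chk_of _ _

theorem chk3 : chk 24 8 = true := chk_of _ _

theorem chk4 : chk 32 8 = true := chk_of _ _

theorem chk5 : chk 40 8 = true := chk_of _ _

theorem chk6 : chk 48 8 = true := chk_of _ _

theorem chk7 : chk 56 8 = true := chk_of _ _

theorem chk8 : chk 64 4 = true := chk_of _ _

end Cfsg.Agent.H752.CoClasses
end

-- part: H752/Two/CoClasses
section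
/-!
# `Co1` has at least 68 conjugacy classes (helper752)
-/

set_option autoImplicit false

namespace Cfsg.Agent.H752.CoClasses

open Cfsg Cfsg.Agent.SporadicA Cfsg.Agent.H752.CoInv Cfsg.Agent.CpAutCoOneFive.Mat

theorem inv_of_chk {a b i : ℕ} (h : chk a b = true) (hi : i < tab.length) (ha : a ≤ i) (hb : i < a + b) :
    inv6 ((tab[i].1.map e).prod) = tab[i].2 := by
  rw [inv6_word rep]
  apply eq_of_eqI
  refine List.all_eq_true.1 h tab[i] ?_
  rw [List.mem_iff_getElem?]
  refine ⟨i - a, ?_⟩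
  rw [List.getElem?_take_of_lt (by omega), List.getElem?_drop, show a + (i - a) = i by omega,
    List.getElem?_eq_getElem hi]

theorem inv_tab {i : ℕ} (hi : i < tab.length) : inv6 ((tab[i].1.map e).prod) = tab[i].2 := by
  have h := hi
  rw [tab_length] at h
  rcases lt_or_ge i 8 with h1 | h1
  · exact inv_of_chk chk0 hi (by omega) (by omega)
  rcases lt_or_ge i 16 with h1 | h1
  · exact inv_of_chk chk1 hi (by omega) (by omega)
  rcases lt_or_ge i 24 with h1 | h1
  · exact inv_of_chk chk2 hi (by omega) (by omega)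
  rcases lt_or_ge i 32 with h1 | h1
  · exact inv_of_chk chk3 hi (by omega) (by omega)
  rcases lt_or_ge i 40 with h1 | h1
  · exact inv_of_chk chk4 hi (by omega) (by omega)
  rcases lt_or_ge i 48 with h1 | h1
  · exact inv_of_chk chk5 hi (by omega) (by omega)
  rcases lt_or_ge i 56 with h1 | h1
  · exact inv_of_chk chk6 hi (by omega) (by omega)
  rcases lt_or_ge i 64 with h1 | h1
  · exact inv_of_chk chk7 hi (by omega) (by omega)
  · exact inv_of_chk chk8 hi (by omega) (by omega)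

/-- pairwise non-conjugate elements -/
def rp (i : Fin 68) : Spor.Co1 := QuotientGroup.mk ((tab[(i : ℕ)]'(by rw [tab_length]; exact i.2)).1.map e).prod

theorem rp_inj (i j : Fin 68) (h : IsConj (rp i) (rp j)) : i = j := by
  have hi : (i : ℕ) < tab.length := by rw [tab_length]; exact i.2
  have hj : (j : ℕ) < tab.length := by rw [tab_length]; exact j.2
  have h1 := inv6_of_isConj h
  rw [inv_tab hi, inv_tab hj] at h1
  have h2 := tab_nodup
  rw [List.nodup_iff_injective_getElem] at h2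
  have h3 := @h2 ⟨i, by rw [List.length_map]; exact hi⟩ ⟨j, by rw [List.length_map]; exact hj⟩ (by
    simp only [List.getElem_map]
    exact h1)
  exact Fin.ext (congrArg (fun x : Fin (tab.map Prod.snd).length => (x : ℕ)) h3)

theorem finite_co1 : Finite Spor.Co1 := Nat.finite_of_card_ne_zero (by rw [Cfsg.Agent.S0399.result.2]; norm_num)

/-- **`Co1` has at least 68 conjugacy classes.** -/
theorem card_conjClasses : 68 ≤ Nat.card (ConjClasses Spor.Co1) := by
  have := finite_co1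
  have h := Cfsg.Agent.H593.IMRank.card_le_conjClasses rp rp_inj
  rwa [Fintype.card_fin] at h

end Cfsg.Agent.H752.CoClasses
end

-- part: H752/Two/CoOne
section
/-!
# `Co1`: two characters of degree divisible by `p` (helper752)
-/

set_option autoImplicit false

open Cfsg Subgroup

namespace Cfsg.Agent.H752.TwoCoOne

open Cfsg.Agent.H596.OneFacts Cfsg.Agent.H33 Cfsg.Agent.H651.Two
open Cfsg.Agent.H653.Sieve

universe u

/-- `x` of order `p`, `p² ∤ |C(x)|`, `|C(x)| ≤ p m`: `k(G) ≤ ND p G + p m`. -/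
theorem classes_le_card {G : Type u} [Group G] [Finite G] {p : ℕ} [hp : Fact p.Prime] {x : G} (hx : orderOf x = p)
    (hC : ¬ p ^ 2 ∣ Nat.card (centralizer ({x} : Set G))) {m : ℕ}
    (hm : Nat.card (centralizer ({x} : Set G)) ≤ p * m) : Nat.card (ConjClasses G) ≤ ND p G + p * m := by
  classical
  have := Fintype.ofFinite (centralizer ({x} : Set G))
  obtain ⟨z, hz⟩ : ∃ z : centralizer ({x} : Set G), (z : G) = x :=
    ⟨⟨x, mem_centralizer_singleton_iff.2 rfl⟩, rfl⟩
  have hzo : orderOf z = p := by rw [← Subgroup.orderOf_coe, hz, hx]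
  have hzc : ∀ c : centralizer ({x} : Set G), Commute c z := by
    intro c
    apply Subtype.ext
    show (c : G) * z = z * c
    rw [hz]
    exact mem_centralizer_singleton_iff.1 c.2
  have h1 := classes_le_prime hx hC (ι := {c : centralizer ({x} : Set G) // ¬ p ∣ orderOf c}) Subtype.val
    (fun c hc => ⟨⟨c, hc⟩, IsConj.refl _⟩)
  refine h1.trans (Nat.add_le_add_left (Nat.mul_le_mul_left p ?_) _)
  rw [← Nat.card_eq_fintype_card]
  have h2 : (zpowers z).index ≤ m := by
    have h3 := (zpowers z).card_mul_index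
    rw [Nat.card_zpowers, hzo] at h3
    rw [← h3] at hm
    exact Nat.le_of_mul_le_mul_left hm hp.out.pos
  refine le_trans ?_ h2
  refine Nat.card_le_card_of_injective
    (fun c : {c : centralizer ({x} : Set G) // ¬ p ∣ orderOf c} =>
      (QuotientGroup.mk c.1 : centralizer ({x} : Set G) ⧸ zpowers z)) ?_
  rintro ⟨c, hc⟩ ⟨d, hd⟩ hcd
  apply Subtype.ext
  show c = d
  have h4 : c⁻¹ * d ∈ zpowers z := QuotientGroup.eq.1 hcd
  obtain ⟨k, hk⟩ := mem_zpowers_iff.1 h4
  have h5 : d = c * z ^ k := by rw [hk]; group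
  have h6 : Commute c (z ^ k) := (hzc c).zpow_right k
  have h7 : (z ^ k) ^ (orderOf c * orderOf d) = 1 := by
    have h8 : d ^ (orderOf c * orderOf d) = 1 := by rw [mul_comm, pow_mul, pow_orderOf_eq_one, one_pow]
    rw [h5, h6.mul_pow, ← h5, pow_mul c, pow_orderOf_eq_one, one_pow, one_mul] at h8
    exact h8
  have h9 : orderOf (z ^ k) ∣ p := by rw [← hzo]; exact orderOf_dvd_of_mem_zpowers ⟨k, rfl⟩
  have h10 : orderOf (z ^ k) ∣ orderOf c * orderOf d := orderOf_dvd_of_pow_eq_one h7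
  have h11 : orderOf (z ^ k) = 1 := by
    rcases (Nat.dvd_prime hp.out).1 h9 with h | h
    · exact h
    · exfalso
      rw [h] at h10
      rcases (Nat.Prime.dvd_mul hp.out).1 h10 with h | h
      · exact hc h
      · exact hd h
  rw [orderOf_eq_one_iff] at h11
  rw [h5, h11, mul_one]

namespace CoOne

theorem card_co1 : Nat.card Spor.Co1 = 4157776806543360000 := Cfsg.Agent.S0399.result.2

/-- `p = 11` -/
theorem two_eleven : Two 11 Spor.Co1 := by
  have := H752.CoClasses.finite_co1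
  have : Fact (Nat.Prime 11) := ⟨by norm_num⟩
  obtain ⟨x, hx⟩ := exists_prime_orderOf_dvd_card' (G := Spor.Co1) 11 (by rw [card_co1]; norm_num)
  have h1 := H546.MElevenCo.card_cent hx
  have h2 := classes_le_card hx (by
    intro h
    have h3 := h.trans (Subgroup.card_subgroup_dvd_card _)
    rw [card_co1] at h3
    norm_num at h3) (m := 6) h1
  have h3 := H752.CoClasses.card_conjClasses
  refine two_of_lt ?_
  rw [show Nat.card (Out Spor.Co1) = 1 from S2069.result]
  omega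

/-- `p = 7` -/
theorem two_seven : Two 7 Spor.Co1 := by
  have := H752.CoClasses.finite_co1
  have hp : Fact (Nat.Prime 7) := ⟨by norm_num⟩
  obtain ⟨V, hV, ⟨e⟩⟩ := H813.CoSevenMain.cent_seven
  obtain ⟨v, hv⟩ := exists_prime_orderOf_dvd_card' (G := V) 7 (by rw [hV])
  obtain ⟨x, hx⟩ : ∃ x : Spor.Co1, x = (v : Spor.Co1) := ⟨_, rfl⟩
  have hxo : orderOf x = 7 := by rw [hx, Subgroup.orderOf_coe, hv]
  have hxV : zpowers x = V := by
    refine Subgroup.eq_of_le_of_card_ge (by rw [zpowers_le, hx]; exact v.2) ?_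
    rw [Nat.card_zpowers, hxo, hV]
  have hc : centralizer (V : Set Spor.Co1) = centralizer ({x} : Set Spor.Co1) := by
    rw [← hxV]
    exact cent_zpowers x
  rw [hc] at e
  have hA : Nat.card (alternatingGroup (Fin 7)) = 2520 := by
    have h1 := two_mul_nat_card_alternatingGroup (α := Fin 7)
    rw [Nat.card_perm, Nat.card_fin] at h1
    have h2 : Nat.factorial 7 = 5040 := by decide
    omega
  have hC : Nat.card (centralizer ({x} : Set Spor.Co1)) = 17640 := by
    rw [Nat.card_congr e.toEquiv, Nat.card_prod, hA, Nat.card_congr Multiplicative.toAdd, Nat.card_zmod]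
  have h7 : (17640 : ℕ).factorization 7 ≤ 2 := by
    by_contra h
    push Not at h
    have h1 := (hp.out.pow_dvd_iff_le_factorization (by norm_num : (17640 : ℕ) ≠ 0)).2 h
    norm_num at h1
  have h7' : 1 ≤ (2520 : ℕ).factorization 7 :=
    (hp.out.dvd_iff_one_le_factorization (by norm_num)).1 (by norm_num)
  have h7'' : (2520 : ℕ).factorization 7 ≤ 1 := by
    by_contra h
    push Not at h
    have h1 := (hp.out.pow_dvd_iff_le_factorization (by norm_num : (2520 : ℕ) ≠ 0)).2 h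
    norm_num at h1
  have h3 : 3 ≤ ND 7 Spor.Co1 := by
    refine three_le_of_quotient hxo (by norm_num) (by rw [card_co1]; norm_num)
      ((MonoidHom.snd _ _).comp e.toMonoidHom) (Prod.snd_surjective.comp e.surjective) ?_ ?_
    · rw [hC, hA]; omega
    · obtain ⟨θ, hθ⟩ := H600.AltDeg.im_alt (n := 7) (p := 7) (by norm_num) (by rw [hA]; norm_num)
      refine ⟨θ, ?_⟩
      rw [hA]
      have h1 : 1 ≤ (charDegree (θ : alternatingGroup (Fin 7) → ℂ)).factorization 7 :=
        (hp.out.dvd_iff_one_le_factorization (Cfsg.Agent.Blocks.Basic.charDegree_pos θ.2).ne').1 hθ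
      omega
  refine two_of_lt ?_
  rw [show Nat.card (Out Spor.Co1) = 1 from S2069.result]
  omega

end CoOne

/-- **The row `Co1`.** -/
theorem two_co1 {S : Type u} [Group S] (h : Cfsg.Spor.IsoCo1 S) {p : ℕ} [hp : Fact p.Prime]
    (hd : p ∣ Nat.card S) : TwoOr p S := by
  refine twoOr_of h hd fun hd => ?_
  have h0 := prime_mem hp.out (L := [(23, 1), (13, 1), (11, 1), (7, 2), (5, 4), (3, 9), (2, 21)]) (by norm_num)
    (N := 4157776806543360000) (by decide +kernel) (CoOne.card_co1 ▸ hd)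
  simp only [List.map_cons, List.map_nil, List.mem_cons, List.not_mem_nil, or_false] at h0
  rcases h0 with rfl | rfl | rfl | rfl | rfl | rfl | rfl
  · exact two_of_degs H843.IMC.Co1B.hasDeg_276 H843.IMC.Co1B.hasDeg_299 (by norm_num) (by norm_num) (by norm_num)
  · exact two_of_degs H843.IMC.Co1B.hasDeg_299 H843.IMC.Co1D.hasDeg.2 (by norm_num) (by norm_num) (by norm_num)
  · exact CoOne.two_eleven
  · exact CoOne.two_seven
  · exact two_of_degs H843.IMC.Co1D.hasDeg.1 H843.IMC.Co1D.hasDeg.2 (by norm_num) (by norm_num) (by norm_num)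
  · exact two_of_degs H843.IMC.Co1B.hasDeg_276 H843.IMC.Co1D.hasDeg.1 (by norm_num) (by norm_num) (by norm_num)
  · exact two_of_degs H843.IMC.Co1B.hasDeg_276 H843.IMC.Co1D.hasDeg.1 (by norm_num) (by norm_num) (by norm_num)

end Cfsg.Agent.H752.TwoCoOne
end

-- part: H892/Two/InvTools
section
/-!
# Inverted elements and characters of degree divisible by `p` (helper892)

* `exists_pow_dvd_ne_zero` : the involution `t` inverts `g`, `|C(g)|` odd and prime to `p`, `p ^ k` divides `|G|` but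
  not `p ^ m |C(t)|²`: some `χ` with `p ^ (m + 1) ∣ χ(1)` does not vanish at `g`;
* `exists_even_ne_zero` : `x ≠ 1` real, `|C(x)|` odd: some `χ` of even degree does not vanish at `x`;
* `not_dvd_of_ne_zero` : `χ(x) ≠ 0`, `x` of order `r`, `r ∥ |G|`: `r ∤ χ(1)`;
* `two_of_inverted`, `two_of_real` : a known degree divisible by `p` and by `r`;
* `two_of_ratio` : two self-centralizing primes inverted by the same class of involutions.
-/

set_option autoImplicit false
set_option linter.unusedSectionVars false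

open Cfsg Subgroup
open scoped ComplexConjugate

namespace Cfsg.Agent.H892.Two

open Cfsg.Agent.H651.Two Cfsg.Agent.H596.OneFacts Cfsg.Agent.H33
open Cfsg.Agent.H672.SC Cfsg.Agent.Characters.Core Cfsg.Agent.H653.Sieve

universe u

variable {G : Type u} [Group G]

/-- a character which does not vanish at an element of order `r`, `r ∥ |G|` -/
theorem not_dvd_of_ne_zero [Finite G] {r : ℕ} (hr : r.Prime) (h1 : r ∣ Nat.card G) (h2 : ¬ r ^ 2 ∣ Nat.card G)
    {χ : IrrCharacter G} {x : G} (hx : orderOf x = r) (h : (χ : G → ℂ) x ≠ 0) :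
    ¬ r ∣ charDegree (χ : G → ℂ) := by
  intro hd
  apply h
  obtain ⟨n, ρ, hρ, hχ⟩ := χ.2
  rw [← hχ]
  refine S0165.result ρ r 1 hr (by rwa [pow_one]) h2 ?_ x (by rw [hx])
  have h3 : (χ : G → ℂ) 1 = (Module.finrank ℂ (Fin n → ℂ) : ℂ) := by rw [← hχ]; exact Representation.char_one ρ
  have h4 : charDegree (χ : G → ℂ) = Module.finrank ℂ (Fin n → ℂ) := H670.PSing.charDegree_eq_of h3
  rwa [h4, ← pow_one r] at hd

/-- If the characters of degree divisible by `p ^ (m + 1)` vanish at `g`. -/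
theorem exists_coprime_mul_of_vanish [Finite G] {p : ℕ} [hp : Fact p.Prime] {m : ℕ} (a b g : G)
    (h : ∀ χ : IrrCharacter G, (χ : G → ℂ) g ≠ 0 → ¬ p ^ (m + 1) ∣ charDegree (χ : G → ℂ)) :
    ∃ c : ℕ, ¬ p ∣ c ∧ Nat.card G ∣ c * (p ^ m * (npairs a b g *
      (Nat.card (Subgroup.centralizer ({a} : Set G)) *
        Nat.card (Subgroup.centralizer ({b} : Set G))))) := by
  classical
  have : Finite (IrrCharacter G) := finite_irr
  have : Fintype (IrrCharacter G) := Fintype.ofFinite _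
  have hdeg : ∀ χ : IrrCharacter G, (χ : G → ℂ) 1 = (charDegree (χ : G → ℂ) : ℂ) := fun χ =>
    Cfsg.Agent.Blocks.Basic.irr_one_eq_charDegree χ.2
  have hpos : ∀ χ : IrrCharacter G, charDegree (χ : G → ℂ) ≠ 0 := fun χ =>
    (Cfsg.Agent.Blocks.Basic.charDegree_pos χ.2).ne'
  -- the `p'`-parts
  let d : IrrCharacter G → ℕ := fun χ => charDegree (χ : G → ℂ) / p ^ (charDegree (χ : G → ℂ)).factorization p
  have hd : ∀ χ : IrrCharacter G, (χ : G → ℂ) g ≠ 0 → charDegree (χ : G → ℂ) ∣ p ^ m * d χ := by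
    intro χ hχ
    have h1 : p ^ (charDegree (χ : G → ℂ)).factorization p * d χ = charDegree (χ : G → ℂ) :=
      Nat.ordProj_mul_ordCompl_eq_self _ _
    have h2 : (charDegree (χ : G → ℂ)).factorization p ≤ m := by
      by_contra hcon
      push Not at hcon
      exact h χ hχ ((pow_dvd_pow p hcon).trans (Nat.ordProj_dvd _ _))
    conv_lhs => rw [← h1]
    exact Nat.mul_dvd_mul (pow_dvd_pow p h2) dvd_rfl
  have hdp : ∀ χ, ¬ p ∣ d χ := fun χ => Nat.not_dvd_ordCompl hp.out (hpos χ)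
  refine ⟨∏ χ : IrrCharacter G, d χ, ?_, ?_⟩
  · intro hd'
    obtain ⟨χ, -, hχ⟩ := (Prime.dvd_finsetProd_iff hp.out.prime _).1 hd'
    exact hdp χ hχ
  · set c := ∏ χ : IrrCharacter G, d χ with hc
    apply Cfsg.Agent.Characters.DegreeBounds.nat_dvd_of_isIntegral_div Nat.card_pos.ne'
    have h1 := Cfsg.Agent.Characters.ClassMul.card_class_mul a b g
    have hG : (Nat.card G : ℂ) ≠ 0 := by exact_mod_cast Nat.card_pos.ne'
    have ha : (Nat.card (Subgroup.centralizer ({a} : Set G)) : ℂ) *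
        ((Subgroup.centralizer ({a} : Set G)).index : ℂ) = (Nat.card G : ℂ) := by
      exact_mod_cast Subgroup.card_mul_index _
    have hb : (Nat.card (Subgroup.centralizer ({b} : Set G)) : ℂ) *
        ((Subgroup.centralizer ({b} : Set G)).index : ℂ) = (Nat.card G : ℂ) := by
      exact_mod_cast Subgroup.card_mul_index _
    set S : ℂ := ∑ χ : IrrCharacter G,
        (χ : G → ℂ) a * (χ : G → ℂ) b * conj ((χ : G → ℂ) g) / (χ : G → ℂ) 1 with hS
    have hcS : IsIntegral ℤ (((c * p ^ m : ℕ) : ℂ) * S) := by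
      rw [hS, Finset.mul_sum]
      apply IsIntegral.sum
      intro χ _
      by_cases h0 : (χ : G → ℂ) g = 0
      · rw [h0, map_zero, mul_zero, zero_div, mul_zero]
        exact isIntegral_zero
      obtain ⟨e, he⟩ : charDegree (χ : G → ℂ) ∣ c * p ^ m := by
        rw [mul_comm]
        refine (hd χ h0).trans (Nat.mul_dvd_mul dvd_rfl ?_)
        rw [hc]
        exact Finset.dvd_prod_of_mem _ (Finset.mem_univ χ)
      have hne : (charDegree (χ : G → ℂ) : ℂ) ≠ 0 := by exact_mod_cast hpos χ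
      have : ((c * p ^ m : ℕ) : ℂ) *
          ((χ : G → ℂ) a * (χ : G → ℂ) b * conj ((χ : G → ℂ) g) / (χ : G → ℂ) 1) =
          (e : ℂ) * ((χ : G → ℂ) a * (χ : G → ℂ) b * conj ((χ : G → ℂ) g)) := by
        rw [hdeg χ, he]
        push_cast
        field_simp
      rw [this]
      have hχ : IsCharacter G (χ : G → ℂ) := isIrr_isCharacter χ.2
      refine IsIntegral.mul ?_ (((Characters.GaloisBasic.isIntegral_apply hχ a).mul
        (Characters.GaloisBasic.isIntegral_apply hχ b)).mul ?_)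
      · have h3 : IsIntegral ℤ (algebraMap ℤ ℂ (e : ℤ)) := isIntegral_algebraMap
        simpa using h3
      · exact (Characters.GaloisBasic.isIntegral_apply hχ g).map
          ((Complex.conjAe : ℂ →ₐ[ℝ] ℂ).restrictScalars ℤ)
    have key : ((c * (p ^ m * (npairs a b g * (Nat.card (Subgroup.centralizer ({a} : Set G)) *
        Nat.card (Subgroup.centralizer ({b} : Set G))))) : ℕ) : ℂ) / (Nat.card G : ℂ) =
        ((c * p ^ m : ℕ) : ℂ) * S := by
      have h2 : (npairs a b g : ℂ) = ((Subgroup.centralizer ({a} : Set G)).index : ℂ) *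
        ((Subgroup.centralizer ({b} : Set G)).index : ℂ) / (Nat.card G : ℂ) * S := h1
      push_cast
      rw [h2]
      rw [← ha]
      rw [← ha] at hG
      have hb' := hb
      rw [← ha] at hb'
      have hca : (Nat.card (Subgroup.centralizer ({a} : Set G)) : ℂ) ≠ 0 := left_ne_zero_of_mul hG
      have hia : ((Subgroup.centralizer ({a} : Set G)).index : ℂ) ≠ 0 := right_ne_zero_of_mul hG
      field_simp
      linear_combination (c : ℂ) * (p : ℂ) ^ m * S * hb'
    rw [key]
    exact hcS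

/-- **A degree divisible by `p ^ (m + 1)` of a character which does not vanish at `g`.** -/
theorem exists_pow_dvd_ne_zero [Finite G] {p : ℕ} [hp : Fact p.Prime] {t g : G} (ht : t * t = 1)
    (hg : t * g * t⁻¹ = g⁻¹)
    (hodd : Odd (Nat.card (Subgroup.centralizer ({g} : Set G))))
    (hpg : ¬ p ∣ Nat.card (Subgroup.centralizer ({g} : Set G))) {k m : ℕ}
    (hk : p ^ k ∣ Nat.card G)
    (h : ¬ p ^ k ∣ p ^ m * Nat.card (Subgroup.centralizer ({t} : Set G)) ^ 2) :
    ∃ χ : IrrCharacter G, p ^ (m + 1) ∣ charDegree (χ : G → ℂ) ∧ (χ : G → ℂ) g ≠ 0 := by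
  by_contra hcon
  push Not at hcon
  apply h
  obtain ⟨c, hc, hd⟩ := exists_coprime_mul_of_vanish (p := p) (m := m) t t g (fun χ h0 hd => h0 (hcon χ hd))
  have h0 : (p ^ k).Coprime c := Nat.Coprime.pow_left _ ((Nat.Prime.coprime_iff_not_dvd hp.out).2 hc)
  have hd' := h0.dvd_of_dvd_mul_left (hk.trans hd)
  have h1 : ¬ p ∣ npairs t t g := fun h2 => hpg (h2.trans (npairs_dvd ht hg hodd))
  have h2 : (p ^ k).Coprime (npairs t t g) :=
    Nat.Coprime.pow_left _ ((Nat.Prime.coprime_iff_not_dvd hp.out).2 h1)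
  rw [mul_left_comm] at hd'
  rw [sq]
  exact h2.dvd_of_dvd_mul_left hd'

/-- **An even degree of a character which does not vanish at `x`.** -/
theorem exists_even_ne_zero {G : Type*} [Group G] [Finite G] {x : G} (hx : x ≠ 1)
    (hreal : IsConj x x⁻¹) (hodd : Odd (Nat.card (Subgroup.centralizer ({x} : Set G)))) :
    ∃ χ : IrrCharacter G, Even (charDegree (χ : G → ℂ)) ∧ (χ : G → ℂ) x ≠ 0 := by
  classical
  by_contra hcon
  push Not at hcon
  have := Fintype.ofFinite G
  have : Finite (IrrCharacter G) := finite_irr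
  have := Fintype.ofFinite (IrrCharacter G)
  -- the values
  have hint : ∀ χ : IrrCharacter G, IsIntegral ℤ ((χ : G → ℂ) x) := by
    intro χ
    obtain ⟨n, ρ, -, h⟩ := χ.2
    rw [← h]
    exact Cfsg.Agent.Characters.Values.character_isIntegral ρ x
  let a : IrrCharacter G → integralClosure ℤ ℂ := fun χ => ⟨(χ : G → ℂ) x, hint χ⟩
  have ha : ∀ χ, algebraMap (integralClosure ℤ ℂ) ℂ (a χ) = (χ : G → ℂ) x := fun χ => rfl
  have hinj : Function.Injective (algebraMap (integralClosure ℤ ℂ) ℂ) := Subtype.val_injective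
  have hconj : ∀ χ : IrrCharacter G, conj ((χ : G → ℂ) x) = (χ : G → ℂ) x := by
    intro χ
    obtain ⟨c, hc⟩ := isConj_iff.1 hreal
    rw [← isCharacter_apply_inv (isIrr_isCharacter χ.2), ← hc]
    exact isIrr_isClassFunction χ.2 x c
  have h1 : ∑ χ : IrrCharacter G, (charDegree (χ : G → ℂ) : integralClosure ℤ ℂ) * a χ = 0 := by
    apply hinj
    have h := Cfsg.Agent.S0145.sum_irr_mul_conj (G := G) 1 x
    rw [if_neg (fun h => hx (by
      obtain ⟨c, hc⟩ := isConj_iff.1 h
      rw [← hc]; group))] at h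
    rw [map_sum, map_zero, ← h]
    refine Finset.sum_congr rfl fun χ _ => ?_
    rw [map_mul, ha, hconj, map_natCast, Cfsg.Agent.Blocks.Basic.irr_one_eq_charDegree χ.2]
  have h2 : ∑ χ : IrrCharacter G, a χ ^ 2 =
      (Nat.card (Subgroup.centralizer ({x} : Set G)) : integralClosure ℤ ℂ) := by
    apply hinj
    have h := Cfsg.Agent.S0145.sum_irr_mul_conj (G := G) x x
    rw [if_pos (IsConj.refl x)] at h
    rw [map_sum, map_natCast, ← h]
    refine Finset.sum_congr rfl fun χ _ => ?_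
    rw [map_pow, ha, hconj, pow_two]
  -- reduce modulo two
  let I : Ideal (integralClosure ℤ ℂ) := Ideal.span {2}
  let q := Ideal.Quotient.mk I
  have h20 : q 2 = 0 := Ideal.Quotient.eq_zero_iff_mem.2 (Ideal.mem_span_singleton_self 2)
  have h10 : q 1 ≠ 0 := by
    intro h
    exact H665.EvenDegree.not_two_dvd_one (Ideal.mem_span_singleton.1 (Ideal.Quotient.eq_zero_iff_mem.1 h))
  have h2' : (2 : integralClosure ℤ ℂ ⧸ I) = 0 := by rw [← h20]; rfl
  have hodd' : ∀ n : ℕ, Odd n → ((n : ℕ) : integralClosure ℤ ℂ ⧸ I) = 1 := by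
    rintro n ⟨k, rfl⟩
    push_cast
    rw [h2', zero_mul, zero_add]
  have hnt : Nontrivial (integralClosure ℤ ℂ ⧸ I) := ⟨⟨q 1, 0, h10⟩⟩
  have hch : CharP (integralClosure ℤ ℂ ⧸ I) 2 := CharTwo.of_one_ne_zero_of_two_eq_zero one_ne_zero h2'
  have e1 : ∑ χ : IrrCharacter G, q (a χ) = 0 := by
    have h := congrArg q h1
    rw [map_sum, map_zero] at h
    rw [← h]
    refine Finset.sum_congr rfl fun χ _ => ?_
    rw [map_mul, map_natCast]
    by_cases hev : Even (charDegree (χ : G → ℂ))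
    · have h0 : a χ = 0 := Subtype.ext (hcon χ hev)
      rw [h0, map_zero, mul_zero]
    · rw [hodd' _ (Nat.not_even_iff_odd.1 hev), one_mul]
  have e2 : ∑ χ : IrrCharacter G, q (a χ) ^ 2 = 1 := by
    have h := congrArg q h2
    rw [map_sum, map_natCast, hodd' _ hodd] at h
    rw [← h]
    refine Finset.sum_congr rfl fun χ _ => ?_
    rw [map_pow]
  have e3 : (∑ χ : IrrCharacter G, q (a χ)) ^ 2 = ∑ χ : IrrCharacter G, q (a χ) ^ 2 := by
    have : Fact (Nat.Prime 2) := ⟨Nat.prime_two⟩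
    exact sum_pow_char 2 _ _
  rw [e1, e2] at e3
  exact one_ne_zero (e3.symm.trans (by ring))

/-! ### A known degree -/

/-- A known degree divisible by `p r`, `g` of order `r ∥ |G|` inverted by `t`. -/
theorem two_of_inverted [Finite G] {p : ℕ} [hp : Fact p.Prime] {t g : G} (ht : t * t = 1)
    (hg : t * g * t⁻¹ = g⁻¹)
    (hodd : Odd (Nat.card (Subgroup.centralizer ({g} : Set G))))
    (hpg : ¬ p ∣ Nat.card (Subgroup.centralizer ({g} : Set G))) {k : ℕ}
    (hk : p ^ k ∣ Nat.card G)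
    (h : ¬ p ^ k ∣ Nat.card (Subgroup.centralizer ({t} : Set G)) ^ 2)
    {r : ℕ} (hr : r.Prime) (hgr : orderOf g = r) (hr2 : ¬ r ^ 2 ∣ Nat.card G)
    {a : ℕ} (ha : ∃ χ : IrrCharacter G, charDegree (χ : G → ℂ) = a) (hpa : p ∣ a) (hra : r ∣ a) : Two p G := by
  obtain ⟨χ, hχ, hχg⟩ := exists_pow_dvd_ne_zero (m := 0) ht hg hodd hpg hk (by rwa [pow_zero, one_mul])
  obtain ⟨α, hα⟩ := ha
  rw [zero_add, pow_one] at hχ
  refine two_of_degree_ne α χ (hα ▸ hpa) hχ ?_
  intro he
  refine not_dvd_of_ne_zero hr (by rw [← hgr]; exact _root_.orderOf_dvd_natCard g) hr2 hgr hχg ?_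
  rw [← he, hα]
  exact hra

/-- The prime 2: a known degree divisible by `2 r`, `x` real of order `r ∥ |G|`. -/
theorem two_of_real [Finite G] {x : G} (hx : x ≠ 1) (hreal : IsConj x x⁻¹)
    (hodd : Odd (Nat.card (Subgroup.centralizer ({x} : Set G))))
    {r : ℕ} (hr : r.Prime) (hxr : orderOf x = r) (hr2 : ¬ r ^ 2 ∣ Nat.card G)
    {a : ℕ} (ha : ∃ χ : IrrCharacter G, charDegree (χ : G → ℂ) = a) (hpa : 2 ∣ a) (hra : r ∣ a) : Two 2 G := by
  obtain ⟨χ, hχ, hχg⟩ := exists_even_ne_zero hx hreal hodd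
  obtain ⟨α, hα⟩ := ha
  refine two_of_degree_ne α χ (hα ▸ hpa) hχ.two_dvd ?_
  intro he
  refine not_dvd_of_ne_zero hr (by rw [← hxr]; exact _root_.orderOf_dvd_natCard x) hr2 hxr hχg ?_
  rw [← he, hα]
  exact hra

/-! ### Two self-centralizing primes -/

/-- the value at an involution is an integer -/
theorem exists_int_invol {χ : G → ℂ} (hχ : IsCharacter G χ) {t : G} (ht : t * t = 1) : ∃ z : ℤ, χ t = z := by
  obtain ⟨m, h1, h2, -⟩ := H729.Norm.exists_mult hχ (p := 2) (by norm_num) (by rw [pow_two, ht])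
  rw [Finset.sum_range_succ, Finset.sum_range_succ, Finset.sum_range_zero, zero_add] at h1
  rw [Finset.sum_range_succ, Finset.sum_range_succ, Finset.sum_range_zero, zero_add, pow_zero, pow_one, ← h1] at h2
  refine ⟨(m 0 : ℤ) - m 1, ?_⟩
  push_cast
  push_cast at h2
  linear_combination h2

/-- the number of pairs -/
theorem npairs_eq [Finite G] {t g : G} (ht : t * t = 1) (hg : t * g * t⁻¹ = g⁻¹)
    {r : ℕ} (hr : r.Prime) (hr2 : r ≠ 2) (hgr : orderOf g = r)
    (hC : Nat.card (Subgroup.centralizer ({g} : Set G)) = r) : npairs t t g = r := by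
  have hodd : Odd (Nat.card (Subgroup.centralizer ({g} : Set G))) := by
    rw [hC]
    exact hr.odd_of_ne_two hr2
  have h1 := npairs_dvd ht hg hodd
  rw [hC] at h1
  rcases (Nat.dvd_prime hr).1 h1 with h | h
  swap
  · exact h
  exfalso
  -- two pairs
  have hti : t⁻¹ = t := inv_eq_of_mul_eq_one_left ht
  have hg1 : g ^ r = 1 := by rw [← hgr]; exact pow_orderOf_eq_one g
  have hodd' := hodd
  obtain ⟨j, hj⟩ := exists_two_mul hodd
  rw [hC] at hj
  have htg : t * g = g⁻¹ * t := by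
    calc t * g = t * g * t⁻¹ * t := by group
      _ = g⁻¹ * t := by rw [hg]
  have hti2 : t * g⁻¹ * t⁻¹ = g := by
    calc t * g⁻¹ * t⁻¹ = (t * g * t⁻¹)⁻¹ := by group
      _ = g := by rw [hg, inv_inv]
  have h3 : g⁻¹ * t = (g⁻¹) ^ j * t * ((g⁻¹) ^ j)⁻¹ :=
    mul_eq_conj (c := g⁻¹) (by rw [hti2, inv_inv]) (n := r) (by rw [inv_pow, hg1, inv_one]) hj
  have h4 : g * t = g ^ j * t * (g ^ j)⁻¹ := mul_eq_conj hg hg1 hj
  -- the pairs `(t, t g)` and `(g t, t)`
  have p1 : IsConj t t ∧ IsConj t (t * g) ∧ t * (t * g) = g :=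
    ⟨IsConj.refl t, isConj_iff.2 ⟨(g⁻¹) ^ j, by rw [htg, ← h3]⟩, by rw [← mul_assoc, ht, one_mul]⟩
  have p2 : IsConj t (g * t) ∧ IsConj t t ∧ g * t * t = g :=
    ⟨isConj_iff.2 ⟨g ^ j, h4.symm⟩, IsConj.refl t, by rw [mul_assoc, ht, mul_one]⟩
  have hss : Subsingleton {p : G × G // IsConj t p.1 ∧ IsConj t p.2 ∧ p.1 * p.2 = g} := by
    have h5 : Nat.card {p : G × G // IsConj t p.1 ∧ IsConj t p.2 ∧ p.1 * p.2 = g} = 1 := h
    exact (Nat.card_eq_one_iff_unique.1 h5).1
  have h6 := hss.elim ⟨(t, t * g), p1⟩ ⟨(g * t, t), p2⟩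
  have h7 : t = g * t := congrArg (fun z => z.1.1) h6
  have h8 : g = 1 := by
    have := mul_right_cancel (a := (1 : G)) (b := t) (c := g) (by rw [one_mul]; exact h7)
    exact this.symm
  rw [h8, orderOf_one] at hgr
  exact hr.one_lt.ne hgr

theorem npairs_congr {t s g : G} (h : IsConj t s) : npairs t t g = npairs s s g := by
  unfold npairs
  have e : ∀ x : G, IsConj t x ↔ IsConj s x := fun x => ⟨fun h1 => h.symm.trans h1, fun h1 => h.trans h1⟩
  simp only [e]

/-- the number of pairs, for all the elements of order `r` -/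
theorem npairs_all [Finite G] {r : ℕ} [hr : Fact r.Prime] (hr2 : r ≠ 2) {g s t : G} (hs : s * s = 1)
    (hg : s * g * s⁻¹ = g⁻¹) (hgr : orderOf g = r) (hC : Nat.card (centralizer ({g} : Set G)) = r)
    (hst : IsConj t s) {y : G} (hy : orderOf y = r) : npairs t t y = r := by
  have hC' : centralizer ({g} : Set G) = zpowers g := by
    symm
    apply Subgroup.eq_of_le_of_card_ge
    · rw [zpowers_le, mem_centralizer_singleton_iff]
    · rw [hC, Nat.card_zpowers, hgr]
  obtain ⟨y', hy', hy1, hyy⟩ := SmallSimple.SelfCentPrime.exists_conj_mem hgr hC' hy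
  have hcy := SmallSimple.SelfCentPrime.centralizer_eq_of_mem hgr hC' hy' hy1
  obtain ⟨k, rfl⟩ := hy'
  obtain ⟨c, hc⟩ := isConj_iff.1 hyy.symm
  have h1 : s * g ^ k * s⁻¹ = (g ^ k)⁻¹ := by
    rw [← conj_zpow, hg, inv_zpow]
  have h2 : c * s * c⁻¹ * (c * s * c⁻¹) = 1 := by
    calc c * s * c⁻¹ * (c * s * c⁻¹) = c * (s * s) * c⁻¹ := by group
      _ = 1 := by rw [hs]; group
  have h3 : c * s * c⁻¹ * y * (c * s * c⁻¹)⁻¹ = y⁻¹ := by
    rw [← hc]
    show c * s * c⁻¹ * (c * g ^ k * c⁻¹) * (c * s * c⁻¹)⁻¹ = (c * g ^ k * c⁻¹)⁻¹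
    calc c * s * c⁻¹ * (c * g ^ k * c⁻¹) * (c * s * c⁻¹)⁻¹ = c * (s * g ^ k * s⁻¹) * c⁻¹ := by group
      _ = c * (g ^ k)⁻¹ * c⁻¹ := by rw [h1]
      _ = _ := by group
  have h4 : Nat.card (centralizer ({y} : Set G)) = r := by
    rw [← Cfsg.Agent.Blocks.SylowIn.card_centralizer_of_isConj hyy]
    show Nat.card (centralizer ({g ^ k} : Set G)) = r
    have h5 : centralizer ({g ^ k} : Set G) = zpowers g := hcy
    rw [h5, Nat.card_zpowers, hgr]
  rw [npairs_congr (hst.trans (isConj_iff.2 ⟨c, rfl⟩ : IsConj s (c * s * c⁻¹)))]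
  exact npairs_eq h2 h3 hr.out hr2 hy h4

variable [Finite G] [Fintype (IrrCharacter G)]

/-- the sum over the column -/
theorem col_sum {t : G} {P : Subgroup G} {n e t' : ℕ} (he : e ≠ 0) (het : e * t' = Nat.card P - 1)
    {W : IrrCharacter G → ℤ} (hW : IsCol P e W) (hn : ∀ y ∈ P, y ≠ 1 → npairs t t y = n) :
    ∑ χ : IrrCharacter G, (χ : G → ℂ) t * (χ : G → ℂ) t * (W χ : ℂ) / (χ : G → ℂ) 1 =
      (t' * n * (Nat.card (centralizer ({t} : Set G))) ^ 2 : ℂ) / Nat.card G := by
  classical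
  have hPf := Fintype.ofFinite P
  have hG : (Nat.card G : ℂ) ≠ 0 := by exact_mod_cast Nat.card_pos.ne'
  have ha : (Nat.card (Subgroup.centralizer ({t} : Set G)) : ℂ) *
      ((Subgroup.centralizer ({t} : Set G)).index : ℂ) = (Nat.card G : ℂ) := by
    exact_mod_cast Subgroup.card_mul_index _
  have hone : ∀ y ∈ P, y ≠ 1 → ∑ χ : IrrCharacter G,
      (χ : G → ℂ) t * (χ : G → ℂ) t * conj ((χ : G → ℂ) y) / (χ : G → ℂ) 1 =
      (n * (Nat.card (centralizer ({t} : Set G))) ^ 2 : ℂ) / Nat.card G := by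
    intro y hy hy1
    have h1 := Cfsg.Agent.Characters.ClassMul.card_class_mul t t y
    have h2 : (npairs t t y : ℂ) = ((Subgroup.centralizer ({t} : Set G)).index : ℂ) *
        ((Subgroup.centralizer ({t} : Set G)).index : ℂ) / (Nat.card G : ℂ) *
        ∑ χ : IrrCharacter G, (χ : G → ℂ) t * (χ : G → ℂ) t * conj ((χ : G → ℂ) y) / (χ : G → ℂ) 1 := h1
    rw [hn y hy hy1] at h2
    have hi : ((Subgroup.centralizer ({t} : Set G)).index : ℂ) ≠ 0 := by
      exact_mod_cast Subgroup.index_ne_zero_of_finite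
    have hc : (Nat.card (Subgroup.centralizer ({t} : Set G)) : ℂ) ≠ 0 := by
      exact_mod_cast Nat.card_pos.ne'
    rw [h2, ← ha]
    field_simp
  -- sum over `P`
  have hsum : ∑ y ∈ (Finset.univ : Finset P).erase 1, ∑ χ : IrrCharacter G,
      (χ : G → ℂ) t * (χ : G → ℂ) t * conj ((χ : G → ℂ) (y : G)) / (χ : G → ℂ) 1 =
      ((Nat.card P - 1 : ℕ) : ℂ) * ((n * (Nat.card (centralizer ({t} : Set G))) ^ 2 : ℂ) / Nat.card G) := by
    rw [Finset.sum_congr rfl fun (y : P) hy => hone (y : G) y.2 fun h => (Finset.mem_erase.1 hy).1 (Subtype.ext h),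
      Finset.sum_const, nsmul_eq_mul, Finset.card_erase_of_mem (Finset.mem_univ _), Finset.card_univ,
      ← Nat.card_eq_fintype_card]
  rw [Finset.sum_comm] at hsum
  have hterm : ∀ χ : IrrCharacter G, ∑ y ∈ (Finset.univ : Finset P).erase 1,
      (χ : G → ℂ) t * (χ : G → ℂ) t * conj ((χ : G → ℂ) (y : G)) / (χ : G → ℂ) 1 =
      (e : ℂ) * ((χ : G → ℂ) t * (χ : G → ℂ) t * (W χ : ℂ) / (χ : G → ℂ) 1) := by
    intro χ
    rw [← Finset.sum_div, ← Finset.mul_sum, ← map_sum, ← csum_eq_erase, ← hW χ]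
    rw [map_mul, map_natCast, map_intCast]
    ring
  simp only [hterm] at hsum
  rw [← Finset.mul_sum, ← het] at hsum
  have he' : (e : ℂ) ≠ 0 := by exact_mod_cast he
  apply mul_left_cancel₀ he'
  rw [hsum]
  push_cast
  ring

/-- **Two primes `r`, `s` and the columns `W`, `V`.** -/
theorem two_of_ratio {p : ℕ} [hp : Fact p.Prime] (hIM : IM p G) (hG2 : ¬ p ^ 2 ∣ Nat.card G)
    {t : G} (ht : t * t = 1) (hCt : ¬ p ∣ Nat.card (centralizer ({t} : Set G)))
    (haut : ∀ σ : MulAut G, IsConj t (σ t))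
    {r s : ℕ} [hr : Fact r.Prime] [hs : Fact s.Prime] (P : Sylow r G) (Q : Sylow s G)
    {e f t₁ t₂ n₁ n₂ : ℕ} (he : e ≠ 0) (hf : f ≠ 0) (het : e * t₁ = Nat.card P - 1) (hft : f * t₂ = Nat.card Q - 1)
    {W V : IrrCharacter G → ℤ} (hW : IsCol (P : Subgroup G) e W) (hV : IsCol (Q : Subgroup G) f V)
    (hn₁ : ∀ y ∈ P, y ≠ 1 → npairs t t y = n₁) (hn₂ : ∀ y ∈ Q, y ≠ 1 → npairs t t y = n₂)
    (hp1 : ¬ p ∣ t₁ * n₁)
    (hnum : ∀ χ : IrrCharacter G, (p : ℤ) ∣ (t₂ * n₂ : ℕ) * W χ - (t₁ * n₁ : ℕ) * V χ → (p : ℤ) ∣ W χ) :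
    Two p G := by
  classical
  by_contra hno
  obtain ⟨α, hα⟩ := hIM
  have hconj : ∀ β : IrrCharacter G, p ∣ charDegree (β : G → ℂ) →
      ∃ σ : MulAut G, ∀ s : G, (α : G → ℂ) (σ s) = (β : G → ℂ) s := by
    intro β hβ
    by_contra hcon
    push Not at hcon
    exact hno ⟨α, β, hα, hβ, hcon⟩
  have hdeg : ∀ χ : IrrCharacter G, (χ : G → ℂ) 1 = (charDegree (χ : G → ℂ) : ℂ) := fun χ =>
    Cfsg.Agent.Blocks.Basic.irr_one_eq_charDegree χ.2
  have hpos : ∀ χ : IrrCharacter G, charDegree (χ : G → ℂ) ≠ 0 := fun χ =>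
    (Cfsg.Agent.Blocks.Basic.charDegree_pos χ.2).ne'
  have hT : ∀ χ : IrrCharacter G, ∃ z : ℤ, (χ : G → ℂ) t = z := fun χ =>
    exists_int_invol (isIrr_isCharacter χ.2) ht
  choose T hT using hT
  -- the characters of degree divisible by `p` look alike
  have hsame : ∀ β : IrrCharacter G, p ∣ charDegree (β : G → ℂ) → charDegree (β : G → ℂ) = charDegree (α : G → ℂ) ∧
      T β = T α ∧ W β = W α ∧ V β = V α := by
    intro β hβ
    obtain ⟨σ, hσ⟩ := hconj β hβ
    refine ⟨?_, ?_, (col_aut P he hW σ α β hσ).symm, (col_aut Q hf hV σ α β hσ).symm⟩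
    · have h1 := hσ 1
      rw [map_one, hdeg, hdeg] at h1
      exact_mod_cast h1.symm
    · have h1 := hσ t
      obtain ⟨g, hg⟩ := isConj_iff.1 (haut σ)
      rw [← hg, inner_apply, hT, hT] at h1
      exact_mod_cast h1.symm
  -- the sums
  have s1 := col_sum (t := t) he het hW hn₁
  have s2 := col_sum (t := t) hf hft hV hn₂
  obtain ⟨c, hc⟩ : ∃ c, c = Nat.card (centralizer ({t} : Set G)) := ⟨_, rfl⟩
  obtain ⟨N, hN⟩ : ∃ N, N = Nat.card G := ⟨_, rfl⟩
  rw [← hc, ← hN] at s1 s2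
  rw [← hc] at hCt
  have hN0 : (N : ℂ) ≠ 0 := by rw [hN]; exact_mod_cast Nat.card_pos.ne'
  -- the product of the other degrees
  let D : ℕ := ∏ χ : IrrCharacter G, if p ∣ charDegree (χ : G → ℂ) then 1 else charDegree (χ : G → ℂ)
  have hD : ¬ p ∣ D := by
    intro hd
    obtain ⟨χ, -, hχ⟩ := (Prime.dvd_finsetProd_iff hp.out.prime _).1 hd
    split_ifs at hχ with h1
    · exact hp.out.one_lt.ne' (Nat.dvd_one.1 hχ)
    · exact h1 hχ
  have hDd : ∀ χ : IrrCharacter G, ¬ p ∣ charDegree (χ : G → ℂ) → ∃ k : ℕ, D = charDegree (χ : G → ℂ) * k := by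
    intro χ hχ
    have h1 : (if p ∣ charDegree (χ : G → ℂ) then 1 else charDegree (χ : G → ℂ)) ∣ D :=
      Finset.dvd_prod_of_mem _ (Finset.mem_univ χ)
    rw [if_neg hχ] at h1
    exact h1
  -- the sum of the other terms is an integer after multiplication by `D`
  have hint : ∀ U : IrrCharacter G → ℤ, ∃ z : ℤ, (D : ℂ) * ∑ χ : IrrCharacter G,
      (if p ∣ charDegree (χ : G → ℂ) then 0 else (χ : G → ℂ) t * (χ : G → ℂ) t * (U χ : ℂ) / (χ : G → ℂ) 1) = z := by
    intro U
    have h1 : ∀ χ : IrrCharacter G, ∃ z : ℤ, (D : ℂ) *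
        (if p ∣ charDegree (χ : G → ℂ) then 0 else (χ : G → ℂ) t * (χ : G → ℂ) t * (U χ : ℂ) / (χ : G → ℂ) 1) = z := by
      intro χ
      split_ifs with h
      · exact ⟨0, by simp⟩
      · obtain ⟨k, hk⟩ := hDd χ h
        refine ⟨k * (T χ * T χ * U χ), ?_⟩
        have h2 : (charDegree (χ : G → ℂ) : ℂ) ≠ 0 := by exact_mod_cast hpos χ
        rw [hdeg, hT, hk]
        push_cast
        field_simp
    choose z hz using h1
    refine ⟨∑ χ, z χ, ?_⟩
    rw [Finset.mul_sum]
    push_cast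
    exact Finset.sum_congr rfl fun χ _ => hz χ
  -- the other part
  obtain ⟨m, hm⟩ : ∃ m : ℕ, m = (Finset.univ.filter fun χ : IrrCharacter G => p ∣ charDegree (χ : G → ℂ)).card := ⟨_, rfl⟩
  have hpart : ∀ (U : IrrCharacter G → ℤ) (u : ℤ), (∀ β : IrrCharacter G, p ∣ charDegree (β : G → ℂ) → U β = u) →
      ∑ χ : IrrCharacter G, (χ : G → ℂ) t * (χ : G → ℂ) t * (U χ : ℂ) / (χ : G → ℂ) 1 =
      ∑ χ : IrrCharacter G, (if p ∣ charDegree (χ : G → ℂ) then 0 else
        (χ : G → ℂ) t * (χ : G → ℂ) t * (U χ : ℂ) / (χ : G → ℂ) 1) +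
      (m : ℂ) * ((T α * T α * u : ℤ) : ℂ) / charDegree (α : G → ℂ) := by
    intro U u hU
    have h1 : ∀ χ : IrrCharacter G, (χ : G → ℂ) t * (χ : G → ℂ) t * (U χ : ℂ) / (χ : G → ℂ) 1 =
        (if p ∣ charDegree (χ : G → ℂ) then 0 else
          (χ : G → ℂ) t * (χ : G → ℂ) t * (U χ : ℂ) / (χ : G → ℂ) 1) +
        (if p ∣ charDegree (χ : G → ℂ) then ((T α * T α * u : ℤ) : ℂ) / charDegree (α : G → ℂ) else 0) := by
      intro χ
      split_ifs with h
      · obtain ⟨h1, h2, -, -⟩ := hsame χ h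
        rw [zero_add, hdeg, hT, h1, h2, hU χ h]
        push_cast
        rfl
      · rw [add_zero]
    rw [Finset.sum_congr rfl fun χ _ => h1 χ, Finset.sum_add_distrib]
    congr 1
    rw [← Finset.sum_filter, Finset.sum_const, ← hm, nsmul_eq_mul]
    ring
  have q1 := hpart W (W α) fun β hβ => (hsame β hβ).2.2.1
  obtain ⟨U, hU⟩ : ∃ U : IrrCharacter G → ℤ, U = fun χ => (t₂ * n₂ : ℕ) * W χ - (t₁ * n₁ : ℕ) * V χ := ⟨_, rfl⟩
  have q2 := hpart U (U α) fun β hβ => by
    obtain ⟨-, -, h3, h4⟩ := hsame β hβ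
    rw [hU]
    show (t₂ * n₂ : ℕ) * W β - (t₁ * n₁ : ℕ) * V β = (t₂ * n₂ : ℕ) * W α - (t₁ * n₁ : ℕ) * V α
    rw [h3, h4]
  have s3 : ∑ χ : IrrCharacter G, (χ : G → ℂ) t * (χ : G → ℂ) t * (U χ : ℂ) / (χ : G → ℂ) 1 = 0 := by
    have h1 : ∀ χ : IrrCharacter G, (χ : G → ℂ) t * (χ : G → ℂ) t * (U χ : ℂ) / (χ : G → ℂ) 1 =
        (t₂ * n₂ : ℂ) * ((χ : G → ℂ) t * (χ : G → ℂ) t * (W χ : ℂ) / (χ : G → ℂ) 1) -
        (t₁ * n₁ : ℂ) * ((χ : G → ℂ) t * (χ : G → ℂ) t * (V χ : ℂ) / (χ : G → ℂ) 1) := by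
      intro χ
      rw [hU]
      push_cast
      ring
    rw [Finset.sum_congr rfl fun χ _ => h1 χ, Finset.sum_sub_distrib, ← Finset.mul_sum, ← Finset.mul_sum, s1, s2]
    ring
  obtain ⟨z1, hz1⟩ := hint W
  obtain ⟨z2, hz2⟩ := hint U
  -- arithmetic
  obtain ⟨d, hd⟩ : ∃ d, d = charDegree (α : G → ℂ) := ⟨_, rfl⟩
  rw [← hd] at q1 q2 hα
  have hd0 : (d : ℂ) ≠ 0 := by rw [hd]; exact_mod_cast hpos α
  obtain ⟨d', hd'⟩ := hα
  have hdN : d ∣ N := by
    rw [hd, hN]
    exact Blocks.Knorr.charDegree_dvd α.2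
  have hpd' : ¬ p ∣ d' := by
    intro h
    apply hG2
    rw [← hN]
    refine Dvd.dvd.trans ?_ hdN
    rw [hd', pow_two]
    exact Nat.mul_dvd_mul_left p h
  obtain ⟨k, hk⟩ := hdN
  have hpk : ¬ p ∣ k := by
    intro h
    apply hG2
    rw [← hN, hk, hd', pow_two, mul_assoc]
    exact Nat.mul_dvd_mul_left p (h.trans (Dvd.intro_left d' rfl))
  have hk0 : (k : ℂ) ≠ 0 := by
    intro h
    apply hN0
    rw [hk]
    push_cast
    rw [h, mul_zero]
  -- first relation
  have a1 : (D : ℤ) * (t₁ * n₁ * c ^ 2 : ℕ) = z1 * (N : ℤ) + (D : ℤ) * m * (T α * T α * W α) * k := by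
    have h1 : (D : ℂ) * ((t₁ * n₁ * c ^ 2 : ℂ) / N) = z1 + D * ((m : ℂ) * ((T α * T α * W α : ℤ) : ℂ) / d) := by
      rw [← s1, q1, mul_add, hz1]
    have h2 : ((D : ℤ) * (t₁ * n₁ * c ^ 2 : ℕ) : ℂ) = ((z1 * (N : ℤ) + (D : ℤ) * m * (T α * T α * W α) * k : ℤ) : ℂ) := by
      have h3 : (N : ℂ) = d * k := by rw [hk]; push_cast; ring
      have h4 : (D : ℂ) * (t₁ * n₁ * c ^ 2 : ℂ) = (D : ℂ) * ((t₁ * n₁ * c ^ 2 : ℂ) / N) * N := by
        field_simp
      push_cast
      push_cast at h4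
      rw [h4, h1, h3]
      push_cast
      field_simp
    exact_mod_cast h2
  have a2 : (0 : ℤ) = z2 * (N : ℤ) + (D : ℤ) * m * (T α * T α * U α) * k := by
    have h1 : (0 : ℂ) = z2 + D * ((m : ℂ) * ((T α * T α * U α : ℤ) : ℂ) / d) := by
      rw [← hz2, ← mul_add, ← q2, s3, mul_zero]
    have h2 : ((0 : ℤ) : ℂ) = ((z2 * (N : ℤ) + (D : ℤ) * m * (T α * T α * U α) * k : ℤ) : ℂ) := by
      have h3 : (N : ℂ) = d * k := by rw [hk]; push_cast; ring
      have h4 : (0 : ℂ) = 0 * N := by ring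
      push_cast
      rw [h4, h1, h3]
      push_cast
      field_simp
    exact_mod_cast h2
  have hpN : (p : ℤ) ∣ N := by
    rw [hk, hd']
    push_cast
    exact Dvd.intro _ (by ring : (p : ℤ) * (d' * k) = _)
  have hpz : Prime (p : ℤ) := Nat.prime_iff_prime_int.1 hp.out
  have cast_not : ∀ a : ℕ, ¬ p ∣ a → ¬ (p : ℤ) ∣ a := fun a h h1 => h (by exact_mod_cast h1)
  have b1 : ¬ (p : ℤ) ∣ (D : ℤ) * m * (T α * T α * W α) * k := by
    intro h
    have h1 : (p : ℤ) ∣ (D : ℤ) * (t₁ * n₁ * c ^ 2 : ℕ) := by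
      rw [a1]
      exact dvd_add (hpN.mul_left _) h
    rcases hpz.dvd_or_dvd h1 with h1 | h1
    · exact cast_not _ hD h1
    · have h2 : p ∣ t₁ * n₁ * c ^ 2 := by exact_mod_cast h1
      rcases hp.out.dvd_mul.1 h2 with h2 | h2
      · exact hp1 h2
      · exact hCt (hp.out.dvd_of_dvd_pow h2)
  have b2 : (p : ℤ) ∣ (D : ℤ) * m * (T α * T α * U α) * k := by
    have h1 : (D : ℤ) * m * (T α * T α * U α) * k = -(z2 * N) := by linear_combination -a2
    rw [h1]
    exact (hpN.mul_left _).neg_right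
  have b3 : (p : ℤ) ∣ U α := by
    have n1 : ¬ (p : ℤ) ∣ D := fun h => b1 (by
      have := h.mul_right ((m : ℤ) * (T α * T α * W α) * k); rwa [← mul_assoc, ← mul_assoc] at this)
    have n2 : ¬ (p : ℤ) ∣ m := fun h => b1 (by
      have := h.mul_left (D : ℤ); exact (this.mul_right _).mul_right _)
    have n3 : ¬ (p : ℤ) ∣ T α := fun h => b1 (by
      exact Dvd.dvd.mul_right (Dvd.dvd.mul_left ((h.mul_right (T α)).mul_right (W α)) _) _)
    rcases hpz.dvd_or_dvd b2 with h | h
    · rcases hpz.dvd_or_dvd h with h | h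
      · rcases hpz.dvd_or_dvd h with h | h
        · exact absurd h n1
        · exact absurd h n2
      · rcases hpz.dvd_or_dvd h with h | h
        · rcases hpz.dvd_or_dvd h with h | h
          · exact absurd h n3
          · exact absurd h n3
        · exact h
    · exact absurd h (cast_not _ hpk)
  rw [hU] at b3
  have b4 := hnum α b3
  exact b1 (Dvd.dvd.mul_right (Dvd.dvd.mul_left (b4.mul_left (T α * T α)) _) _)

end Cfsg.Agent.H892.Two
end

-- part: H892/Two/Fi24
section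
/-!
# `Fi₂₄'`: two characters of degree divisible by `p` (helper892)

The degrees 57477 and 249458; elements of order 17 and 29 inverted by an involution of the class of `z0`; the
centralizer `5 × A₉`.
-/

set_option autoImplicit false
set_option maxRecDepth 10000

namespace Cfsg.Agent.H892.Two.Fi24

open Cfsg Cfsg.Spor Cfsg.Agent.H33 Cfsg.Agent.R08 Cfsg.Agent.R08.FiTwentyFour
open Subgroup Cfsg.Agent.CTwoTab.FiTF
open Cfsg.Agent.H713.Spor.FiTF
open Cfsg.Agent.H30.FourTrans Cfsg.Agent.H30.IMFi24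
open Cfsg.Agent.H651.Two Cfsg.Agent.H596.OneFacts

universe u

local notation "L" => Cfsg.Agent.R08.FiTwentyFour.L

/-- subgroups of the commutator subgroup -/
theorem centralizer_map {X : Fi24} (hX : X ∈ commutator Fi24) :
    (centralizer ({(⟨X, hX⟩ : Spor.Fi24')} : Set Spor.Fi24')).map (_root_.commutator Fi24).subtype =
      _root_.commutator Fi24 ⊓ centralizer (zpowers X : Set Fi24) := by
  ext y
  constructor
  · rintro ⟨z, hz, rfl⟩
    refine ⟨z.2, ?_⟩
    show (z : Fi24) ∈ centralizer (zpowers X : Set Fi24)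
    rw [cent_zpowers, mem_centralizer_singleton_iff]
    exact congrArg Subtype.val (mem_centralizer_singleton_iff.1 hz)
  · rintro ⟨h1, h2⟩
    have h2 : y ∈ centralizer (zpowers X : Set Fi24) := h2
    rw [cent_zpowers] at h2
    have h3 := mem_centralizer_singleton_iff.1 h2
    refine ⟨⟨y, h1⟩, ?_, rfl⟩
    show (⟨y, h1⟩ : Spor.Fi24') ∈ centralizer ({(⟨X, hX⟩ : Spor.Fi24')} : Set Spor.Fi24')
    rw [mem_centralizer_singleton_iff]
    exact Subtype.ext h3

theorem card_centralizer_map {X : Fi24} (hX : X ∈ commutator Fi24) :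
    Nat.card (centralizer ({(⟨X, hX⟩ : Spor.Fi24')} : Set Spor.Fi24')) =
      Nat.card ↥(_root_.commutator Fi24 ⊓ centralizer (zpowers X : Set Fi24)) := by
  rw [← centralizer_map hX]
  exact (Subgroup.card_map_of_injective (Subgroup.subtype_injective _)).symm

/-! ### Elements of order 17 -/

theorem exists_y : ∃ y s : Spor.Fi24', orderOf y = 17 ∧ Nat.card (centralizer ({y} : Set Spor.Fi24')) = 17 ∧
    s * s = 1 ∧ s ≠ 1 ∧ s * y * s⁻¹ = y⁻¹ := by
  have hfin : Finite Fi24 := finite_Fi24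
  have hfin' : Finite Spor.Fi24' := finite'
  obtain ⟨X, hX⟩ : ∃ X : Fi24, X = Cfsg.Agent.H843.D17.D.x := ⟨_, rfl⟩
  obtain ⟨w, hw⟩ : ∃ w : Fi24, w = Cfsg.Agent.Fischer.Fi24Rep.word Cfsg.Agent.H843.D17.w3 := ⟨_, rfl⟩
  have ho : orderOf X = 17 := by rw [hX]; exact Cfsg.Agent.H843.D17.order
  have h17 : X ^ 17 = 1 := by rw [← ho]; exact pow_orderOf_eq_one X
  have hXw : w * X * w⁻¹ = X ^ 3 := by
    rw [hX, hw]
    exact Cfsg.Agent.H843.Fi24N.conj_of Cfsg.Agent.H843.D17.h3
  have hC : Nat.card (centralizer (zpowers X : Set Fi24)) = 34 := by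
    rw [hX]
    exact Cfsg.Agent.H843.D17.main.2
  have hXK : X ∈ _root_.commutator Fi24 := Cfsg.Agent.H843.Fi24N.mem_commutator (by rw [ho]; decide)
  have hw2 : w ^ 2 ∈ _root_.commutator Fi24 := by
    have h2 : w ^ (_root_.commutator Fi24).index ∈ _root_.commutator Fi24 := Subgroup.pow_index_mem _ _
    rwa [index_commutator] at h2
  have hwK : w ^ 8 ∈ _root_.commutator Fi24 := by
    rw [show w ^ 8 = (w ^ 2) ^ 4 by rw [← pow_mul]]
    exact pow_mem hw2 4
  -- powers
  have hpw : ∀ k : ℕ, w ^ k * X * (w ^ k)⁻¹ = X ^ (3 ^ k) := by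
    intro k
    induction k with
    | zero => simp
    | succ k ih =>
      calc w ^ (k + 1) * X * (w ^ (k + 1))⁻¹ = w * (w ^ k * X * (w ^ k)⁻¹) * w⁻¹ := by rw [pow_succ']; group
        _ = (w * X * w⁻¹) ^ (3 ^ k) := by rw [ih, conj_pow]
        _ = X ^ (3 ^ (k + 1)) := by rw [hXw, ← pow_mul]; congr 1; ring
  have hinv : w ^ 8 * X * (w ^ 8)⁻¹ = X⁻¹ := by
    rw [hpw 8]
    calc X ^ 3 ^ 8 = (X ^ 17) ^ 386 * X⁻¹ := by group
      _ = X⁻¹ := by rw [h17]; group
  -- the centralizer in the commutator subgroup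
  have hl : Fischer.Fi24Rep.gen .l ∈ L ∩ (centralizer (zpowers X : Set Fi24) : Set Fi24) := by
    rw [hX, Cfsg.Agent.H843.D17.inter]; rfl
  have h34 := Cfsg.Agent.H843.Fi24N.half hl.2 hl.1
  rw [hC] at h34
  have hC' : Nat.card (centralizer ({(⟨X, hXK⟩ : Spor.Fi24')} : Set Spor.Fi24')) = 17 := by
    rw [card_centralizer_map]
    omega
  have hX'o : orderOf (⟨X, hXK⟩ : Spor.Fi24') = 17 := by rw [Subgroup.orderOf_mk, ho]
  have hcent : centralizer ({(⟨X, hXK⟩ : Spor.Fi24')} : Set Spor.Fi24') = zpowers (⟨X, hXK⟩ : Spor.Fi24') := by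
    symm
    apply eq_of_le_of_card_ge
    · rw [zpowers_le, mem_centralizer_singleton_iff]
    · rw [hC', Nat.card_zpowers, hX'o]
  obtain ⟨y, hy⟩ : ∃ y : Spor.Fi24', y = ⟨X, hXK⟩ := ⟨_, rfl⟩
  obtain ⟨s, hs⟩ : ∃ s : Spor.Fi24', s = ⟨w ^ 8, hwK⟩ := ⟨_, rfl⟩
  rw [← hy] at hC' hX'o hcent
  have hsy : s * y * s⁻¹ = y⁻¹ := by
    rw [hy, hs]
    exact Subtype.ext hinv
  have hy17 : y ^ 17 = 1 := by rw [← hX'o]; exact pow_orderOf_eq_one y
  have hss : s * s = 1 := by
    have h5 : s * s ∈ zpowers y := by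
      rw [← hcent, mem_centralizer_singleton_iff]
      have h6 : s * s * y * (s * s)⁻¹ = y := by
        calc s * s * y * (s * s)⁻¹ = s * (s * y * s⁻¹) * s⁻¹ := by group
          _ = (s * y * s⁻¹)⁻¹ := by rw [hsy, ← conj_inv, hsy]
          _ = y := by rw [hsy, inv_inv]
      calc s * s * y = s * s * y * (s * s)⁻¹ * (s * s) := by group
        _ = y * (s * s) := by rw [h6]
    obtain ⟨k, hk⟩ := mem_zpowers_iff.1 h5
    have h7 : s * y ^ k * s⁻¹ = y ^ k := by rw [hk]; group
    rw [← conj_zpow, hsy] at h7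
    have h8 : y ^ (2 * k) = 1 := by
      have h9 : (y⁻¹) ^ k = (y ^ k)⁻¹ := inv_zpow y k
      rw [h9] at h7
      rw [two_mul, zpow_add]
      nth_rewrite 1 [← h7]
      exact inv_mul_cancel _
    rw [← hk]
    have h10 : ((17 : ℕ) : ℤ) ∣ 2 * k := by
      rw [← hX'o]; exact orderOf_dvd_iff_zpow_eq_one.2 h8
    have h11 : ((17 : ℕ) : ℤ) ∣ k := by
      have : IsCoprime ((17 : ℕ) : ℤ) 2 := by
        rw [Int.isCoprime_iff_gcd_eq_one]; norm_num
      exact this.dvd_of_dvd_mul_left h10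
    rw [← hX'o] at h11
    exact orderOf_dvd_iff_zpow_eq_one.1 h11
  refine ⟨y, s, hX'o, hC', hss, ?_, hsy⟩
  rintro h1
  rw [h1, one_mul, inv_one, mul_one] at hsy
  have h2 : y ^ 2 = 1 := by
    rw [pow_two]
    nth_rewrite 2 [hsy]
    exact mul_inv_cancel y
  have h3 := orderOf_dvd_of_pow_eq_one h2
  rw [hX'o] at h3
  norm_num at h3

/-- an involution inverting an element of odd order `n ∤ 60` is conjugate to `z0` -/
theorem conj_z0' {n : ℕ} (hn : Odd n) (h60 : ¬ n ∣ 60) {x t : Spor.Fi24'} (hx : orderOf x = n) (ht : t * t = 1)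
    (ht1 : t ≠ 1) (hinv : t * x * t⁻¹ = x⁻¹) : IsConj z0 t := by
  have ho : orderOf t = 2 := orderOf_eq_prime (by rw [pow_two, ht]) ht1
  rcases classes t ho with ⟨a, b, P, hab⟩ | ⟨g, h⟩
  · exfalso
    have hxn : x ^ n = 1 := by rw [← hx]; exact pow_orderOf_eq_one x
    obtain ⟨j, hj⟩ := Cfsg.Agent.H672.SC.exists_two_mul hn
    have hxt : x * t = x ^ j * t * (x ^ j)⁻¹ :=
      Cfsg.Agent.H672.SC.mul_eq_conj (n := n) hinv hxn hj
    have h1 : ((x : Spor.Fi24') : Fi24) * (a * b) = ((x ^ j : Spor.Fi24') : Fi24) * (a * b) * ((x ^ j : Spor.Fi24') : Fi24)⁻¹ := by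
      have h2 := congrArg Subtype.val hxt
      push_cast at h2 ⊢
      rwa [hab] at h2
    set y : Fi24 := ((x ^ j : Spor.Fi24') : Fi24) with hy
    have cab : a * b = b * a := P.ab
    have aa : a * a = 1 := FiTwentyFour.sq P.ha
    have bb : b * b = 1 := FiTwentyFour.sq P.hb
    have h3 := tr.pow_sixty (FiTwentyFour.conj P.ha y) (FiTwentyFour.conj P.hb y) P.ha P.hb
      (by
        calc y * a * y⁻¹ * (y * b * y⁻¹) = y * (a * b) * y⁻¹ := by group
          _ = y * (b * a) * y⁻¹ := by rw [cab]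
          _ = y * b * y⁻¹ * (y * a * y⁻¹) := by group) cab
    have h4 : y * a * y⁻¹ * (y * b * y⁻¹) * (a * b) = ((x : Spor.Fi24') : Fi24) := by
      calc y * a * y⁻¹ * (y * b * y⁻¹) * (a * b) = (y * (a * b) * y⁻¹) * (a * b) := by group
        _ = ((x : Spor.Fi24') : Fi24) * (a * (b * a) * b) := by rw [← h1]; group
        _ = ((x : Spor.Fi24') : Fi24) * ((a * a) * (b * b)) := by rw [← cab]; group
        _ = _ := by rw [aa, bb, one_mul, mul_one]
    rw [h4] at h3
    have h5 : x ^ 60 = 1 := Subtype.ext (by push_cast; exact h3)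
    have h6 := orderOf_dvd_of_pow_eq_one h5
    rw [hx] at h6
    exact h60 h6
  · exact isConj_iff.2 ⟨g, h.symm⟩

/-- the centralizer of `z0` -/
theorem card_dvd {t : Spor.Fi24'} (h : IsConj z0 t) : Nat.card (centralizer ({t} : Set Spor.Fi24')) ∣ 321052999680 := by
  have := finite'
  rw [Cfsg.Agent.Blocks.SylowIn.card_centralizer_of_isConj h, ← Cfsg.Agent.KFacts.FiTF.Order.card]
  let f : ↥(centralizer ({z0} : Set Spor.Fi24')) →* ↥(centralizer ({KFacts.FiTF.Defs.z} : Set Spor.Fi24)) :=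
    ((_root_.commutator Fi24).subtype.comp (centralizer ({z0} : Set Spor.Fi24')).subtype).codRestrict _ (by
      intro x
      rw [mem_centralizer_singleton_iff]
      exact congrArg Subtype.val (mem_centralizer_singleton_iff.1 x.2))
  refine Subgroup.card_dvd_of_injective f ?_
  intro x y h
  have h1 := (Subtype.mk.injEq _ _ _ _).mp h
  exact Subtype.ext (Subtype.ext h1)

theorem not_dvd {t : Spor.Fi24'} (h : IsConj z0 t) {p k : ℕ} (hn : ¬ p ^ k ∣ 321052999680 ^ 2) :
    ¬ p ^ k ∣ Nat.card (centralizer ({t} : Set Spor.Fi24')) ^ 2 := fun hd =>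
  hn (hd.trans (pow_dvd_pow_of_dvd (card_dvd h) 2))

/-! ### The prime 5 -/

section Five

open Cfsg.Agent.H841.Five Cfsg.Agent.LThreeFi24.FiveConj Cfsg.Agent.LThreeFi24.SNine

theorem three_five : 3 ≤ ND 5 Spor.Fi24' := by
  have hfin : Finite Fi24 := finite_Fi24
  have hfin' : Finite Spor.Fi24' := finite'
  have h5 : Nat.Prime 5 := by norm_num
  have : Fact (Nat.Prime 5) := ⟨h5⟩
  set D : Subgroup Fi24 := zpowers y0 with hD
  have hmem : ∀ n : Fi24, n ∈ centralizer (D : Set Fi24) ↔ n * y0 = y0 * n := by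
    intro n
    rw [hD, cent_zpowers, mem_centralizer_singleton_iff]
  have hPhi : Phi.range ≤ centralizer (D : Set Fi24) := by
    rintro _ ⟨σ, rfl⟩
    rw [hmem]
    exact (Phi_comm_y0 σ).eq
  set C := centralizer (D : Set Fi24) with hC
  set! N : Subgroup C := Phi.range.subgroupOf C with hN
  have hNn : N.Normal := by
    constructor
    rintro n hn ⟨c, hc⟩
    obtain ⟨i, σ, -, -, rfl⟩ := exists_of_comm ((hmem c).1 hc)
    obtain ⟨τ, hτ⟩ := mem_subgroupOf.1 hn
    rw [hN, mem_subgroupOf]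
    refine ⟨σ * τ * σ⁻¹, ?_⟩
    push_cast
    rw [← hτ, map_mul, map_mul, map_inv]
    have h1 : Commute (y0 ^ i) (Phi σ * Phi τ * (Phi σ)⁻¹) := by
      have := comm_y0_pow_Phi i (σ * τ * σ⁻¹)
      rwa [map_mul, map_mul, map_inv] at this
    calc Phi σ * Phi τ * (Phi σ)⁻¹ = (y0 ^ i * (Phi σ * Phi τ * (Phi σ)⁻¹)) * (y0 ^ i)⁻¹ := by
          rw [h1.eq]; group
      _ = y0 ^ i * Phi σ * Phi τ * (y0 ^ i * Phi σ)⁻¹ := by group
  have hIM : IM 5 C := by
    apply IM.of_normal N
    have e1 : N ≃* Phi.range := subgroupOfEquivOfLe hPhi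
    have e2 : Equiv.Perm (Fin 9) ≃* Phi.range := MonoidHom.ofInjective Phi_injective
    exact im5_S9.of_equiv (e1.trans e2.symm)
  -- the commutator subgroup
  have hy0 : y0 ∈ _root_.commutator Fi24 := Cfsg.Agent.H843.Fi24N.mem_commutator (by rw [orderOf_y0]; decide)
  have hIM' : IM 5 ((_root_.commutator Fi24).subgroupOf C) := by
    refine IM_of_le_index h5 _ ?_ hIM
    have h1 : ((_root_.commutator Fi24).subgroupOf C).index ∣ 2 := by
      rw [← index_commutator]
      exact Subgroup.relIndex_dvd_index_of_normal _ _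
    intro h2
    exact absurd (h2.trans h1) (by norm_num)
  have hox : orderOf (⟨y0, hy0⟩ : Spor.Fi24') = 5 := by rw [Subgroup.orderOf_mk, orderOf_y0]
  refine three_le_of_cent hox (by norm_num) ?_ ?_ (by rw [Cfsg.Agent.H30.IMFi24.card_F]; norm_num)
  · have e0 : ↥(centralizer ({(⟨y0, hy0⟩ : Spor.Fi24')} : Set Spor.Fi24')) ≃*
        ↥((centralizer ({(⟨y0, hy0⟩ : Spor.Fi24')} : Set Spor.Fi24')).map (_root_.commutator Fi24).subtype) :=
      Subgroup.equivMapOfInjective _ _ (Subgroup.subtype_injective _)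
    have e1 := e0.trans (MulEquiv.subgroupCongr (centralizer_map hy0))
    have e2 : ↥((_root_.commutator Fi24 ⊓ C).subgroupOf C) ≃* ↥(_root_.commutator Fi24 ⊓ C) := subgroupOfEquivOfLe inf_le_right
    have e3 : ↥((_root_.commutator Fi24).subgroupOf C) ≃* ↥((_root_.commutator Fi24 ⊓ C).subgroupOf C) :=
      MulEquiv.subgroupCongr (Subgroup.inf_subgroupOf_right _ _).symm
    exact hIM'.of_equiv (e1.trans (e3.trans e2).symm)
  · intro h
    have h1 := h.trans (Subgroup.card_subgroup_dvd_card _)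
    rw [Cfsg.Agent.H30.IMFi24.card_F] at h1
    revert h1
    norm_num

end Five

/-! ### The prime 13 -/

theorem two_thirteen : Two 13 Spor.Fi24' := by
  classical
  have hfin' : Finite Spor.Fi24' := finite'
  have := Cfsg.Agent.Characters.Core.finite_irr (G := Spor.Fi24')
  have := Fintype.ofFinite (IrrCharacter Spor.Fi24')
  have hp13 : Fact (Nat.Prime 13) := ⟨by norm_num⟩
  have hp17 : Fact (Nat.Prime 17) := ⟨by norm_num⟩
  have hp29 : Fact (Nat.Prime 29) := ⟨by norm_num⟩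
  have hs : IsSimpleGroup Spor.Fi24' := FiTwentyFour.isFi24'.1
  obtain ⟨x, t, hx, hC, ht, ht1, hinv⟩ := Cfsg.Agent.H30.IMFi24.exists_x
  obtain ⟨y, s, hy, hD, hs2, hs1, hinv'⟩ := exists_y
  have hzt : IsConj z0 t := conj_z0' (n := 29) (by decide) (by norm_num) hx ht ht1 hinv
  have hzs : IsConj z0 s := conj_z0' (n := 17) (by decide) (by norm_num) hy hs2 hs1 hinv'
  have hord : ∀ {r : ℕ} [Fact r.Prime] (P : Sylow r Spor.Fi24'), Nat.card P = r → ∀ z ∈ P, z ≠ 1 → orderOf z = r := by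
    intro r hr P hP z hz hz1
    have h1 : orderOf (⟨z, hz⟩ : P) ∣ Nat.card P := _root_.orderOf_dvd_natCard _
    rw [hP, Subgroup.orderOf_mk] at h1
    rcases (Nat.dvd_prime hr.out).1 h1 with h | h
    · exact absurd (orderOf_eq_one_iff.1 h) hz1
    · exact h
  obtain ⟨P, W, hP, he, hW, hWc⟩ := Cfsg.Agent.H653.Sieve.exists_col (G := Spor.Fi24') Cfsg.Agent.H30.GraphFi24.not_comm (p := 17)
    (N := 1255205709190661721292800) Cfsg.Agent.H30.IMFi24.card_F hy (k := 1) (by rw [hD]) 16 1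
    [(0, 0), (1, 1), (16, -1)] 0 false (by decide +kernel)
  obtain ⟨Q, V, hQ, hf, hV, hVc⟩ := Cfsg.Agent.H653.Sieve.exists_col (G := Spor.Fi24') Cfsg.Agent.H30.GraphFi24.not_comm (p := 29)
    (N := 1255205709190661721292800) Cfsg.Agent.H30.IMFi24.card_F hx (k := 1) (by rw [hC]) 14 2
    [(0, 0), (1, 2), (28, -2), (14, -1), (15, 1)] 0 false (by decide +kernel)
  refine two_of_ratio (p := 13) (t := t) (t₁ := 1) (t₂ := 2) (n₁ := 17) (n₂ := 29)
    (Cfsg.Agent.H30.IMFi24.im_fi24 (S := Spor.Fi24') ⟨MulEquiv.refl _⟩ (by rw [Cfsg.Agent.H30.IMFi24.card_F]; norm_num))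
    (by rw [Cfsg.Agent.H30.IMFi24.card_F]; norm_num) ht ?_ ?_ P Q he hf (by rw [hP]) (by rw [hQ]) hW hV ?_ ?_ (by norm_num) ?_
  · intro h
    have h1 := h.trans (card_dvd hzt)
    revert h1
    norm_num
  · intro σ
    refine hzt.symm.trans (conj_z0' (n := 29) (x := σ x) (by decide) (by norm_num) ?_ ?_ ?_ ?_)
    · rw [MulEquiv.orderOf_eq, hx]
    · rw [← map_mul, ht, map_one]
    · intro h
      exact ht1 (σ.injective (by rw [h, map_one]))
    · rw [← map_inv, ← map_mul, ← map_mul, hinv, map_inv]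
  · intro z hz hz1
    exact npairs_all (by norm_num) hs2 hinv' hy hD (hzt.symm.trans hzs) (hord P hP z hz hz1)
  · intro z hz hz1
    exact npairs_all (by norm_num) ht hinv hx hC (IsConj.refl t) (hord Q hQ z hz hz1)
  · intro χ hχ
    have h1 := hWc.1 χ
    have h2 := hVc.1 χ
    simp only [List.mem_cons, Prod.mk.injEq, List.not_mem_nil, or_false] at h1 h2
    rcases h1 with h | h | h <;> rcases h2 with h' | h' | h' | h' | h' <;> rw [h.2, h'.2] at hχ <;> rw [h.2] <;>
      revert hχ <;> norm_num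

theorem two {p : ℕ} (hp : p.Prime) (hd : p ∣ Nat.card Spor.Fi24') : Two p Spor.Fi24' := by
  have hfin' : Finite Spor.Fi24' := finite'
  obtain ⟨d1, d2⟩ := Cfsg.Agent.H30.GraphFi24.exists_deg
  obtain ⟨x, t, hx, hC, ht, ht1, hinv⟩ := Cfsg.Agent.H30.IMFi24.exists_x
  obtain ⟨y, s, hy, hD, hs2, hs1, hinv'⟩ := exists_y
  have hzt : IsConj z0 t := conj_z0' (n := 29) (by decide) (by norm_num) hx ht ht1 hinv
  have hzs : IsConj z0 s := conj_z0' (n := 17) (by decide) (by norm_num) hy hs2 hs1 hinv'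
  have hG := Cfsg.Agent.H30.IMFi24.card_F
  have hO : Nat.card (Out Spor.Fi24') ≤ 2 := (S2081.result).le
  have h0 := Cfsg.Agent.H30.GraphFi24.mem_primes hp hd
  have := Fact.mk hp
  simp only [List.mem_cons, List.not_mem_nil, or_false] at h0
  rcases h0 with rfl | rfl | rfl | rfl | rfl | rfl | rfl | rfl | rfl
  · exact two_of_real (x := x) (by rintro rfl; rw [orderOf_one] at hx; omega) (isConj_iff.2 ⟨t, hinv⟩)
      (by rw [hC]; decide) (r := 29) (by norm_num) hx (by rw [hG]; norm_num) d2 (by norm_num) (by norm_num)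
  · obtain ⟨χ, hχ⟩ := Cfsg.Agent.H672.SC.exists_pow_dvd_of_inverted (p := 3) (k := 16) (m := 1) ht hinv
      (by rw [hC]; decide) (by rw [hC]; norm_num) (by rw [hG]; norm_num) (by
        intro h
        have h1 := h.trans (Nat.mul_dvd_mul_left (3 ^ 1) (pow_dvd_pow_of_dvd (card_dvd hzt) 2))
        revert h1
        norm_num)
    exact two_of_deg_dvd d1 ⟨χ, hχ⟩ (by norm_num) (by norm_num) (by norm_num)
  · exact two_of_three hO three_five
  · exact two_of_inverted (p := 7) (k := 3) hs2 hinv' (by rw [hD]; decide) (by rw [hD]; norm_num)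
      (by rw [hG]; norm_num) (not_dvd hzs (by norm_num)) (r := 17) (by norm_num) hy (by rw [hG]; norm_num) d1
      (by norm_num) (by norm_num)
  · exact two_of_inverted (p := 11) (k := 1) ht hinv (by rw [hC]; decide) (by rw [hC]; norm_num)
      (by rw [hG]; norm_num) (not_dvd hzt (by norm_num)) (r := 29) (by norm_num) hx (by rw [hG]; norm_num) d2
      (by norm_num) (by norm_num)
  · exact two_thirteen
  · exact two_of_degs d1 d2 (by norm_num) (by norm_num) (by norm_num)
  · exact two_of_degs d1 d2 (by norm_num) (by norm_num) (by norm_num)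
  · exact two_of_inverted (p := 29) (k := 1) hs2 hinv' (by rw [hD]; decide) (by rw [hD]; norm_num)
      (by rw [hG]; norm_num) (not_dvd hzs (by norm_num)) (r := 17) (by norm_num) hy (by rw [hG]; norm_num) d2
      (by norm_num) (by norm_num)

/-- **The row `Fi₂₄'`.** -/
theorem two_fi24 {S : Type u} [Group S] (h : Spor.IsoFi24' S) {p : ℕ} [hp : Fact p.Prime]
    (hd : p ∣ Nat.card S) : TwoOr p S :=
  twoOr_of h hd (two hp.out)

end Cfsg.Agent.H892.Two.Fi24
end

private theorem dce_52f3049aa6e0 : _root_.True := by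
  try have : _root_.True := by simp only [_root_.Cfsg.Agent.H805.Two.Ru.f13.eq_1]
  try have : _root_.True := by simp only [_root_.Cfsg.Agent.H752.CoClasses.eqI.eq_def]
  try have : _root_.True := by simp only [_root_.Cfsg.Agent.H752.CoClasses.eqI.eq_2]
  try have : _root_.True := by simp only [_root_.Cfsg.Agent.H752.CoClasses.eqI.eq_3]
  try have : _root_.True := by simp only [_root_.Cfsg.Agent.H805.Two.Ru.ln.eq_1]
  try have : _root_.True := by simp only [_root_.Cfsg.Agent.H752.CoClasses.eqI._sparseCasesOn_1.else_eq]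
  try have : _root_.True := by simp only [_root_.Cfsg.Agent.H805.Two.Ru.facs.eq_1]
  try have : _root_.True := by simp only [_root_.Cfsg.Agent.H752.CoClasses.eqI.eq_1]
  try have : _root_.True := by simp only [_root_.Cfsg.Agent.H805.Two.Ru.kn2.eq_1]
  try have : _root_.True := by simp only [_root_.Cfsg.Agent.H805.Two.Ru.cd.eq_1]
  try have : _root_.True := by simp only [_root_.Cfsg.Agent.H752.CoClasses.eqI._sparseCasesOn_2.else_eq]
  try have : _root_.True := by simp only [_root_.Cfsg.Agent.H805.Two.Ru.pr.eq_1]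
  exact _root_.True.intro
end

-- part: H651/Two/J4
section
set_option linter.all false
open scoped Cfsg.Agent.FastGrp

-- part: H651/Two/J4Cert
section
set_option autoImplicit false
set_option maxRecDepth 100000

open Cfsg Subgroup

namespace Cfsg.Agent.H651.Two.J4

open Cfsg.Agent.H653.Sieve Cfsg.Agent.Characters.Core Cfsg.Agent.H596.OneFacts

universe u

variable {G : Type u} [Group G] [Finite G] [IsSimpleGroup G]

/-- The columns. -/
def cd : List CD :=
  [⟨29, 1, 28, 1, [(0, 0), (1, 1), (28, -1)], 0, false⟩,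
    ⟨43, 1, 14, 3, [(0, 0), (1, 3), (14, -1), (29, 1), (42, -3)], 3, true⟩,
    ⟨23, 1, 22, 1, [(0, 0), (1, 1), (22, -1)], 0, false⟩,
    ⟨37, 1, 12, 3, [(0, 0), (1, 3), (12, -1), (25, 1), (36, -3)], 3, true⟩,
    ⟨31, 1, 10, 3, [(0, 0), (1, 3), (10, -1), (21, 1), (30, -3)], 3, true⟩]

def pr : List ((ℕ → Bool) × ℕ) := []

theorem ok : (cd.all (CD.ok 86775571046077562880)) = true := by decide +kernel

theorem nd : (cd.map CD.r).Nodup := by decide

def facs : List (ℕ × ℕ) := [(43, 1), (37, 1), (31, 1), (29, 1), (23, 1), (11, 3), (7, 1), (5, 1), (3, 3), (2, 21)]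

theorem facs_prime : (facs.all fun pa => Nat.Prime pa.1) = true := by norm_num [facs]

theorem facs_prod : facProd facs = 86775571046077562880 := by decide +kernel

/-! ### `p = 11` -/

def c11 : List Cert :=
  [⟨0, [⟨0, 0, 0, [4987, 81, 0, 0]⟩, ⟨0, 0, 4987, [0, 10000, 1662]⟩, ⟨0, 0, 0, [0, 0]⟩, ⟨0, 0, 0, [0]⟩, ⟨0, 0, 0, []⟩], [], -105039⟩]

theorem h1_11 : (c11.all (headOK 86775571046077562880 (cd.map CD.par) pr)) = true := by decide +kernel

theorem h2_11 : allDiv 86775571046077562880 (scenD 86775571046077562880 11 1 (cd.map CD.par) pr []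
    (cd.map CD.t) (fun _ _ _ => true) c11) facs 1 = true :=
  SieveFast.filtM 9315340629 2 21 facs.dropLast (SieveFast.resW (cd.map CD.par)) rfl (fun d x hx h => by
    rw [scenD, SieveFast.allW_skip _ x hx h, SieveFast.allW_skip _ x hx h]
    simp only [Bool.cond_self]) (fun _ h => h) (by decide +kernel)

theorem two_11 (hG : ¬ IsMulCommutative G) (hN : Nat.card G = 86775571046077562880) (hM : Nat.card (Out G) ≤ 1)
    (hx : ∀ d ∈ cd, d.Has G) : Two 11 G := by
  have : Fact (Nat.Prime 11) := ⟨by norm_num⟩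
  exact two_of_data hG 86775571046077562880 1 hN hM facs facs_prime facs_prod cd ok nd hx pr
    (by intro P hP; exact absurd hP List.not_mem_nil) [] (by intro P hP; exact absurd hP List.not_mem_nil) c11 h1_11 (by decide) h2_11

end Cfsg.Agent.H651.Two.J4
end

-- part: H651/Two/J4
section
/-!
# `J₄`: two characters of degree divisible by `p`
-/

set_option autoImplicit false

namespace Cfsg.Agent.H651.Two.J4

open Cfsg Subgroup
open Cfsg.Agent.H653.Sieve Cfsg.Agent.Characters.Core Cfsg.Agent.H596.OneFacts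
open Cfsg.Agent.H33 Cfsg.Agent.H860.Count Cfsg.Agent.H593.IMCount
open Cfsg.Agent.H723.Spor.JFour Cfsg.Agent.H860.PartFiveSeven Cfsg.Agent.H858
open Cfsg.Agent.Blocks.Knorr Cfsg.Agent.H860.CountPrime Cfsg.Agent.H860.CountDirect
open Cfsg.Agent.H877.IMJ4 (finJ4 simple nonab numReg_le_nc nc_35)

universe u

theorem card' : Nat.card Spor.J4 = 86775571046077562880 := H860.PartFiveSeven.card_J4

theorem has : ∀ d ∈ cd, d.Has Spor.J4 := by
  have := finJ4
  intro d hd
  simp only [cd, List.mem_cons, List.not_mem_nil, or_false] at hd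
  rcases hd with rfl | rfl | rfl | rfl | rfl
  · exact has_of_sub (by norm_num) (by rw [card']; norm_num) fun R hR => (H859.BigNum.data29' hR).1
  · exact has_of_sub (by norm_num) (by rw [card']; norm_num) fun R hR => (H859.BigNum.data43 hR).1
  · exact has_of_sub (by norm_num) (by rw [card']; norm_num) fun R hR => (H859.BigNum.data23 hR).1
  · exact has_of_sub (by norm_num) (by rw [card']; norm_num) fun R hR => (H859.BigNum.data37 hR).1
  · exact has_of_sub (by norm_num) (by rw [card']; norm_num) fun R hR => (H859.BigNum.data31 hR).1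

/-- `p = 5`: counting. -/
theorem three_5 : 3 ≤ ND 5 Spor.J4 := by
  have := finJ4
  have hp : Nat.Prime 5 := by norm_num
  have : Fact (Nat.Prime 5) := ⟨hp⟩
  have hf : orderOf Elem.f = 5 := orderOf_eq_prime Elem.f_pow Loc5.f_ne
  have h49 : ¬ 5 * 5 ∣ Nat.card Cfsg.Spor.J4 := by rw [card_J4]; norm_num
  have h := nc_part (G := Cfsg.Spor.J4) (p := 5) (fun _ => True) (m := 1) (fun _ => Elem.f)
    (fun _ => ⟨0, by rw [hf]; norm_num⟩) (fun _ _ _ => Subsingleton.elim _ _)
    (fun g hg => ⟨0, by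
      obtain ⟨e, he⟩ := hg
      exact isConj_of_nc_one nc_five_eq (order_of_pow h49 he) hf⟩)
  have h0 : nc Cfsg.Spor.J4 (fun n => 5 ∣ n) = nc Cfsg.Spor.J4 (fun n => 5 ∣ n ∧ True) :=
    nc_congr fun g => (and_iff_left trivial).symm
  rw [Fin.sum_univ_one, ← h0] at h
  have h1 := nc_add (G := Spor.J4) (fun n => 5 ∣ n) (fun n => 7 ∣ n)
  have h2 := nc_five
  have h3 : nc Spor.J4 (fun n => 5 ∣ n ∧ 7 ∣ n) ≤ 2 :=
    le_trans (le_of_eq (nc_congr fun g => and_comm)) nc_35
  have h4 : nc Spor.J4 (fun n => 5 ∣ n) ≤ 11 := by omega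
  have h5 : (Nat.card (Subgroup.centralizer ({Elem.f} : Set Cfsg.Spor.J4))).factorization 5 ≤ 1 := by
    by_contra hlt
    push Not at hlt
    apply h49
    rw [← pow_two]
    exact ((Nat.pow_dvd_pow 5 hlt).trans (Nat.ordProj_dvd _ _)).trans (Subgroup.card_subgroup_dvd_card _)
  have h6 := classes_le (p := 5) (x := Elem.f) ⟨1, by rw [hf]; norm_num⟩
  rw [H877.IMJ4.card_classes] at h6
  have h7 := Nat.mul_le_mul (Nat.pow_le_pow_right (n := 5) (by norm_num) h5)
    ((numReg_le_nc 5).trans (h ▸ h4))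
  omega

theorem deg (i : Fin 5) : ∃ χ : IrrCharacter Spor.J4, charDegree (χ : Spor.J4 → ℂ) =
    ![889111, 1776888, 4290927, 95288172, 35411145] i := by
  fin_cases i
  · obtain ⟨χ, hχ⟩ := H492.IMJ4.exists_889111
    exact ⟨χ, by rw [Cfsg.Agent.H670.PSing.charDegree_eq_of hχ]; rfl⟩
  · obtain ⟨χ, hχ⟩ := H492.IMJ4.exists_1776888
    exact ⟨χ, by rw [Cfsg.Agent.H670.PSing.charDegree_eq_of hχ]; rfl⟩
  · obtain ⟨χ, hχ⟩ := H492.IMJ4.exists_4290927
    exact ⟨χ, by rw [Cfsg.Agent.H670.PSing.charDegree_eq_of hχ]; rfl⟩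
  · obtain ⟨χ, hχ⟩ := H492.IMJ4.exists_95288172
    exact ⟨χ, by rw [Cfsg.Agent.H670.PSing.charDegree_eq_of hχ]; rfl⟩
  · obtain ⟨χ, hχ⟩ := H492.IMJ4.exists_35411145
    exact ⟨χ, by rw [Cfsg.Agent.H670.PSing.charDegree_eq_of hχ]; rfl⟩

theorem two (p : ℕ) (hp : p.Prime) (hd : p ∣ Nat.card Spor.J4) : Two p Spor.J4 := by
  have := finJ4
  have := simple
  have hM : Nat.card (Out Spor.J4) ≤ 1 := Cfsg.Agent.S2068.result.le
  have h := prime_mem hp facs_prime facs_prod (card' ▸ hd)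
  simp only [facs, List.map_cons, List.map_nil, List.mem_cons, List.not_mem_nil, or_false] at h
  rcases h with rfl | rfl | rfl | rfl | rfl | rfl | rfl | rfl | rfl | rfl
  · exact two_of_degs (deg 0) (deg 3) (by decide) (by decide) (by decide)
  · exact two_of_degs (deg 1) (deg 2) (by decide) (by decide) (by decide)
  · exact two_of_degs (deg 0) (deg 2) (by decide) (by decide) (by decide)
  · exact two_of_degs (deg 0) (deg 1) (by decide) (by decide) (by decide)
  · exact two_of_degs (deg 0) (deg 1) (by decide) (by decide) (by decide)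
  · exact two_11 nonab card' hM has
  · exact two_of_degs (deg 3) (deg 4) (by decide) (by decide) (by decide)
  · exact two_of_three (hM.trans (by norm_num)) three_5
  · exact two_of_degs (deg 1) (deg 2) (by decide) (by decide) (by decide)
  · exact two_of_degs (deg 1) (deg 3) (by decide) (by decide) (by decide)

/-- **The row `J₄`.** -/
theorem two_j4 {S : Type u} [Group S] (h : Cfsg.Spor.IsoJ4 S) {p : ℕ} [hp : Fact p.Prime]
    (hd : p ∣ Nat.card S) : TwoOr p S := twoOr_of h hd (two p hp.out)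

end Cfsg.Agent.H651.Two.J4
end

private theorem dce_fcf06a306641 : _root_.True := by
  try have : _root_.True := by simp only [_root_.Cfsg.Agent.H651.Two.J4.facs.eq_1]
  try have : _root_.True := by simp only [_root_.Cfsg.Agent.H651.Two.J4.cd.eq_1]
  exact _root_.True.intro
end

-- part: H651/Two/Spor
section
prune_inst 0x8000000000000000000000000000014010000
set_option linter.all false
open scoped Cfsg.Agent.FastGrp

-- part: H651/Two/J1Cert
section
set_option autoImplicit false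
set_option maxRecDepth 100000

open Cfsg Subgroup

namespace Cfsg.Agent.H651.Two.J1

open Cfsg.Agent.H653.Sieve Cfsg.Agent.Characters.Core Cfsg.Agent.H596.OneFacts

universe u

variable {G : Type u} [Group G] [Finite G] [IsSimpleGroup G]

/-- The columns. -/
def cd : List CD :=
  [⟨19, 1, 6, 3, [(0, 0), (1, 3), (6, -1), (13, 1), (18, -3)], 3, true⟩,
    ⟨11, 1, 10, 1, [(0, 0), (1, 1), (10, -1)], 0, false⟩,
    ⟨7, 1, 6, 1, [(0, 0), (1, 1), (6, -1)], 0, false⟩,
    ⟨3, 10, 2, 1, [(0, 0), (1, -2), (1, 1), (1, 4), (2, -4), (2, -1), (2, 2)], 0, false⟩,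
    ⟨5, 6, 2, 2, [(0, 0), (1, 2), (2, -1), (2, 4), (3, -4), (3, 1), (4, -2)], 0, false⟩]

def pr : List ((ℕ → Bool) × ℕ) := []

theorem ok : (cd.all (CD.ok 175560)) = true := by decide +kernel

theorem nd : (cd.map CD.r).Nodup := by decide

def facs : List (ℕ × ℕ) := [(19, 1), (11, 1), (7, 1), (5, 1), (3, 1), (2, 3)]

theorem facs_prime : (facs.all fun pa => Nat.Prime pa.1) = true := by norm_num [facs]

theorem facs_prod : facProd facs = 175560 := by decide +kernel

/-! ### `p = 2` -/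

def c2 : List Cert :=
  [⟨0, [⟨67, -557, -7729, [-7729, 7729, 980, 3796]⟩, ⟨54, 9009, 0, [7729, 5079, 3864]⟩, ⟨-116, -10000, 0, [5000, 5000]⟩, ⟨-38, 0, 0, [0]⟩, ⟨-73, -1932, 0, []⟩], [], -189232⟩]

theorem h1_2 : (c2.all (headOK 175560 (cd.map CD.par) pr)) = true := by decide +kernel

theorem h2_2 : allDiv 175560 (scenD 175560 2 1 (cd.map CD.par) pr []
    (cd.map CD.t) (fun _ _ _ => true) c2) facs 1 = true := by decide +kernel

theorem two_2 (hG : ¬ IsMulCommutative G) (hN : Nat.card G = 175560) (hM : Nat.card (Out G) ≤ 1)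
    (hx : ∀ d ∈ cd, d.Has G) : Two 2 G := by
  have : Fact (Nat.Prime 2) := ⟨by norm_num⟩
  exact two_of_data hG 175560 1 hN hM facs facs_prime facs_prod cd ok nd hx pr
    (by intro P hP; exact absurd hP List.not_mem_nil) [] (by intro P hP; exact absurd hP List.not_mem_nil) c2 h1_2 (by decide) h2_2

/-! ### `p = 3` -/

def c3 : List Cert :=
  [⟨0, [⟨33, -851, -9894, [-4869, 9894, 955, 556]⟩, ⟨89, -9894, 0, [8315, 4947, 4947]⟩, ⟨-1279, -10000, 0, [5763, 5000]⟩, ⟨-37, 0, 0, [0]⟩, ⟨-32, 252, 0, []⟩], [], -274361⟩]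

theorem h1_3 : (c3.all (headOK 175560 (cd.map CD.par) pr)) = true := by decide +kernel

theorem h2_3 : allDiv 175560 (scenD 175560 3 1 (cd.map CD.par) pr []
    (cd.map CD.t) (fun _ _ _ => true) c3) facs 1 = true := by decide +kernel

theorem two_3 (hG : ¬ IsMulCommutative G) (hN : Nat.card G = 175560) (hM : Nat.card (Out G) ≤ 1)
    (hx : ∀ d ∈ cd, d.Has G) : Two 3 G := by
  have : Fact (Nat.Prime 3) := ⟨by norm_num⟩
  exact two_of_data hG 175560 1 hN hM facs facs_prime facs_prod cd ok nd hx pr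
    (by intro P hP; exact absurd hP List.not_mem_nil) [] (by intro P hP; exact absurd hP List.not_mem_nil) c3 h1_3 (by decide) h2_3

/-! ### `p = 5` -/

def c5 : List Cert :=
  [⟨0, [⟨30, -1053, -9894, [-665, 3604, 955, -888]⟩, ⟨89, -9894, 0, [8315, 4947, 4947]⟩, ⟨-1205, -10000, 0, [5763, 5000]⟩, ⟨-37, 0, 0, [0]⟩, ⟨-11, 1167, 0, []⟩], [], -218002⟩]

theorem h1_5 : (c5.all (headOK 175560 (cd.map CD.par) pr)) = true := by decide +kernel

theorem h2_5 : allDiv 175560 (scenD 175560 5 1 (cd.map CD.par) pr []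
    (cd.map CD.t) (fun _ _ _ => true) c5) facs 1 = true := by decide +kernel

theorem two_5 (hG : ¬ IsMulCommutative G) (hN : Nat.card G = 175560) (hM : Nat.card (Out G) ≤ 1)
    (hx : ∀ d ∈ cd, d.Has G) : Two 5 G := by
  have : Fact (Nat.Prime 5) := ⟨by norm_num⟩
  exact two_of_data hG 175560 1 hN hM facs facs_prime facs_prod cd ok nd hx pr
    (by intro P hP; exact absurd hP List.not_mem_nil) [] (by intro P hP; exact absurd hP List.not_mem_nil) c5 h1_5 (by decide) h2_5

/-! ### `p = 7` -/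

def c7 : List Cert :=
  [⟨0, [⟨-1, -83, -192, [10000, 189, 403, -94]⟩, ⟨3, -305, 0, [305, -170, 170]⟩, ⟨-66, -436, 0, [202, 223]⟩, ⟨-2, -101, 0, [-101]⟩, ⟨2, -139, 0, []⟩], [], -53008⟩]

theorem h1_7 : (c7.all (headOK 175560 (cd.map CD.par) pr)) = true := by decide +kernel

theorem h2_7 : allDiv 175560 (scenD 175560 7 1 (cd.map CD.par) pr []
    (cd.map CD.t) (fun _ _ _ => true) c7) facs 1 = true := by decide +kernel

theorem two_7 (hG : ¬ IsMulCommutative G) (hN : Nat.card G = 175560) (hM : Nat.card (Out G) ≤ 1)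
    (hx : ∀ d ∈ cd, d.Has G) : Two 7 G := by
  have : Fact (Nat.Prime 7) := ⟨by norm_num⟩
  exact two_of_data hG 175560 1 hN hM facs facs_prime facs_prod cd ok nd hx pr
    (by intro P hP; exact absurd hP List.not_mem_nil) [] (by intro P hP; exact absurd hP List.not_mem_nil) c7 h1_7 (by decide) h2_7

/-! ### `p = 11` -/

def c11 : List Cert :=
  [⟨0, [⟨-18, -272, -784, [543, 784, -190, 190]⟩, ⟨99, -1421, 0, [1134, 587, -437]⟩, ⟨141, -1134, 0, [-1860, -10000]⟩, ⟨-6, 0, 0, [-416]⟩, ⟨6, -296, 0, []⟩], [], -35896⟩,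
   ⟨2, [⟨-83, -1913, -5515, [3822, 5515, 1337, -9264]⟩, ⟨-52, -10000, 0, [3826, 3446, -9419]⟩, ⟨-92, -7977, 0, [3988, 3988]⟩, ⟨-41, 937, 0, [2927]⟩, ⟨-39, -2083, 0, []⟩], [], 23234⟩]

theorem h1_11 : (c11.all (headOK 175560 (cd.map CD.par) pr)) = true := by decide +kernel

theorem h2_11 : allDiv 175560 (scenD 175560 11 1 (cd.map CD.par) pr []
    (cd.map CD.t) (fun _ _ _ => true) c11) facs 1 = true := by decide +kernel

theorem two_11 (hG : ¬ IsMulCommutative G) (hN : Nat.card G = 175560) (hM : Nat.card (Out G) ≤ 1)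
    (hx : ∀ d ∈ cd, d.Has G) : Two 11 G := by
  have : Fact (Nat.Prime 11) := ⟨by norm_num⟩
  exact two_of_data hG 175560 1 hN hM facs facs_prime facs_prod cd ok nd hx pr
    (by intro P hP; exact absurd hP List.not_mem_nil) [] (by intro P hP; exact absurd hP List.not_mem_nil) c11 h1_11 (by decide) h2_11

/-! ### `p = 19` -/

def c19 : List Cert :=
  [⟨0, [⟨10, -137, -395, [282, 255, 98, 98]⟩, ⟨-7, -816, 0, [-10000, 285, 3296]⟩, ⟨-54, -716, 0, [589, -484]⟩, ⟨-4, 0, 0, [0]⟩, ⟨2, -147, 0, []⟩], [], -27409⟩]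

theorem h1_19 : (c19.all (headOK 175560 (cd.map CD.par) pr)) = true := by decide +kernel

theorem h2_19 : allDiv 175560 (scenD 175560 19 1 (cd.map CD.par) pr []
    (cd.map CD.t) (fun _ _ _ => true) c19) facs 1 = true := by decide +kernel

theorem two_19 (hG : ¬ IsMulCommutative G) (hN : Nat.card G = 175560) (hM : Nat.card (Out G) ≤ 1)
    (hx : ∀ d ∈ cd, d.Has G) : Two 19 G := by
  have : Fact (Nat.Prime 19) := ⟨by norm_num⟩
  exact two_of_data hG 175560 1 hN hM facs facs_prime facs_prod cd ok nd hx pr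
    (by intro P hP; exact absurd hP List.not_mem_nil) [] (by intro P hP; exact absurd hP List.not_mem_nil) c19 h1_19 (by decide) h2_19

end Cfsg.Agent.H651.Two.J1
end

-- part: H651/Two/J1
section
/-!
# `J₁`: two characters of degree divisible by `p`
-/

set_option autoImplicit false

open Cfsg Subgroup

namespace Cfsg.Agent.H651.Two.J1

open Cfsg.Agent.H653.Sieve Cfsg.Agent.Characters.Core Cfsg.Agent.H596.OneFacts
open Cfsg.Agent.H305.SepJ1 (fin simple card local' na cn7 cn11 cn19 cn5)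

universe u

theorem card' : Nat.card Spor.J1 = 175560 := card

theorem has : ∀ d ∈ cd, d.Has Spor.J1 := by
  have := fin
  intro d hd
  simp only [cd, List.mem_cons, List.not_mem_nil, or_false] at hd
  rcases hd with rfl | rfl | rfl | rfl | rfl
  · exact has_of_sub (by norm_num) (by rw [card']; norm_num) fun R hR => (cn19 hR).1
  · exact has_of_sub (by norm_num) (by rw [card']; norm_num) fun R hR => (cn11 hR).1
  · exact has_of_sub (by norm_num) (by rw [card']; norm_num) fun R hR => (cn7 hR).1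
  · exact has_of_forall (by norm_num) (by rw [card']; norm_num) fun x hx => local'.cent3 x hx
  · exact has_of_sub (by norm_num) (by rw [card']; norm_num) fun R hR => (cn5 hR).1

theorem two (p : ℕ) (hp : p.Prime) (hd : p ∣ Nat.card Spor.J1) : Two p Spor.J1 := by
  have := fin
  have := simple
  have hG : ¬ IsMulCommutative Spor.J1 := fun h => na fun a b => h.is_comm.comm a b
  have hM : Nat.card (Out Spor.J1) ≤ 1 := Cfsg.Agent.S2065.result.le
  have h := prime_mem hp facs_prime facs_prod (card' ▸ hd)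
  simp only [facs, List.map_cons, List.map_nil, List.mem_cons, List.not_mem_nil, or_false] at h
  rcases h with rfl | rfl | rfl | rfl | rfl | rfl
  · exact two_19 hG card' hM has
  · exact two_11 hG card' hM has
  · exact two_7 hG card' hM has
  · exact two_5 hG card' hM has
  · exact two_3 hG card' hM has
  · exact two_2 hG card' hM has

/-- **The row `J₁`.** -/
theorem two_j1 {S : Type u} [Group S] (h : Cfsg.Spor.IsoJ1 S) {p : ℕ} [hp : Fact p.Prime]
    (hd : p ∣ Nat.card S) : TwoOr p S := twoOr_of h hd (two p hp.out)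

end Cfsg.Agent.H651.Two.J1
end

-- part: H651/Two/Ly
section
/-!
# The Lyons group: two characters of degree divisible by `p`
-/

set_option autoImplicit false

namespace Cfsg.Agent.H651.Two.Ly

open Cfsg Subgroup Equiv Cfsg.Agent.H593.IMCyc Cfsg.Agent.SporRec.TwoAn Cfsg.Agent.TypeM.Two Cfsg.Agent.H33
  Cfsg.Agent.H724.IMTool Cfsg.Agent.H713 Cfsg.Agent.H713.Count Cfsg.Agent.H314.LyOrb.PermA
  Cfsg.Agent.H710.Spor.Ly Cfsg.Agent.H314.LyOrb.IMSeven
open Cfsg.Agent.H653.Sieve Cfsg.Agent.Characters.Core Cfsg.Agent.H596.OneFacts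

universe u

abbrev G : Type := Cfsg.Spor.Ly

theorem fin : Finite G := Cfsg.Agent.Ly.Setup.finite_ly

theorem card : Nat.card G = 51765179004000000 := Cfsg.Agent.Ly.Setup.card_ly

theorem deg (i : Fin 5) : ∃ χ : IrrCharacter G, charDegree (χ : G → ℂ) = Cfsg.Agent.H314.LyOrb.deg i := by
  obtain ⟨χ, -, h⟩ := Cfsg.Agent.H314.LyOrb.exists_deg_ly
  exact ⟨χ i, h i⟩

/-- Five classes of elements of order 31. -/
theorem LL31 : LL G 31 5 := by
  have hfin := fin
  have h31 : Fact (Nat.Prime 31) := ⟨by norm_num⟩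
  obtain ⟨x, hx⟩ := exists_prime_orderOf_dvd_card' (G := G) 31 (by rw [card]; norm_num)
  have hR : Nat.card (zpowers x) = 31 := by rw [Nat.card_zpowers, hx]
  obtain ⟨h1, h2⟩ := Cfsg.Agent.H256.Sep.RowLy.data31 hR
  rw [cent_zpowers] at h1
  have h3 := fus_card_of (r := 31) hx (c := 31) (e := 6) h1 (by rw [h2])
  exact exists_powers hx h3.le (by norm_num) (by norm_num)

/-- the number of classes used -/
def cnt (n : ℕ) : ℕ := if n = 31 then 5 else if n = 6 then 3 else if n ∈ [8, 10, 12, 22, 24, 30] then 2 else 1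

theorem lists (n : ℕ) (hn : n ∈ ({1, 2, 3, 4, 5, 7, 9, 11, 14, 15, 18, 20, 21, 25, 28, 31, 33, 37, 40, 42, 67, 6, 8, 10,
    12, 22, 24, 30} : Finset ℕ)) : LL G n (cnt n) := by
  have hfin := fin
  obtain ⟨L⟩ := Cfsg.Agent.TypeM.FactsLy.exists_mt_ly
  have hex : n ∈ ({1, 3, 5, 7, 9, 11, 15, 21, 2, 6, 10, 14, 18, 22, 30, 42,
    4, 8, 12, 20, 24, 28, 40} : Finset ℕ) → LL G n 1 := fun h => LL.one (exists_orders L n h)
  have hpr : ∀ q : ℕ, q.Prime → q ∣ 51765179004000000 → LL G q 1 := by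
    intro q hq hd
    have : Fact q.Prime := ⟨hq⟩
    exact LL.one (exists_prime_orderOf_dvd_card' q (by rw [card]; exact hd))
  simp only [Finset.mem_insert, Finset.mem_singleton] at hn
  rcases hn with rfl | rfl | rfl | rfl | rfl | rfl | rfl | rfl | rfl | rfl | rfl | rfl | rfl | rfl | rfl | rfl |
    rfl | rfl | rfl | rfl | rfl | rfl | rfl | rfl | rfl | rfl | rfl | rfl
  · exact hex (by decide)
  · exact hex (by decide)
  · exact hex (by decide)
  · exact hex (by decide)
  · exact hex (by decide)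
  · exact hex (by decide)
  · exact hex (by decide)
  · exact hex (by decide)
  · exact hex (by decide)
  · exact hex (by decide)
  · exact hex (by decide)
  · exact hex (by decide)
  · exact hex (by decide)
  · exact LL.one Cfsg.Agent.H314.LyOrb.Ord25.exists25
  · exact hex (by decide)
  · exact LL31
  · exact LL.one exists33
  · exact hpr 37 (by norm_num) (by norm_num)
  · exact hex (by decide)
  · exact hex (by decide)
  · exact hpr 67 (by norm_num) (by norm_num)
  · exact LL6 L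
  · exact LL8 L
  · exact LL10 L
  · exact LL12 L
  · exact LL22 L
  · exact LL24 L
  · exact LL30 L

theorem three_seven : 3 ≤ ND 7 G := by
  have hfin := fin
  have h7 : Fact (Nat.Prime 7) := ⟨by norm_num⟩
  obtain ⟨L⟩ := Cfsg.Agent.TypeM.FactsLy.exists_mt_ly
  obtain ⟨y, hy, ho, -, -⟩ := odd_orders L.K (σ := t7) (n := 7) (Perm.mem_alternatingGroup.2 sgn.2.2.1) (by decide) o7
  have hy7 : y ^ 7 = 1 := by rw [← ho]; exact pow_orderOf_eq_one y
  have hx : orderOf (y : Spor.Ly) = 7 := by rw [Subgroup.orderOf_coe, ho]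
  have hx7 : (y : Spor.Ly) ^ 7 = 1 := by rw [← hx]; exact pow_orderOf_eq_one _
  have h6 := fus_six hx7 (three_fus L hy hy7)
  have hc : Nat.card (centralizer ({(y : Spor.Ly)} : Set Spor.Ly)) = 168 := by
    have h1 := Cfsg.Agent.H314.LyOrb.card_normalizer_seven hx
    rw [card_normalizer_zpowers hx, h6] at h1
    omega
  have h := regular_le_lists (G := G) (p := 7) Cfsg.Agent.H314.LyOrb.fac7 hx (e := 6) (m := 5) h6.le (numCls_le_five L hy hy7 hc)
    {1, 2, 3, 4, 5, 9, 11, 15, 18, 20, 25, 31, 33, 37, 40, 67, 6, 8, 10, 12, 22, 24, 30} cnt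
    fun n hn => ⟨by
      revert n
      decide, lists n (by
      revert n
      decide +kernel)⟩
  have h2 : ∑ n ∈ ({1, 2, 3, 4, 5, 9, 11, 15, 18, 20, 25, 31, 33, 37, 40, 67, 6, 8, 10, 12, 22, 24, 30} :
    Finset ℕ), cnt n = 35 := by decide
  omega

theorem three_37 (hK : Cfsg.Agent.H995.CopEngine.AllKnown.{0}) : 3 ≤ ND 37 G := by
  have hfin := fin
  have h37 : Fact (Nat.Prime 37) := ⟨by norm_num⟩
  obtain ⟨x, hx⟩ := exists_prime_orderOf_dvd_card' (G := G) 37 (by rw [card]; norm_num)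
  have hc := Cfsg.Agent.H215.CC.LyThirtySeven.card_centralizer hK (G := G) ⟨MulEquiv.refl _⟩ hx
  have h := self_le (G := G) (p := 37) (by
      rw [card, show 51765179004000000 = 37 ^ 1 * 1399058892000000 by norm_num]
      rw [Nat.factorization_mul (by norm_num) (by norm_num), Nat.Prime.factorization_pow (by norm_num),
        Finsupp.add_apply, Finsupp.single_eq_same, Nat.factorization_eq_zero_of_not_dvd (by norm_num)]) hx hc
    (e := 36) (fus_le hx)
    {1, 2, 3, 4, 5, 7, 9, 11, 14, 15, 18, 20, 21, 25, 28, 31, 33, 40, 42, 67, 6, 8, 10, 12, 22, 24, 30} cnt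
    fun n hn => ⟨by
      revert n
      decide +kernel, lists n (by
      revert n
      decide +kernel)⟩
  have h2 : ∑ n ∈ ({1, 2, 3, 4, 5, 7, 9, 11, 14, 15, 18, 20, 21, 25, 28, 31, 33, 40, 42, 67, 6, 8, 10, 12, 22, 24,
    30} : Finset ℕ), cnt n = 39 := by decide +kernel
  omega

theorem out_le : Nat.card (Out G) ≤ 2 := Cfsg.Agent.S2076.result.le.trans (by norm_num)

/-- **The row `Ly`.** -/
theorem two_ly (hK : Cfsg.Agent.H995.CopEngine.AllKnown.{0}) {S : Type u} [Group S] (h : Cfsg.Spor.IsoLy S) {p : ℕ}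
    [hp : Fact p.Prime] (hd : p ∣ Nat.card S) : TwoOr p S := by
  have hfin := fin
  refine twoOr_of h hd fun hd => ?_
  have h0 := prime_mem hp.out (L := [(2, 8), (3, 7), (5, 6), (7, 1), (11, 1), (31, 1), (37, 1), (67, 1)]) (by norm_num)
    (N := 51765179004000000) (by decide +kernel) (card ▸ hd)
  simp only [List.map_cons, List.map_nil, List.mem_cons, List.not_mem_nil, or_false] at h0
  rcases h0 with rfl | rfl | rfl | rfl | rfl | rfl | rfl | rfl
  · exact two_of_degs (deg 1) (deg 2) (by decide) (by decide) (by decide)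
  · exact two_of_degs (deg 2) (deg 3) (by decide) (by decide) (by decide)
  · exact two_of_degs (deg 2) (deg 4) (by decide) (by decide) (by decide)
  · exact two_of_three out_le three_seven
  · exact two_of_degs (deg 1) (deg 2) (by decide) (by decide) (by decide)
  · exact two_of_degs (deg 1) (deg 2) (by decide) (by decide) (by decide)
  · exact two_of_three out_le (three_37 hK)
  · exact two_of_degs (deg 1) (deg 3) (by decide) (by decide) (by decide)

end Cfsg.Agent.H651.Two.Ly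
end

-- part: H805/Two/Pair
section
/-!
# Three characters of degree divisible by `p` from two commuting elements of order `p` (helper805)

`three_le_of_pair` : the version of `H492.IMTools.IM_of_pair` (same hypotheses, `p` odd) for `ND`.
-/

set_option autoImplicit false

open Cfsg Cfsg.Agent.Characters.Core Cfsg.Agent.Blocks.Basic
open Cfsg.Agent.H713 Cfsg.Agent.H713.Count Cfsg.Agent.H33 Cfsg.Agent.H665.NoPQ
open Cfsg.Agent.H492.IMTools Cfsg.Agent.H651.Two

namespace Cfsg.Agent.H805.Two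

universe u v

variable {G : Type u} [Group G] {p : ℕ} [hp : Fact p.Prime]

/-- `three_le_of_quotient` with `HasDZ`. -/
theorem three_le_of_dz [Finite G] {x : G} (hx : orderOf x = p) (hp2 : p ≠ 2) (hG : p ^ 2 ∣ Nat.card G)
    {H : Type v} [Group H] (f : Subgroup.centralizer ({x} : Set G) →* H)
    (hf : Function.Surjective f)
    (hH : (Nat.card (Subgroup.centralizer ({x} : Set G))).factorization p ≤
      (Nat.card H).factorization p + 1) (h : HasDZ p H) : 3 ≤ ND p G := by
  have hfin : Finite H := Finite.of_surjective f hf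
  obtain ⟨χ, hχ⟩ := h
  exact three_le_of_quotient hx hp2 hG f hf hH ⟨χ, hχ.ge⟩

/-- The version of `IM_of_pair` with three characters. -/
theorem three_le_of_pair [Finite G] (hp2 : p ≠ 2) {x y : G} (hx : orderOf x = p) (hy : orderOf y = p)
    (hcomm : y * x = x * y) (hyx : y ∉ Subgroup.zpowers x)
    (hxy : ∀ q : ℕ, q.Prime → q ≠ p →
      ¬ q ∣ Nat.card ↥(Subgroup.centralizer ({x} : Set G) ⊓ Subgroup.centralizer ({y} : Set G)))
    {m : ℕ} (hC : Nat.card (Subgroup.centralizer ({x} : Set G)) = p ^ 2 * m) (hpm : ¬ p ∣ m)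
    (s : Finset ℕ) (hs : ∀ n ∈ s, ¬ p ∣ n ∧ ∃ g : G, g * x = x * g ∧ orderOf g = n)
    (hcard : m % p ∣ p - 1 → m % p < s.card) : 3 ≤ ND p G := by
  classical
  set C := Subgroup.centralizer ({x} : Set G) with hCdef
  have hG : p ^ 2 ∣ Nat.card G :=
    (Dvd.intro m hC.symm).trans (Subgroup.card_subgroup_dvd_card C)
  set z : C := ⟨x, Subgroup.mem_centralizer_singleton_iff.2 rfl⟩ with hz
  set y' : C := ⟨y, Subgroup.mem_centralizer_singleton_iff.2 hcomm⟩ with hy'
  have hzo : orderOf z = p := by rw [hz, Subgroup.orderOf_mk, hx]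
  have hyo : orderOf y' = p := by rw [hy', Subgroup.orderOf_mk, hy]
  have hzc : ∀ c : C, c * z = z * c := fun c =>
    Subtype.ext (Subgroup.mem_centralizer_singleton_iff.1 c.2)
  have hnorm : (Subgroup.zpowers z).Normal := by
    refine ⟨fun n hn g => ?_⟩
    obtain ⟨k, rfl⟩ := hn
    have : g * z ^ k * g⁻¹ = z ^ k := by
      rw [((show Commute g z from hzc g).zpow_right k).eq, mul_inv_cancel_right]
    show g * z ^ k * g⁻¹ ∈ _
    rw [this]
    exact ⟨k, rfl⟩
  have hm : m ≠ 0 := by rintro rfl; exact hpm (dvd_zero _)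
  -- the quotient
  have hH : Nat.card (C ⧸ Subgroup.zpowers z) = p * m := by
    have h1 := Subgroup.card_eq_card_quotient_mul_card_subgroup (Subgroup.zpowers z)
    rw [hC, Nat.card_zpowers, hzo] at h1
    have h2 : p * (p * m) = p * Nat.card (C ⧸ Subgroup.zpowers z) := by
      rw [mul_comm p (Nat.card _), ← h1]; ring
    exact (Nat.eq_of_mul_eq_mul_left hp.out.pos h2).symm
  have hHf : (Nat.card (C ⧸ Subgroup.zpowers z)).factorization p = 1 := by
    rw [hH, Nat.factorization_mul hp.out.ne_zero hm, Finsupp.add_apply,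
      hp.out.factorization_self, Nat.factorization_eq_zero_of_not_dvd hpm]
  have hyb : orderOf (QuotientGroup.mk y' : C ⧸ Subgroup.zpowers z) = p := by
    apply orderOf_eq_prime
    · have : (QuotientGroup.mk y' : C ⧸ Subgroup.zpowers z) ^ p = QuotientGroup.mk (y' ^ p) := rfl
      rw [this, ← hyo, pow_orderOf_eq_one]
      rfl
    · intro h
      rw [QuotientGroup.eq_one_iff] at h
      obtain ⟨k, hk⟩ := h
      apply hyx
      refine ⟨k, ?_⟩
      have := congrArg Subtype.val hk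
      exact this
  have hq : ∀ q : ℕ, q.Prime → q ≠ p → ¬ q ∣ Nat.card (Subgroup.centralizer ({y'} : Set C)) := by
    intro q hq hne hd
    refine hxy q hq hne (hd.trans (dvd_of_eq ?_))
    apply Nat.card_congr
    refine
      { toFun := fun c => ⟨c.1.1, c.1.2, ?_⟩
        invFun := fun c => ⟨⟨c.1, c.2.1⟩, ?_⟩
        left_inv := fun _ => rfl
        right_inv := fun _ => rfl }
    · have h1 := Subgroup.mem_centralizer_singleton_iff.1 c.2
      exact Subgroup.mem_centralizer_singleton_iff.2 (congrArg Subtype.val h1)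
    · rw [Subgroup.mem_centralizer_singleton_iff]
      exact Subtype.ext (Subgroup.mem_centralizer_singleton_iff.1 c.2.2)
  have hpg := isPGroup_centralizer_mk (p := p) (by rw [← hzo]; exact pow_orderOf_eq_one z) hzc hq
  have hcb : Nat.card (Subgroup.centralizer
      ({(QuotientGroup.mk y' : C ⧸ Subgroup.zpowers z)} : Set (C ⧸ Subgroup.zpowers z))) = p := by
    obtain ⟨k, hk⟩ := IsPGroup.iff_card.1 hpg
    have h1 : p ∣ p ^ k := by
      rw [← hk, ← hyb, ← Subgroup.orderOf_mk _ (Subgroup.mem_centralizer_singleton_iff.2 rfl)]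
      exact orderOf_dvd_natCard _
    have h2 : p ^ k ∣ p * m := by rw [← hk, ← hH]; exact Subgroup.card_subgroup_dvd_card _
    have h3 : k = 1 := by
      rcases Nat.lt_trichotomy k 1 with h | h | h
      · have : k = 0 := by omega
        rw [this, pow_zero] at h1
        exact absurd (Nat.le_of_dvd one_pos h1) (by have := hp.out.one_lt; omega)
      · exact h
      · exfalso
        apply hpm
        have h4 : p ^ 2 ∣ p * m := (pow_dvd_pow p h).trans h2
        rw [pow_two] at h4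
        exact Nat.dvd_of_mul_dvd_mul_left hp.out.pos h4
    rw [hk, h3, pow_one]
  have hdiv : Nat.card (C ⧸ Subgroup.zpowers z) / p = m := by
    rw [hH, Nat.mul_div_cancel_left _ hp.out.pos]
  have hlt : m % p < s.card := by
    apply hcard
    have h1 := card_fus_eq hHf hyb (c := 1) (by rw [hcb, mul_one]) (e := m % p) (by
      intro k hk h
      rw [mul_one, hdiv, Nat.mod_eq_of_lt hk] at h
      exact h)
    exact Dvd.intro _ h1.2
  refine three_le_of_dz hx hp2 hG (QuotientGroup.mk' (Subgroup.zpowers z))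
    (QuotientGroup.mk'_surjective _) ?_ (hasDZ_of_orders hHf hyb hcb s ?_ (by rw [hdiv]; exact hlt))
  · rw [← hCdef, hHf, hC, Nat.factorization_mul (pow_ne_zero _ hp.out.ne_zero) hm,
      Finsupp.add_apply, Nat.factorization_eq_zero_of_not_dvd hpm, hp.out.factorization_pow,
      Finsupp.single_eq_same]
  · intro n hn
    obtain ⟨h1, g, hg, hgn⟩ := hs n hn
    refine ⟨h1, QuotientGroup.mk ⟨g, Subgroup.mem_centralizer_singleton_iff.2 hg⟩, ?_⟩
    set g' : C := ⟨g, Subgroup.mem_centralizer_singleton_iff.2 hg⟩ with hg'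
    have hgo : orderOf g' = n := by rw [hg', Subgroup.orderOf_mk, hgn]
    have h2 : orderOf (QuotientGroup.mk g' : C ⧸ Subgroup.zpowers z) ∣ n := by
      rw [← hgo]
      exact orderOf_map_dvd (QuotientGroup.mk' (Subgroup.zpowers z)) g'
    apply Nat.dvd_antisymm h2
    set o := orderOf (QuotientGroup.mk g' : C ⧸ Subgroup.zpowers z) with ho
    have h3 : g' ^ o ∈ Subgroup.zpowers z := by
      rw [← QuotientGroup.eq_one_iff]
      have : (QuotientGroup.mk (g' ^ o) : C ⧸ Subgroup.zpowers z) =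
        (QuotientGroup.mk g' : C ⧸ Subgroup.zpowers z) ^ o := rfl
      rw [this, ho, pow_orderOf_eq_one]
    have h4 : (g' ^ o) ^ p = 1 := by
      obtain ⟨k, hk⟩ := h3
      rw [← hk]
      show (z ^ k) ^ p = 1
      rw [← zpow_natCast, ← zpow_mul, mul_comm, zpow_mul, zpow_natCast, ← hzo, pow_orderOf_eq_one,
        one_zpow]
    rw [← pow_mul] at h4
    have h5 := orderOf_dvd_of_pow_eq_one h4
    rw [hgo] at h5
    have hcop : Nat.Coprime n p := by
      rw [Nat.coprime_comm, Nat.Prime.coprime_iff_not_dvd hp.out]; exact h1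
    exact hcop.dvd_of_dvd_mul_right h5


end Cfsg.Agent.H805.Two
end

-- part: H805/Two/He
section
/-!
# The Held group: two characters of degree divisible by `p` (helper805)

Degrees 680, 1275 (on 2058 points), 1920 (on 8330 points); a 7-block with defect group of order 7 (`7 × L₃(2)`).
-/

set_option autoImplicit false
set_option maxRecDepth 100000

universe u

namespace Cfsg.Agent.H805.Two.He

open Subgroup Cfsg
open Cfsg.Spor.He (Gen)
open Cfsg.Agent.SporadicB.HePerm (act wd)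
open Cfsg.Agent.FixBN.HeStab Cfsg.Agent.KFacts.He.Lv Cfsg.Agent.CpAutHe.Cnt
open Cfsg.Agent.H492.IMHeCnt Cfsg.Agent.H492.IMHeDat Cfsg.Agent.H492.IMTools
open Cfsg.Agent.H492.IMHe (o1 o2 o4 o7 oy7 oz73 pair arith7 dvd_cent Z73)
open Cfsg.Agent.H651.Two Cfsg.Agent.H596.OneFacts

theorem fp7 : Fact (Nat.Prime 7) := ⟨by norm_num⟩

theorem three_seven : 3 ≤ ND 7 Cfsg.Spor.He := by
  have := fp7
  have hp := pair (p := 7) XB7 YB7 _ o7 oy7 (by decide +kernel) (by decide +kernel)
    (by norm_num) qB7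
  have hle : Nat.card (centralizer ({wd XB7} : Set Cfsg.Spor.He)) ≤ 1176 :=
    Cfsg.Agent.CpAutHe.Bound.card0
  have h3 : 3 ∣ Nat.card (centralizer ({wd XB7} : Set Cfsg.Spor.He)) :=
    dvd_cent (comm_of_chk (by decide +kernel)) oz73
  have h4 : 4 ∣ Nat.card (centralizer ({wd XB7} : Set Cfsg.Spor.He)) :=
    dvd_cent (comm_of_chk (by decide +kernel)) o4
  have h0 : 0 < Nat.card (centralizer ({wd XB7} : Set Cfsg.Spor.He)) := Nat.card_pos
  obtain ⟨m, hm⟩ := hp.1
  have hm' := arith7 hle h3 h4 h0 hm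
  have hm7 : ¬ 7 ∣ m := by rcases hm' with rfl | rfl <;> decide
  refine three_le_of_pair (by norm_num) (x := wd XB7) (y := wd YB7) o7 oy7 (comm_of_chk (by decide +kernel))
    (not_mem_zpowers_of (by norm_num) o7 (by decide +kernel)) hp.2 hm hm7 {1, 2, 3, 4} ?_ ?_
  · intro n hn
    simp only [Finset.mem_insert, Finset.mem_singleton] at hn
    rcases hn with rfl | rfl | rfl | rfl
    exacts [⟨by norm_num, _, comm_of_chk (by decide +kernel), o1⟩,
      ⟨by norm_num, _, comm_of_chk (by decide +kernel), o2⟩,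
      ⟨by norm_num, _, comm_of_chk (by decide +kernel), oz73⟩,
      ⟨by norm_num, _, comm_of_chk (by decide +kernel), o4⟩]
  · rcases hm' with rfl | rfl
    · intro h; exact absurd h (by decide)
    · intro _; decide

theorem two {p : ℕ} (hp : p.Prime) (hd : p ∣ Nat.card Cfsg.Spor.He) : Two p Cfsg.Spor.He := by
  have hc : Nat.card Cfsg.Spor.He = 4030387200 := H678.DG.HeDegA.card_he
  have hfin : Finite Cfsg.Spor.He := Nat.finite_of_card_ne_zero (by rw [hc]; norm_num)
  have h0 := prime_mem hp (L := [(2, 10), (3, 3), (5, 2), (7, 3), (17, 1)]) (by norm_num) (N := 4030387200)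
    (by decide +kernel) (hc ▸ hd)
  simp only [List.map_cons, List.map_nil, List.mem_cons, List.not_mem_nil, or_false] at h0
  rcases h0 with rfl | rfl | rfl | rfl | rfl
  · exact two_of_degs H678.DG.HeDegA.deg_680 H678.DG.HeDegB.deg_1920 (by norm_num) (by norm_num) (by norm_num)
  · exact two_of_degs H678.DG.HeDegA.deg_1275 H678.DG.HeDegB.deg_1920 (by norm_num) (by norm_num) (by norm_num)
  · exact two_of_degs H678.DG.HeDegA.deg_680 H678.DG.HeDegA.deg_1275 (by norm_num) (by norm_num) (by norm_num)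
  · exact two_of_three (Cfsg.Agent.S2075.result).le three_seven
  · exact two_of_degs H678.DG.HeDegA.deg_680 H678.DG.HeDegA.deg_1275 (by norm_num) (by norm_num) (by norm_num)

/-- **The row `He`.** -/
theorem two_he {S : Type u} [Group S] (h : Cfsg.Spor.IsoHe S) {p : ℕ} [hp : Fact p.Prime]
    (hd : p ∣ Nat.card S) : TwoOr p S :=
  twoOr_of h hd (two hp.out)

end Cfsg.Agent.H805.Two.He
end

-- part: H440/Two/ON
section
/-!
# FactTwo, the row of the O'Nan group (helper440)

Degrees 10944, 26752, 32395, 52668 (helper492), 175616 (helper210); `p = 5, 31` : counting classes of `p'`-elements.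
-/

set_option autoImplicit false

namespace Cfsg.Agent.H440.Two.ON

open Subgroup Cfsg
open Cfsg.Spor (ON)
open Cfsg.Agent.SporadicB.ON45Word (on)
open Cfsg.Agent.KFacts.ON.Words (v)
open Cfsg.Agent.KFacts.ON.Cent (finite_ON)
open Cfsg.Agent.KFacts.MulSpor.ON (w)
open Cfsg.Agent.H651.Two Cfsg.Agent.H596.OneFacts
open Cfsg.Agent.H593.IMCyc Cfsg.Agent.H713.Count

universe u

theorem card_ON : Nat.card ON = 460815505920 := Cfsg.Agent.H999.ONIMThree.card_ON

/-- lists of nonconjugate `p'`-elements -/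
theorem lists_le {G : Type u} [Group G] [Finite G] {p : ℕ} [hp : Fact p.Prime]
    (hG : (Nat.card G).factorization p = 1) {x : G} (hx : orderOf x = p)
    {e m : ℕ} (he : (fus (p := p) x).card ≤ e) (hm : numCls p (zpowers x) ≤ m)
    (S : Finset ℕ) (f : ℕ → ℕ) (hS : ∀ n ∈ S, ¬ p ∣ n ∧ ∃ l : List G, l.length = f n ∧
      (∀ g ∈ l, orderOf g = n) ∧ l.Pairwise fun a b => ¬ IsConj a b) :
    ∑ n ∈ S, f n ≤ ND p G + e * m := by
  choose l hl using fun n : S => (hS n n.2).2
  have h := regular_le hG hx he hm (ι := Σ n : S, Fin (l n).length) (fun i => (l i.1).get i.2) ?_ ?_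
  · rw [Fintype.card_sigma] at h
    simp only [Fintype.card_fin] at h
    refine le_trans (le_of_eq ?_) h
    rw [← Finset.sum_coe_sort S f]
    exact Finset.sum_congr rfl fun n _ => ((hl n).1).symm
  · rintro ⟨n, i⟩
    rw [(hl n).2.1 _ (List.get_mem _ _)]
    exact (hS n n.2).1
  · rintro ⟨n, i⟩ ⟨k, j⟩ hij
    have h1 : (n : ℕ) = k := by
      obtain ⟨c, hc⟩ := isConj_iff.1 hij
      rw [← (hl n).2.1 _ (List.get_mem (l n) i), ← (hl k).2.1 _ (List.get_mem (l k) j),
        ← Cfsg.Agent.H724.IMTool.orderOf_conj c, hc]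
    have h2 : n = k := Subtype.ext h1
    subst h2
    have h3 := List.pairwise_iff_get.1 (hl n).2.2
    rcases lt_trichotomy i j with h4 | h4 | h4
    · exact absurd hij (h3 i j h4)
    · rw [h4]
    · exact absurd hij.symm (h3 j i h4)

theorem fac {p : ℕ} (hp : p.Prime) (h1 : p ∣ 460815505920) (h2 : ¬ p ^ 2 ∣ 460815505920) :
    (Nat.card ON).factorization p = 1 := by
  rw [card_ON]
  have h3 := (hp.dvd_iff_one_le_factorization (by norm_num)).1 h1
  have h4 : ¬ 2 ≤ (460815505920 : ℕ).factorization p := fun h => h2 ((hp.pow_dvd_iff_le_factorization (by norm_num)).2 h)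
  omega

/-- elements of order 19 -/
theorem not_conj_19 {y : ON} (hy : orderOf y = 19) {k : ℕ} (hk : ¬ 19 ∣ k) (h : k ^ 6 % 19 ≠ 1) :
    ¬ IsConj y (y ^ k) := by
  have := finite_ON
  have : Fact (Nat.Prime 19) := ⟨by norm_num⟩
  have he := Cfsg.Agent.H724.IMTool.fus_card_eq (e := 6) (c := 1) (fac (p := 19) (by norm_num) (by norm_num)
    (by norm_num)) hy (by rw [Cfsg.Agent.H680.ONThirtyOne.card_cent_nineteen hy]) (by rw [card_ON]; decide)
  refine Cfsg.Agent.H724.IMTool.not_isConj_pow (p := 19) (by rw [← hy, pow_orderOf_eq_one]) hk ?_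
  rw [he]
  exact h

theorem fus_31 {y : ON} (hy : orderOf y = 31) [Fact (Nat.Prime 31)] : (fus (p := 31) y).card = 15 := by
  have := finite_ON
  exact Cfsg.Agent.H724.IMTool.fus_card_eq (e := 15) (c := 1) (fac (p := 31) (by norm_num) (by norm_num)
    (by norm_num)) hy (by rw [Cfsg.Agent.H680.ONThirtyOne.card_cent hy]) (by rw [card_ON]; decide)

/-- elements of order 31 -/
theorem not_conj_31 {y : ON} (hy : orderOf y = 31) : ¬ IsConj y (y ^ 30) := by
  have := finite_ON
  have : Fact (Nat.Prime 31) := ⟨by norm_num⟩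
  refine Cfsg.Agent.H724.IMTool.not_isConj_pow (p := 31) (by rw [← hy, pow_orderOf_eq_one]) (by norm_num) ?_
  rw [fus_31 hy]
  norm_num

theorem one (g : ON) (n : ℕ) (hg : orderOf g = n) : ∃ l : List ON, l.length = 1 ∧ (∀ g ∈ l, orderOf g = n) ∧
      l.Pairwise fun a b => ¬ IsConj a b :=
  ⟨[g], rfl, by intro a ha; rw [List.mem_singleton.1 ha]; exact hg, List.pairwise_singleton _ _⟩

theorem two (g k : ON) (n : ℕ) (hg : orderOf g = n) (hk : orderOf k = n) (hgk : ¬ IsConj g k) :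
    ∃ l : List ON, l.length = 2 ∧ (∀ g ∈ l, orderOf g = n) ∧ l.Pairwise fun a b => ¬ IsConj a b :=
  ⟨[g, k], rfl, by
    intro a ha
    simp only [List.mem_cons, List.not_mem_nil, or_false] at ha
    rcases ha with rfl | rfl
    · exact hg
    · exact hk, by simpa only [_root_.isConj_iff, _root_.not_exists, _root_.List.pairwise_cons, _root_.List.mem_cons, _root_.List.not_mem_nil, _root_.or_false, _root_.forall_eq, _root_.IsEmpty.forall_iff, _root_.implies_true, _root_.List.Pairwise.nil, _root_.and_self, _root_.and_true] using hgk⟩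

/-- three classes of elements of order 19 -/
theorem three_19 {y : ON} (hy : orderOf y = 19) : ∃ l : List ON, l.length = 3 ∧ (∀ g ∈ l, orderOf g = 19) ∧
    l.Pairwise fun a b => ¬ IsConj a b := by
  have h2 : orderOf (y ^ 2) = 19 := by rw [Nat.Coprime.orderOf_pow (by rw [hy]; norm_num), hy]
  have h4 : orderOf ((y ^ 2) ^ 2) = 19 := by rw [Nat.Coprime.orderOf_pow (by rw [h2]; norm_num), h2]
  have c12 : ¬ IsConj y (y ^ 2) := not_conj_19 hy (by norm_num) (by norm_num)
  have c24 : ¬ IsConj (y ^ 2) ((y ^ 2) ^ 2) := not_conj_19 h2 (by norm_num) (by norm_num)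
  have c14 : ¬ IsConj y ((y ^ 2) ^ 2) := by
    rw [← pow_mul]
    exact not_conj_19 hy (by norm_num) (by norm_num)
  refine ⟨[y, y ^ 2, (y ^ 2) ^ 2], rfl, ?_, ?_⟩
  · intro a ha
    simp only [List.mem_cons, List.not_mem_nil, or_false] at ha
    rcases ha with rfl | rfl | rfl
    · exact hy
    · exact h2
    · exact h4
  · simp only [List.pairwise_cons, List.mem_cons, List.not_mem_nil, or_false, forall_eq_or_imp, forall_eq,
      IsEmpty.forall_iff, implies_true, List.Pairwise.nil, and_true]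
    exact ⟨⟨c12, c14⟩, c24⟩

/-- the elements -/
theorem elts : ∀ n ∈ ({1, 2, 3, 4, 5, 6, 7, 8, 10, 11, 12, 14, 15, 16, 19, 20, 28, 31} : Finset ℕ),
    ∃ l : List ON, l.length = (if n = 19 then 3 else if n = 4 ∨ n = 28 ∨ n = 31 then 2 else 1) ∧
      (∀ g ∈ l, orderOf g = n) ∧ l.Pairwise fun a b => ¬ IsConj a b := by
  obtain ⟨y3, h3, h3v⟩ := Cfsg.Agent.H866.VanON.exists_J 3 (by norm_num) (by norm_num)
  obtain ⟨y5, h5, h5v⟩ := Cfsg.Agent.H866.VanON.exists_J 5 (by norm_num) (by norm_num)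
  obtain ⟨y7, h7, h7v⟩ := Cfsg.Agent.H866.VanON.exists_J 7 (by norm_num) (by norm_num)
  obtain ⟨y11, h11⟩ := Cfsg.Agent.H866.VanON.exists_G 11 (by norm_num) (by norm_num)
  obtain ⟨y19, h19⟩ := Cfsg.Agent.H866.VanON.exists_G 19 (by norm_num) (by norm_num)
  obtain ⟨y31, h31⟩ := Cfsg.Agent.H866.VanON.exists_G 31 (by norm_num) (by norm_num)
  have o3 : Odd (orderOf y3) := by rw [h3]; decide
  have o5 : Odd (orderOf y5) := by rw [h5]; decide
  have o7 : Odd (orderOf y7) := by rw [h7]; decide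
  intro n hn
  simp only [Finset.mem_insert, Finset.mem_singleton] at hn
  rcases hn with rfl | rfl | rfl | rfl | rfl | rfl | rfl | rfl | rfl | rfl | rfl | rfl | rfl | rfl | rfl | rfl | rfl |
    rfl
  · exact one 1 _ orderOf_one
  · exact one _ _ Cfsg.Agent.H866.VanON.order_f
  · exact one _ _ h3
  · exact two _ _ _ Cfsg.Agent.H866.VanON.order_v Cfsg.Agent.H866.VanON.order_av Cfsg.Agent.H866.VanON.not_conj_4
  · exact one _ _ h5
  · exact one (y3 * on .f) _ (by rw [Cfsg.Agent.H866.VanON.order_mul_f o3 h3v, h3])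
  · exact one _ _ h7
  · exact one _ _ Cfsg.Agent.H866.VanON.order_8
  · exact one (y5 * on .f) _ (by rw [Cfsg.Agent.H866.VanON.order_mul_f o5 h5v, h5])
  · exact one _ _ h11
  · exact one (y3 * v) _ (by rw [Cfsg.Agent.H866.VanON.order_mul_v o3 h3v, h3])
  · exact one (y7 * on .f) _ (by rw [Cfsg.Agent.H866.VanON.order_mul_f o7 h7v, h7])
  · exact one _ _ Cfsg.Agent.H866.VanON.order_15
  · exact one _ _ Cfsg.Agent.H866.VanON.order_16
  · exact three_19 h19
  · exact one (y5 * v) _ (by rw [Cfsg.Agent.H866.VanON.order_mul_v o5 h5v, h5])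
  · exact two (y7 * v) (y7 * v⁻¹) _ (by rw [Cfsg.Agent.H866.VanON.order_mul_v o7 h7v, h7])
      (by rw [Cfsg.Agent.H866.VanON.order_inv_v o7 h7v, h7]) (Cfsg.Agent.H866.VanON.not_conj_28 h7 h7v)
  · exact two y31 (y31 ^ 30) _ h31 (by rw [Nat.Coprime.orderOf_pow (by rw [h31]; norm_num), h31]) (not_conj_31 h31)

theorem two_five [Fact (Nat.Prime 5)] : Two 5 ON := by
  have := finite_ON
  obtain ⟨x, hx⟩ := Cfsg.Agent.H866.VanON.exists_G 5 (by norm_num) (by norm_num)
  have hx5 : x ^ 5 = 1 := by rw [← hx, pow_orderOf_eq_one]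
  have he : (fus (p := 5) x).card ≤ 4 :=
    Nat.le_of_dvd (by norm_num) (Cfsg.Agent.H724.IMTool.fus_card_dvd (p := 5) hx5)
  have h := lists_le (p := 5) Cfsg.Agent.H999.ONIMFive.factorization_five hx he
    (Cfsg.Agent.H999.ONIMFive.numCls_five hx)
    {1, 2, 3, 4, 6, 7, 8, 11, 12, 14, 16, 19, 28, 31}
    (fun n => if n = 19 then 3 else if n = 4 ∨ n = 28 ∨ n = 31 then 2 else 1) fun n hn => ⟨?_, elts n ?_⟩
  · have h2 : (19 : ℕ) ≤ ND 5 ON + 4 * 4 := le_trans (by decide) h
    exact two_of_three Cfsg.Agent.S2078.result.le (by omega)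
  · revert n; decide
  · revert n; decide

theorem numCls_31 {x : ON} (hx : orderOf x = 31) [Fact (Nat.Prime 31)] : numCls 31 (zpowers x) ≤ 1 := by
  have := finite_ON
  have h := Cfsg.Agent.H999.ONIMFive.numCls_le_conj (p := 31) (fac (p := 31) (by norm_num) (by norm_num) (by norm_num)) hx
    (fun _ : Unit => (1 : ON)) (fun c hc h31 => ⟨(), by
      have hcC : c ∈ centralizer ({x} : Set ON) := mem_centralizer_singleton_iff.2 hc
      have h1 : orderOf c ∣ 31 := by
        rw [← Cfsg.Agent.H680.ONThirtyOne.card_cent hx, ← Subgroup.orderOf_mk c hcC]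
        exact orderOf_dvd_natCard _
      rcases (Nat.dvd_prime (by norm_num)).1 h1 with h2 | h2
      · rw [orderOf_eq_one_iff.1 h2]
      · exact absurd (by rw [h2]) h31⟩)
  simpa using h

theorem two_31 [Fact (Nat.Prime 31)] : Two 31 ON := by
  have := finite_ON
  obtain ⟨x, hx⟩ := Cfsg.Agent.H866.VanON.exists_G 31 (by norm_num) (by norm_num)
  have h := lists_le (p := 31) (fac (p := 31) (by norm_num) (by norm_num) (by norm_num)) hx (fus_31 hx).le (numCls_31 hx)
    {1, 2, 3, 4, 5, 6, 7, 8, 10, 11, 12, 14, 15, 16, 19, 20, 28}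
    (fun n => if n = 19 then 3 else if n = 4 ∨ n = 28 ∨ n = 31 then 2 else 1) fun n hn => ⟨?_, elts n ?_⟩
  · have h2 : (18 : ℕ) ≤ ND 31 ON + 15 * 1 := le_trans (by decide) h
    exact two_of_three Cfsg.Agent.S2078.result.le (by omega)
  · revert n; decide
  · revert n; decide +kernel

theorem deg_of {d : ℕ} (h : ∃ χ : IrrCharacter ON, (χ : ON → ℂ) 1 = (d : ℕ)) :
    ∃ χ : IrrCharacter ON, charDegree (χ : ON → ℂ) = d := by
  obtain ⟨χ, hχ⟩ := h
  exact ⟨χ, Cfsg.Agent.H670.PSing.charDegree_eq_of hχ⟩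

theorem two_ON {p : ℕ} (hp : p.Prime) (hd : p ∣ Nat.card ON) : Two p ON := by
  have a := deg_of Cfsg.Agent.H492.FactsON.exists_10944
  have b := deg_of Cfsg.Agent.H492.FactsON.exists_26752
  have c := deg_of Cfsg.Agent.H492.FactsON.exists_32395
  have d := deg_of Cfsg.Agent.H492.FactsON.exists_52668
  rw [card_ON] at hd
  have hF : Fact p.Prime := ⟨hp⟩
  rcases Cfsg.Agent.S2052.prime_cases hp hd with rfl | rfl | rfl | rfl | rfl | rfl | rfl
  · exact two_of_degs a b (by norm_num) (by norm_num) (by norm_num)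
  · exact two_of_degs a d (by norm_num) (by norm_num) (by norm_num)
  · exact two_five
  · exact two_of_degs d Cfsg.Agent.H210.On7.exists_charDegree (by norm_num) (by norm_num) (by norm_num)
  · exact two_of_degs b c (by norm_num) (by norm_num) (by norm_num)
  · exact two_of_degs a b (by norm_num) (by norm_num) (by norm_num)
  · exact two_31

/-- **FactTwo for the O'Nan group.** -/
theorem two_on {S : Type u} [Group S] (h : Cfsg.Spor.IsoON S) {p : ℕ} [hp : Fact p.Prime]
    (hd : p ∣ Nat.card S) : Cfsg.Agent.H596.OneFacts.TwoOr p S :=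
  twoOr_of h hd (two_ON hp.out)

end Cfsg.Agent.H440.Two.ON
end

-- part: H566/Two/FiRank
section
/-!
# `Fi₂₂`: the rank three action on the 14080 cosets of `Ω₇(3)` (helper566)

The subgroup `O = ⟨a, b, c, d, e, f, h, i⟩` has orbits of sizes 1, 3159, 10920 on its cosets.
-/

set_option autoImplicit false
set_option maxRecDepth 100000

namespace Cfsg.Agent.H566.Two.FiRank

open Cfsg.Spor Cfsg.Spor.Fi22 Cfsg.Agent.Lib.PermNet Cfsg.Agent.Lib.PermNetOrbit Cfsg.Agent.BM Cfsg.Agent.BM.Fi22O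

/-- the two orbits -/
noncomputable def U1 : ℕ := sat (R.nws TO) 10 (2 ^ 1)
noncomputable def U2 : ℕ := sat (R.nws TO) 10 (2 ^ 13928)

theorem sat1 : Nat.beq (sat (R.nws TO) 10 (2 ^ 1)) U1 = true := by decide +kernel
theorem sat2 : Nat.beq (sat (R.nws TO) 10 (2 ^ 13928)) U2 = true := by decide +kernel
theorem closed1 : closedB (R.nws TO) U1 = true := by decide +kernel
theorem closed2 : closedB (R.nws TO) U2 = true := by decide +kernel
theorem tb1 : tb U1 1 = true := by decide +kernel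
theorem tb2 : tb U2 13928 = true := by decide +kernel
theorem small1 : Nat.beq (Nat.shiftRight U1 (Nat.pow 2 14)) 0 = true := by decide +kernel
theorem small2 : Nat.beq (Nat.shiftRight U2 (Nat.pow 2 14)) 0 = true := by decide +kernel
theorem pc1 : Nat.beq (pc 14 U1) 3159 = true := by decide +kernel
theorem pc2 : Nat.beq (pc 14 U2) 10920 = true := by decide +kernel

theorem orbit_eq' {r p₀ V : ℕ} (hsat : Nat.beq (sat (R.nws TO) r (2 ^ p₀)) V = true)
    (hcl : closedB (R.nws TO) V = true) (hp₀ : tb V p₀ = true) :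
    {p : ℕ | ∃ x ∈ O, φ x p₀ = p} = {p | V.testBit p = true} := by
  refine orbit_closure_eq φ {x | ∃ w ∈ TO, x = R.wd w} (R.nws_ok TO) ?_ ?_ hsat hcl hp₀
  · rintro _ ⟨w, hw, rfl⟩
    exact ⟨R.nw w, List.mem_map.2 ⟨w, hw, rfl⟩, (R.φ_wd w).symm⟩
  · intro v hv
    obtain ⟨w, hw, rfl⟩ := List.mem_map.1 hv
    exact ⟨R.wd w, ⟨w, hw, rfl⟩, (R.φ_wd w).symm⟩

theorem exists_orbits : ∃ q₁ q₂ : Spor.Fi22 ⧸ O, (MulAction.orbit O q₁).ncard = 3159 ∧
    (MulAction.orbit O q₂).ncard = 10920 := by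
  obtain ⟨g₁, h₁⟩ := transitive 1 (by norm_num)
  obtain ⟨g₂, h₂⟩ := transitive 13928 (by norm_num)
  refine ⟨(g₁ : Spor.Fi22 ⧸ O), (g₂ : Spor.Fi22 ⧸ O), ?_, ?_⟩
  · rw [ncard_orbit_quotient O O φ main.2.1, h₁, orbit_eq' sat1 closed1 tb1]
    exact ncard_testBit small1 pc1
  · rw [ncard_orbit_quotient O O φ main.2.1, h₂, orbit_eq' sat2 closed2 tb2]
    exact ncard_testBit small2 pc2

end Cfsg.Agent.H566.Two.FiRank
end

-- part: H566/Two/Fi22
section
/-!
# `Fi₂₂`: two characters of degree divisible by `p` (helper566)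

The rank three action of degree 14080 gives the degrees 429 and 13650.
-/

set_option autoImplicit false
set_option maxRecDepth 100000

namespace Cfsg.Agent.H566.Two

open Cfsg Cfsg.Agent.H672.SporIM Cfsg.Agent.H651.Two Cfsg.Agent.H596.OneFacts Cfsg.Agent.H653.Sieve

universe u

/-- **the degrees 429 and 13650 of `Fi₂₂`** -/
theorem fi22_degrees {K : Type u} [Group K] (h : Spor.IsoFi22 K) : HasDeg K 13650 ∧ HasDeg K 429 := by
  have hc := Cfsg.Agent.NotCT.Orders.fi22 (K := Spor.Fi22) ⟨MulEquiv.refl _⟩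
  have : Finite Spor.Fi22 := Nat.finite_of_card_ne_zero (by rw [hc]; norm_num)
  obtain ⟨e⟩ := h
  obtain ⟨x, hx, hd⟩ := degrees_of_index BM.Fi22O.O (k := 3159) (l := 10920) BM.Fi22O.main.1 FiRank.exists_orbits
    (by norm_num) (by norm_num) (by norm_num)
    hc rfl (P := 485707622400) (by norm_num) [(2, 5), (3, 3), (5, 1), (13, 1)] [2, 7, 11]
    (by simp only [List.forall_mem_cons]; norm_num)
    (by simp only [List.forall_mem_cons]; norm_num) (by decide) (by norm_num) (Or.inl (by decide)) [(13650, 429)]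
    (by decide +kernel)
  rw [List.mem_singleton] at hx
  subst hx
  exact ⟨hd.1.of_equiv e, hd.2.of_equiv e⟩

theorem fi22_two {K : Type u} [Group K] (h : Spor.IsoFi22 K) {p : ℕ} (hp : p.Prime) (hd : p ∣ Nat.card K) :
    Two p K := by
  obtain ⟨h1, h2⟩ := fi22_degrees h
  have hc := Cfsg.Agent.NotCT.Orders.fi22 h
  have h3 := prime_mem (L := [(2, 17), (3, 9), (5, 2), (7, 1), (11, 1), (13, 1)]) hp (by decide +kernel)
    (show facProd _ = 64561751654400 by decide +kernel) (hc ▸ hd)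
  simp only [List.map_cons, List.map_nil, List.mem_cons, List.not_mem_nil, or_false] at h3
  rcases h3 with rfl | rfl | rfl | rfl | rfl | rfl
  · rcases fi22 h with ⟨h4, -⟩ | ⟨-, h4⟩
    · exact two_of_degs h1 h4 (by norm_num) (by norm_num) (by norm_num)
    · exact two_of_degs h1 h4 (by norm_num) (by norm_num) (by norm_num)
  · exact two_of_degs h1 h2 (by norm_num) (by norm_num) (by norm_num)
  · rcases fi22 h with ⟨h4, -⟩ | ⟨-, h4⟩
    · exact two_of_degs h1 h4 (by norm_num) (by norm_num) (by norm_num)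
    · exact two_of_degs h1 h4 (by norm_num) (by norm_num) (by norm_num)
  · rcases fi22 h with ⟨h4, -⟩ | ⟨h4, -⟩
    · exact two_of_degs h1 h4 (by norm_num) (by norm_num) (by norm_num)
    · exact two_of_degs h1 h4 (by norm_num) (by norm_num) (by norm_num)
  · rcases fi22 h with ⟨h4, -⟩ | ⟨h4, -⟩
    · exact two_of_degs h2 h4 (by norm_num) (by norm_num) (by norm_num)
    · exact two_of_degs h2 h4 (by norm_num) (by norm_num) (by norm_num)
  · exact two_of_degs h1 h2 (by norm_num) (by norm_num) (by norm_num)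

theorem two_fi22 {S : Type u} [Group S] (h : Cfsg.Spor.IsoFi22 S) {p : ℕ} [hp : Fact p.Prime]
    (hd : p ∣ Nat.card S) : TwoOr p S := Or.inl (fi22_two h hp.out hd)

end Cfsg.Agent.H566.Two
end

-- part: H858/TwoJ2
section
/-!
# `J₂`: two characters of degree divisible by `p` (helper858)

* `p = 2` : local block of the four-group `V`, `C(V) = V × A₅`;
* `p = 3` : degrees 36, 63;
* `p = 5` : `C(w) / ⟨w⟩ = A₅`;
* `p = 7` : eleven element orders, `#C(x) = 7`.
-/

set_option autoImplicit false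

open Cfsg Subgroup

namespace Cfsg.Agent.H858.TwoJ2

open Cfsg.Agent.H651.Two Cfsg.Agent.Characters.Core Cfsg.Agent.H596.OneFacts
open Cfsg.Agent.J2Type.Base Cfsg.Agent.J2Type.CentU Cfsg.Agent.J2Type.Cent5
open Cfsg.Agent.H593.IMRank

universe u

/-- The alternating group of degree five has a character of degree four. -/
theorem exists_four : ∃ θ : IrrCharacter (alternatingGroup (Fin 5)),
    charDegree (θ : alternatingGroup (Fin 5) → ℂ) = 4 := by
  have h3 : MulAction.IsMultiplyPretransitive (alternatingGroup (Fin 5)) (Fin 5) 3 := by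
    have := alternatingGroup.isMultiplyPretransitive (Fin 5)
    simpa using this
  have h2 : MulAction.IsMultiplyPretransitive (alternatingGroup (Fin 5)) (Fin 5) 2 :=
    MulAction.isMultiplyPretransitive_of_le (n := 3) (by norm_num) (by simp)
  have h1 : MulAction.IsMultiplyPretransitive (alternatingGroup (Fin 5)) (Fin 5) 1 :=
    MulAction.isMultiplyPretransitive_of_le (n := 2) (by norm_num) (by simp)
  have ht : MulAction.IsPretransitive (alternatingGroup (Fin 5)) (Fin 5) :=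
    MulAction.is_one_pretransitive_iff.1 h1
  have h6 := (Cfsg.Agent.S0157.result (G := alternatingGroup (Fin 5)) (Fin 5) (by simp)).2 h2
  refine ⟨⟨_, h6⟩, H670.PSing.charDegree_eq_of ?_⟩
  have h3 : Nat.card (MulAction.fixedBy (Fin 5) (1 : alternatingGroup (Fin 5))) = 5 := by
    rw [MulAction.fixedBy_one_eq_univ, Nat.card_univ]
    simp
  show ((Nat.card (MulAction.fixedBy (Fin 5) (1 : alternatingGroup (Fin 5))) : ℕ) : ℂ) - 1 = _
  rw [h3]
  norm_num

section local'

variable {G : Type u} [Group G] [Finite G] {z u f : G} {U V H0 : Subgroup G}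

omit [Finite G] in
theorem le_cent (_h : Fus z u) (F : Full z u f U V H0) : centralizer (V : Set G) ≤ centralizer ({u} : Set G) := by
  intro x hx
  rw [mem_centralizer_singleton_iff]
  exact (mem_centralizer_iff.1 hx u F.uV).symm

theorem cent_V (h : Fus z u) (F : Full z u f U V H0) (h60 : Nat.card H0 = 60) :
    centralizer (V : Set G) = centralizer ({u} : Set G) := by
  refine le_antisymm (le_cent h F) ?_
  intro x hx
  rw [mem_centralizer_iff]
  intro v hv
  by_cases hv1 : v = 1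
  · rw [hv1, one_mul, mul_one]
  rw [← centralizer_eq h F h60 hv hv1] at hx
  exact (mem_centralizer_singleton_iff.1 hx).symm

theorem H0_le (h : Fus z u) (F : Full z u f U V H0) (h60 : Nat.card H0 = 60) : H0 ≤ centralizer (V : Set G) := by
  intro x hx
  rw [mem_centralizer_iff]
  intro v hv
  exact V_comm h F h60 hv hx

omit [Finite G] in
theorem V_le' (h : Fus z u) (F : Full z u f U V H0) : V ≤ centralizer (V : Set G) := by
  intro x hx
  rw [mem_centralizer_iff]
  intro v hv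
  exact comm_V h F hv hx

/-- `V × H0 ≃ C(V)` -/
theorem exists_proj (h : Fus z u) (F : Full z u f U V H0) (h60 : Nat.card H0 = 60) :
    ∃ g : centralizer (V : Set G) →* H0, Function.Surjective g := by
  let m : V × H0 →* centralizer (V : Set G) :=
    { toFun := fun p => ⟨p.1 * p.2, (centralizer (V : Set G)).mul_mem (V_le' h F p.1.2) (H0_le h F h60 p.2.2)⟩
      map_one' := Subtype.ext (by simp only [_root_.Prod.fst_one, _root_.OneMemClass.coe_one, _root_.Prod.snd_one, _root_.mul_one])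
      map_mul' := by
        rintro ⟨a, b⟩ ⟨a', b'⟩
        apply Subtype.ext
        show ((a : G) * a') * (b * b') = (a * b) * (a' * b')
        rw [mul_assoc, mul_assoc, ← mul_assoc (a' : G), V_comm h F h60 a'.2 b.2, mul_assoc] }
  have hm : Function.Bijective m := by
    constructor
    · rw [injective_iff_map_eq_one]
      rintro ⟨a, b⟩ hab
      have h1 : (a : G) * b = 1 := congrArg Subtype.val hab
      have h2 : (a : G) = 1 := by
        refine V_inf_H0 F a.2 ?_
        rw [← eq_inv_iff_mul_eq_one] at h1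
        rw [h1]
        exact H0.inv_mem b.2
      have h3 : (b : G) = 1 := by rw [h2, one_mul] at h1; exact h1
      exact Prod.ext (Subtype.ext h2) (Subtype.ext h3)
    · rintro ⟨x, hx⟩
      obtain ⟨a, ha, b, hb, rfl⟩ := exists_mul F (le_cent h F hx)
      exact ⟨(⟨a, ha⟩, ⟨b, hb⟩), rfl⟩
  let e := MulEquiv.ofBijective m hm
  refine ⟨(MonoidHom.snd V H0).comp e.symm.toMonoidHom, ?_⟩
  intro y
  refine ⟨e (1, y), ?_⟩
  show ((e.symm (e (1, y))).2) = y
  rw [e.symm_apply_apply]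

theorem three_two (h : Fus z u) (F : Full z u f U V H0) (h60 : Nat.card H0 = 60) (h8 : 8 ∣ Nat.card G) :
    3 ≤ ND 2 G := by
  have : Fact (Nat.Prime 2) := ⟨Nat.prime_two⟩
  have hV : IsPGroup 2 V := IsPGroup.of_card (n := 2) (by rw [F.cardV]; norm_num)
  obtain ⟨g, hg⟩ := exists_proj h F h60
  obtain ⟨e⟩ := exists_equiv h F h60
  obtain ⟨θ, hθ⟩ := exists_four
  have hs : Function.Surjective (e.toMonoidHom.comp g) := e.surjective.comp hg
  have hc : Nat.card (centralizer (V : Set G)) = 240 := by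
    rw [cent_V h F h60, card_centralizer_u F h60]
  refine three_le_of_local V hV (by rw [F.cardV]; norm_num) ?_
    ⟨(θ : alternatingGroup (Fin 5) → ℂ) ∘ (e.toMonoidHom.comp g), isIrr_comp _ hs θ.2⟩ ?_ ?_
  · have h1 := V.card_mul_index
    rw [F.cardV] at h1
    rw [← h1] at h8
    omega
  · have h1 : charDegree ((θ : alternatingGroup (Fin 5) → ℂ) ∘ (e.toMonoidHom.comp g)) = 4 := by
      rw [← hθ]
      simp only [charDegree, Function.comp_apply, map_one]
    show _ ≤ (charDegree ((θ : alternatingGroup (Fin 5) → ℂ) ∘ (e.toMonoidHom.comp g))).factorization 2 + _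
    rw [h1, inf_eq_left.2 (V_le' h F), hc, F.cardV]
    have e1 : (240 : ℕ).factorization 2 = 4 :=
      H852.IMJTwo.fac (n := 4) (m := 15) (by norm_num) (by norm_num) (by norm_num)
    have e2 : (4 : ℕ).factorization 2 = 2 :=
      H852.IMJTwo.fac (n := 2) (m := 1) (by norm_num) (by norm_num) (by norm_num)
    rw [e1, e2]
  · intro g hg hk
    refine mem_sup_right ?_
    -- `g` acts on the three involutions of `V` and fixes one
    have hgV : ∀ v, v ∈ V ↔ g * v * g⁻¹ ∈ V := fun v => mem_normalizer_iff.1 hg v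
    have hgV' : ∀ v, v ∈ V → g⁻¹ * v * g ∈ V := by
      intro v hv
      rw [hgV]
      have : g * (g⁻¹ * v * g) * g⁻¹ = v := by group
      rwa [this]
    let σ : Equiv.Perm {v : G // v ∈ V ∧ v ≠ 1} :=
      { toFun := fun v => ⟨g * v * g⁻¹, (hgV v).1 v.2.1, fun h1 => v.2.2 (by
          have : (v : G) = g⁻¹ * (g * v * g⁻¹) * g := by group
          rw [this, h1]; group)⟩
        invFun := fun v => ⟨g⁻¹ * v * g, hgV' v v.2.1, fun h1 => v.2.2 (by
          have : (v : G) = g * (g⁻¹ * v * g) * g⁻¹ := by group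
          rw [this, h1]; group)⟩
        left_inv := fun v => Subtype.ext (by show g⁻¹ * (g * v * g⁻¹) * g = v; group)
        right_inv := fun v => Subtype.ext (by show g * (g⁻¹ * v * g) * g⁻¹ = v; group) }
    have hpow : ∀ (n : ℕ) (v : {v : G // v ∈ V ∧ v ≠ 1}), ((σ ^ n) v : G) = g ^ n * v * (g ^ n)⁻¹ := by
      intro n
      induction n with
      | zero => intro v; simp only [_root_.ne_eq, _root_.pow_zero, _root_.Equiv.Perm.coe_one, _root_.id_eq, _root_.one_mul, _root_.inv_one, _root_.mul_one]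
      | succ n ih =>
        intro v
        rw [pow_succ', Equiv.Perm.mul_apply]
        show g * ((σ ^ n) v : G) * g⁻¹ = _
        rw [ih, pow_succ']
        group
    obtain ⟨k, hk⟩ := hk
    have hσ : σ ^ 2 ^ k = 1 := by
      ext v
      rw [hpow, ← hk, pow_orderOf_eq_one, one_mul, inv_one, mul_one]
      rfl
    have hcard : Nat.card {v : G // v ∈ V ∧ v ≠ 1} = 3 := by
      have h1 : Nat.card {v : G // v ∈ V ∧ v ≠ 1} = ((V : Set G) \ {1}).ncard := by
        rw [← Nat.card_coe_set_eq]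
        rfl
      rw [h1, Set.ncard_sdiff_singleton_of_mem V.one_mem]
      have h2 : (V : Set G).ncard = Nat.card V := Nat.card_coe_set_eq _
      rw [h2, F.cardV]
    have := Fintype.ofFinite {v : G // v ∈ V ∧ v ≠ 1}
    obtain ⟨v, hv⟩ := Equiv.Perm.exists_fixed_point_of_prime (p := 2) (n := k)
      (by rw [← Nat.card_eq_fintype_card, hcard]; norm_num) hσ
    have hv' : g * v * g⁻¹ = v := congrArg Subtype.val hv
    rw [cent_V h F h60, ← centralizer_eq h F h60 v.2.1 v.2.2, mem_centralizer_singleton_iff]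
    exact mul_inv_eq_iff_eq_mul.1 hv'

end local'

/-- The centralizer of an element of order seven. -/
theorem three_seven {G : Type u} [Group G] [Finite G] (ho : ∀ g : G, orderOf g ∈ ({1, 2, 3, 4, 5, 6, 7, 8, 10, 12, 15} : Finset ℕ))
    (hr : ∀ n ∈ ({1, 2, 3, 4, 5, 6, 7, 8, 10, 12, 15} : Finset ℕ), ∃ g : G, orderOf g = n)
    (hc : ¬ 7 ^ 2 ∣ Nat.card G) : 3 ≤ ND 7 G := by
  have : Fact (Nat.Prime 7) := ⟨by norm_num⟩
  obtain ⟨x, hx⟩ := hr 7 (by decide)
  have h1 := card_le_conjClasses_of_orders _ hr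
  have h2 := classes_le_prime (p := 7) hx (fun h => hc (h.trans (card_subgroup_dvd_card _)))
    (fun _ : Unit => (1 : centralizer ({x} : Set G))) (fun c hc7 => ⟨(), by
      suffices c = 1 by rw [this]
      by_contra hne
      have hn1 : orderOf c ≠ 1 := fun h => hne (orderOf_eq_one_iff.1 h)
      have hcom : Commute x (c : G) := (mem_centralizer_singleton_iff.1 c.2).symm
      have hcop : Nat.Coprime (orderOf x) (orderOf (c : G)) := by
        rw [hx, Subgroup.orderOf_coe]
        exact (Nat.Prime.coprime_iff_not_dvd (by norm_num)).2 hc7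
      have h3 := hcom.orderOf_mul_eq_mul_orderOf_of_coprime hcop
      have h4 := ho (x * c)
      rw [h3, hx, Subgroup.orderOf_coe] at h4
      simp only [Finset.mem_insert, Finset.mem_singleton] at h4
      omega⟩)
  have h3 : ({1, 2, 3, 4, 5, 6, 7, 8, 10, 12, 15} : Finset ℕ).card = 11 := by decide
  rw [Fintype.card_unit] at h2
  omega

theorem two (p : ℕ) (hp : p.Prime) (hd : p ∣ Nat.card Spor.J2) : Two p Spor.J2 := by
  have hfin := Cfsg.Agent.H379.J2Spec.finite_J2
  have hc : Nat.card Spor.J2 = 604800 :=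
    Cfsg.Agent.OrdDiv.table_spor Spor.J2 (.j2, 604800) (by decide +kernel) ⟨MulEquiv.refl _⟩
  have hM : Nat.card (Out Spor.J2) ≤ 2 := Cfsg.Agent.S2066.result.le
  obtain ⟨t, u, Q, v, ρ, D⟩ := KFacts.J2.Facts.exists_dat_of (X := Spor.J2) ⟨MulEquiv.refl _⟩
  obtain ⟨f, U, V, H0, F⟩ := J2Type.CentU.main D.F
  have h60 : Nat.card H0 = 60 := by
    have h1 := J2Type.Order.card_centralizer_u D.F
    rw [F.str.card] at h1
    omega
  have h := prime_mem hp (L := [(7, 1), (5, 2), (3, 3), (2, 7)]) (by norm_num) (N := 604800)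
    (by decide +kernel) (hc ▸ hd)
  simp only [List.map_cons, List.map_nil, List.mem_cons, List.not_mem_nil, or_false] at h
  rcases h with rfl | rfl | rfl | rfl
  · have : Fact (Nat.Prime 7) := ⟨hp⟩
    refine two_of_three hM (three_seven Cfsg.Agent.H379.J2Spec.orders_J2 (fun n hn => ?_) (by rw [hc]; norm_num))
    have h1 := Cfsg.Agent.H379.J2Spec.range_J2
    have h2 : n ∈ Set.range (orderOf : Cfsg.Spor.J2 → ℕ) := by rw [h1]; exact hn
    exact h2
  · have : Fact (Nat.Prime 5) := ⟨hp⟩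
    obtain ⟨w, hw⟩ : ∃ w : H0, orderOf w = 5 := exists_prime_orderOf_dvd_card' 5 (by rw [h60]; norm_num)
    have hw' : orderOf (w : Spor.J2) = 5 := by rw [Subgroup.orderOf_coe, hw]
    obtain ⟨e⟩ := exists_equiv_CQ D.F F h60 hc w.2 hw'
    refine two_of_three hM (three_le_of_cent hw' (by norm_num)
      (Cfsg.Agent.H33.IM.of_quotient _ (H852.IMJTwo.im_five_alt e)) ?_ (by rw [hc]; norm_num))
    rw [card_centralizer_five D.F F h60 hc w.2 hw']
    norm_num
  · obtain ⟨h1, h2⟩ := H672.SporIM.j2 (K := Spor.J2) ⟨MulEquiv.refl _⟩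
    exact two_of_degs h1 h2 (by norm_num) (by norm_num) (by norm_num)
  · have : Fact (Nat.Prime 2) := ⟨hp⟩
    exact two_of_three hM (three_two D.F F h60 (by rw [hc]; norm_num))

/-- **The row `J₂`.** -/
theorem two_j2 {S : Type u} [Group S] (h : Cfsg.Spor.IsoJ2 S) {p : ℕ} [hp : Fact p.Prime]
    (hd : p ∣ Nat.card S) : TwoOr p S := twoOr_of h hd (two p hp.out)

end Cfsg.Agent.H858.TwoJ2
end

-- part: H651/Two/Spor
section
/-!
# FactTwo: the sporadic groups
-/

set_option autoImplicit false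

namespace Cfsg.Agent.H651.Two.Spor

open Cfsg Cfsg.Agent.H596.OneFacts

universe u

/-- **All the sporadic groups.** -/
theorem two_sporadic (hK : Cfsg.Agent.H995.CopEngine.AllKnown.{0}) {S : Type u} [Group S]
    (h : Cfsg.IsSporadicGroup S) {p : ℕ} [hp : Fact p.Prime] (hd : p ∣ Nat.card S) :
    TwoOr p S := by
  rcases h with h | h | h | h | h | h | h | h | h | h | h | h | h | h | h | h | h | h | h | h | h | h | h | h | h | h
  · exact Mathieu.two_m11 h hd
  · exact Mathieu.two_m12 h hd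
  · exact Mathieu.two_m22 h hd
  · exact Mathieu.two_m23 h hd
  · exact Mathieu.two_m24 h hd
  · exact J1.two_j1 h hd
  · exact Cfsg.Agent.H858.TwoJ2.two_j2 h hd
  · exact J3.two_j3 h hd
  · exact J4.two_j4 h hd
  · exact Cfsg.Agent.H752.TwoCoOne.two_co1 h hd
  · exact Co2.two_co2 h hd
  · exact Cfsg.Agent.H417.Two.Co3.two_co3 h hd
  · exact Cfsg.Agent.H174.Two.McL.two_mcl h hd
  · exact Cfsg.Agent.H858.TwoHS.two_hs h hd
  · exact Cfsg.Agent.H299.Two.Suz.two_suz h hd
  · exact Cfsg.Agent.H805.Two.He.two_he h hd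
  · exact Cfsg.Agent.H805.Two.Ru.two_ru h hd
  · exact Cfsg.Agent.H440.Two.ON.two_on h hd
  · exact Ly.two_ly hK h hd
  · exact Cfsg.Agent.H566.Two.two_fi22 h hd
  · exact Cfsg.Agent.H892.Two.Fi23.two_fi23 h hd
  · exact Cfsg.Agent.H892.Two.Fi24.two_fi24 h hd
  · exact Cfsg.Agent.H399.Two.HN.two_hn h hd
  · exact Cfsg.Agent.H399.Two.Th.two_th h hd
  · exact Cfsg.Agent.H877.TwoB.two_b h hd
  · exact Cfsg.Agent.H560.TwoM.two_m h hd

end Cfsg.Agent.H651.Two.Spor
end

private theorem dce_0063ba2009bd : _root_.True := by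
  try have : _root_.True := by simp only [_root_.Cfsg.Agent.H651.Two.J1.facs.eq_1]
  try have : _root_.True := by simp only [_root_.Cfsg.Agent.H651.Two.J1.cd.eq_1]
  exact _root_.True.intro
end

-- part: H717/Two/Asm
section
prune_inst 0x2c000524148a202000004008201004200040000000020840004020a04020883620900210000001000100aa00000010000010000f002000000000404000001000088a846002300401184001900000c010000008000000000000000000000000004014010000
set_option linter.all false
open scoped Cfsg.Agent.FastGrp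

-- part: H53/HC/TwoCG
section
/-!
# Row `²E₆` of FactTwo in the form of helper717
-/

set_option autoImplicit false

namespace Cfsg.Agent.H53.HC.TwoRows

end Cfsg.Agent.H53.HC.TwoRows
end

-- part: H40/TwoTorus
section
/-!
# Torus elements of order `p` without fixed points on the unipotent group (helper40)

`R : RGD cs h r T n X`.

* `Tor p T X i` : some element of `T` of `p`-power order has no nontrivial fixed points on `X (sr i)`;
* `tor_of_co` : the rank one group of `i` is a quotient of `SL₂(F)`, `s ∈ Fˣ` of `p`-power order, `s² ≠ 1`;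
* `tor_node` : `p` odd, `p ∣ q - 1`, `i` simply joined to another node;
* `exists_pgroup` : if `Tor p T X i` for all `i`, then a Sylow `p`-subgroup `Q` of `T` satisfies `C_U(Q) = 1`;
* `dvd_degree` : then the irreducible characters without nonzero `U`-fixed vectors have degree divisible by `p`.
-/

set_option autoImplicit false
set_option linter.unusedSectionVars false

namespace Cfsg.Agent.H40.TwoT

open CoxeterSystem Cfsg.Agent.ChevalleyStructure.CoxeterGeom Cfsg.Agent.Tits.Roots Cfsg.Agent.Tits.Core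
  Cfsg.Agent.Tits.RootComb Cfsg.Agent.Nodes.Comb Cfsg.Agent.Nodes.Reps Cfsg.Agent.Nodes.BNOf
  Cfsg.Agent.Nodes.StabComb Cfsg.Agent.Nodes.Bruhat Cfsg.Agent.Nodes.SubComb Cfsg.Agent.Nodes.OppDec Cfsg.Agent.FixBN
open Cfsg.Agent.H622.Levi
open Cfsg.Agent.LieRecognition.BNCox (cA)
open Cfsg.Agent.OddHalf.NI.Mult (up lo dg Coord)

variable {I W Y : Type*} [Fintype I] [DecidableEq I] [Group W] [Group Y] {M : CoxeterMatrix I}
  {cs : CoxeterSystem M W} {A : I → I → ℤ} {h : IsCartan M A} {r : ℕ} {T : Subgroup Y} {n : I → Y}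
  {X : (I → ℤ) → Subgroup Y}

/-- Some element of `T` of `p`-power order has no nontrivial fixed points on `X (sr i)`. -/
def Tor (p : ℕ) (T : Subgroup Y) (X : (I → ℤ) → Subgroup Y) (i : I) : Prop :=
  ∃ t ∈ T, (∃ k, t ^ p ^ k = 1) ∧ ∀ u ∈ X (sr i), t * u = u * t → u = 1

/-- Every positive root group: a `p`-subgroup of `T` without common fixed points on the root groups. -/
theorem exists_pgroup [Finite W] [Finite Y] (R : RGD cs h r T n X) {p : ℕ} [hp : Fact p.Prime]
    (hT : ∀ i, Tor p T X i) :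
    ∃ Q : Subgroup Y, IsPGroup p Q ∧ Q ≤ T ∧
      ∀ u ∈ RGD.Sup X (RGD.Pos cs h), (∀ q ∈ Q, q * u = u * q) → u = 1 := by
  classical
  let Q0 : Sylow p T := default
  refine ⟨(Q0 : Subgroup T).map T.subtype, Q0.isPGroup'.map _, Subgroup.map_subtype_le _, ?_⟩
  refine GGR.cent_U R _ (Subgroup.map_subtype_le _) ?_
  rintro x ⟨w, i, rfl⟩ - u hu hq
  obtain ⟨k, hk⟩ := exists_rp cs R.nsys w
  obtain ⟨t, htT, ⟨e, hte⟩, ht⟩ := hT i
  -- a conjugate of `k t k⁻¹` lies in `Q`
  have h1 : k * t * k⁻¹ ∈ T := by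
    have := cj_T R hk
    rw [← this]
    exact conj_mem_cj.2 htT
  let g : T := ⟨k * t * k⁻¹, h1⟩
  have hgp : IsPGroup p (Subgroup.zpowers g) := by
    rw [IsPGroup]
    rintro ⟨_, ⟨m, rfl⟩⟩
    refine ⟨e, ?_⟩
    apply Subtype.ext
    have h2 : g ^ p ^ e = 1 := by
      apply Subtype.ext
      rw [SubgroupClass.coe_pow]
      change (k * t * k⁻¹) ^ p ^ e = 1
      rw [conj_pow, hte]
      group
    change (g ^ m) ^ p ^ e = 1
    rw [← zpow_natCast, ← zpow_mul, mul_comm, zpow_mul, zpow_natCast, h2, one_zpow]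
  obtain ⟨Q1, hQ1⟩ := hgp.exists_le_sylow
  obtain ⟨s, hs⟩ := MulAction.exists_smul_eq T Q1 Q0
  have hmem : (s : Y) * (k * t * k⁻¹) * (s : Y)⁻¹ ∈ (Q0 : Subgroup T).map T.subtype := by
    have h2 : s * g * s⁻¹ ∈ (Q0 : Subgroup T) := by
      rw [← hs]
      change s * g * s⁻¹ ∈ (s • Q1 : Sylow p T)
      rw [Sylow.smul_def]
      exact Subgroup.mem_map.2 ⟨g, hQ1 (Subgroup.mem_zpowers g), by simp only [MulAut.conj_apply, _root_.MulDistribMulAction.toMonoidEnd_apply, _root_.MulDistribMulAction.toMonoidHom_apply, _root_.MulAut.smul_def]⟩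
    exact ⟨_, h2, rfl⟩
  have h3 : ((s : Y) * k)⁻¹ * u * ((s : Y) * k) ∈ X (sr i) := by
    have h4 : (s : Y)⁻¹ * u * (s : Y) ∈ X (rep cs h w (sr i)) := by
      have h5 := R.tor _ ((isRoot_sr cs h i).act w) _ s.2
      have h6 : u ∈ cj (s : Y) (X (rep cs h w (sr i))) := by rw [h5]; exact hu
      exact mem_cj.1 h6
    have h7 := R.conj_mem' hk ((isRoot_sr cs h i).act w) h4
    rw [rep_inv_apply] at h7
    have e1 : ((s : Y) * k)⁻¹ * u * ((s : Y) * k) = k⁻¹ * ((s : Y)⁻¹ * u * (s : Y)) * k := by group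
    rwa [e1]
  have h4 := ht _ h3 (by
    have h5 := hq _ hmem
    calc t * (((s : Y) * k)⁻¹ * u * ((s : Y) * k))
        = ((s : Y) * k)⁻¹ * (((s : Y) * (k * t * k⁻¹) * (s : Y)⁻¹) * u) * ((s : Y) * k) := by group
      _ = ((s : Y) * k)⁻¹ * (u * ((s : Y) * (k * t * k⁻¹) * (s : Y)⁻¹)) * ((s : Y) * k) := by rw [h5]
      _ = ((s : Y) * k)⁻¹ * u * ((s : Y) * k) * t := by group)
  have h5 : u = ((s : Y) * k) * (((s : Y) * k)⁻¹ * u * ((s : Y) * k)) * ((s : Y) * k)⁻¹ := by group
  rw [h5, h4]; group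

/-- **Rank one groups which are quotients of `SL₂(F)`.** -/
theorem tor_of_co [Finite W] (R : RGD cs h r T n X) {p : ℕ} {i : I} {F : Type} [Field F]
    {φ : Matrix.SpecialLinearGroup (Fin 2) F →* Y} (C : Co X (fun _ : Fin 1 => i) F φ) (s : Fˣ)
    (hs : ∃ k, s ^ p ^ k = 1) (hs2 : s ^ 2 ≠ 1) : Tor p T X i := by
  let k : Fin 1 ↪ I := ⟨fun _ => i, fun a b _ => Subsingleton.elim a b⟩
  obtain ⟨h', R'⟩ := rgd_levi_of (M' := cA 1) R k (by
    intro a b
    rw [Subsingleton.elim a b, M.diagonal, CoxeterMatrix.diagonal]) (cA 1).toCoxeterSystem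
  have hW : Finite (cA 1).Group := finite_Wm (cA 1).toCoxeterSystem h'
  have h01 : (0 : Fin 2) ≠ 1 := by decide
  have h10 : (1 : Fin 2) ≠ 0 := by decide
  have hup : ∀ a : F, Matrix.SpecialLinearGroup.transvection h01 a = up a := by
    intro a
    apply Subtype.ext
    ext x y
    (revert x y; simp only [up, Matrix.SpecialLinearGroup.transvection, Matrix.transvection, _root_.Fin.forall_fin_succ, Fin.isValue, _root_.Matrix.add_apply, _root_.Matrix.of_apply, _root_.Matrix.cons_val', _root_.Matrix.cons_val_fin_one, _root_.one_ne_zero, _root_.and_false, _root_.not_false_eq_true, _root_.Matrix.single_apply_of_ne, _root_.add_zero, _root_.Matrix.cons_val_zero, _root_.Matrix.cons_val_succ, _root_.Fin.succ_zero_eq_one, _root_.IsEmpty.forall_iff, _root_.and_true, _root_.Matrix.one_apply_eq, Nat.reduceAdd, _root_.ne_eq, _root_.zero_ne_one, _root_.Matrix.one_apply_ne, _root_.Matrix.single_apply_same, _root_.zero_add, _root_.and_self, _root_.Fin.succ_ne_zero,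 _root_.true_and])
  have hlo : ∀ a : F, Matrix.SpecialLinearGroup.transvection h10 a = lo a := by
    intro a
    apply Subtype.ext
    ext x y
    (revert x y; simp only [lo, Matrix.SpecialLinearGroup.transvection, Matrix.transvection, _root_.Fin.forall_fin_succ, Fin.isValue, _root_.Matrix.add_apply, _root_.Matrix.of_apply, _root_.Matrix.cons_val', _root_.Matrix.cons_val_fin_one, _root_.Matrix.cons_val_zero, _root_.Matrix.cons_val_succ, _root_.Fin.succ_zero_eq_one, _root_.zero_ne_one, _root_.and_false, _root_.not_false_eq_true, _root_.Matrix.single_apply_of_ne, _root_.add_zero, _root_.IsEmpty.forall_iff, _root_.and_true, _root_.Matrix.one_apply_eq, _root_.one_ne_zero, Nat.reduceAdd, _root_.ne_eq, _root_.Matrix.one_apply_ne, _root_.and_self, _root_.Fin.succ_ne_zero, _root_.zero_add, _root_.Matrix.single_apply_same])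
  have e1 : (X (sr i) : Set Y) = Set.range fun a : F => φ (up a) := by
    have h1 := C.root 0 1 h01
    have h2 := cr_succ (fun _ : Fin 1 => i) 0
    change cr (fun _ : Fin 1 => i) 0 1 = sr i at h2
    rw [h2] at h1
    rw [h1]
    simp only [hup]
  have e2 : (X (-sr i) : Set Y) = Set.range fun a : F => φ (lo a) := by
    have h1 := C.root 1 0 h10
    have h2 := cr_succ (fun _ : Fin 1 => i) 0
    change cr (fun _ : Fin 1 => i) 0 1 = sr i at h2
    rw [← cr_neg, h2] at h1
    rw [h1]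
    simp only [hlo]
  have hC : Coord (fun c : Fin 1 → ℤ => X (iota (fun j => sr (k j)) c)) (fun _ : Fin 1 => F) (fun _ => φ) := by
    refine ⟨fun j => ?_, fun j => ?_⟩
    · simp only [iota_sr]
      exact e1
    · simp only [map_neg, iota_sr]
      exact e2
  have hdg : φ (dg s) ∈ T := Cfsg.Agent.OddHalf.NI.Mult.dg_mem_T R' hC 0 s
  refine ⟨φ (dg s), hdg, ?_, ?_⟩
  · obtain ⟨e, he⟩ := hs
    refine ⟨e, ?_⟩
    have h1 : ∀ m : ℕ, dg s ^ m = dg (s ^ m) := by
      intro m
      induction m with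
      | zero => rw [pow_zero, pow_zero, Cfsg.Agent.OddHalf.NI.Mult.dg_one]
      | succ m ih => rw [pow_succ, ih, pow_succ, Cfsg.Agent.OddHalf.NI.Mult.dg_mul]
    rw [← map_pow, h1, he, Cfsg.Agent.OddHalf.NI.Mult.dg_one, map_one]
  · intro u hu hcomm
    have hu' : u ∈ (X (sr i) : Set Y) := hu
    rw [e1] at hu'
    obtain ⟨a, rfl⟩ := hu'
    change φ (up a) = 1
    change φ (dg s) * φ (up a) = φ (up a) * φ (dg s) at hcomm
    have h1 : φ (up ((s : F) ^ 2 * a + -a)) = 1 := by
      rw [Cfsg.Agent.OddHalf.NI.Mult.up_add, Cfsg.Agent.OddHalf.NI.Mult.up_neg, ← Cfsg.Agent.OddHalf.NI.Mult.dg_mul_up,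
        map_mul, map_mul, map_mul, map_inv, map_inv, hcomm]
      group
    have h2 : up ((s : F) ^ 2 * a + -a) = 1 := by
      have h3 := C.ker (MonoidHom.mem_ker.2 h1)
      rw [← hup] at h3 ⊢
      exact UU_inf_center (i := (0 : Fin 1)) (transvection_mem_UU h01 (by decide) _) h3
    have h3 : (s : F) ^ 2 * a + -a = 0 := by
      have h4 := congrFun (congrFun (congrArg Subtype.val h2) 0) 1
      simpa only [up, _root_.Fin.isValue, _root_.Matrix.of_apply, _root_.Matrix.cons_val', _root_.Matrix.cons_val_one, _root_.Matrix.cons_val_fin_one, _root_.Matrix.cons_val_zero, _root_.Cfsg.Agent.Omega.Lie.CenSL.one01] using h4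
    have h4 : ((s : F) ^ 2 - 1) * a = 0 := by linear_combination h3
    rcases mul_eq_zero.1 h4 with h5 | h5
    · exfalso
      apply hs2
      apply Units.ext
      rw [Units.val_pow_eq_pow_val, Units.val_one]
      exact sub_eq_zero.1 h5
    · rw [h5, Cfsg.Agent.OddHalf.NI.Mult.up_zero, map_one]

/-- `p` odd, `p ∣ |F| - 1`. -/
theorem exists_unit {F : Type} [Field F] [Finite F] {p : ℕ} (hp : p.Prime) (h2 : p ≠ 2) (hd : p ∣ Nat.card F - 1) :
    ∃ s : Fˣ, (∃ k, s ^ p ^ k = 1) ∧ s ^ 2 ≠ 1 := by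
  classical
  have := Fintype.ofFinite F
  have : Fact p.Prime := ⟨hp⟩
  have hc : p ∣ Fintype.card Fˣ := by
    rw [Fintype.card_units, ← Nat.card_eq_fintype_card]
    exact hd
  obtain ⟨s, hs⟩ := exists_prime_orderOf_dvd_card p hc
  refine ⟨s, ⟨1, ?_⟩, fun h1 => ?_⟩
  · rw [pow_one, ← hs, pow_orderOf_eq_one]
  · have h3 := orderOf_dvd_of_pow_eq_one h1
    rw [hs] at h3
    exact h2 ((Nat.prime_dvd_prime_iff_eq hp Nat.prime_two).1 h3)

theorem tor_of_co_odd [Finite W] (R : RGD cs h r T n X) {p : ℕ} (hp : p.Prime) (h2 : p ≠ 2) {i : I} {F : Type}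
    [Field F] [Finite F] {φ : Matrix.SpecialLinearGroup (Fin 2) F →* Y} (C : Co X (fun _ : Fin 1 => i) F φ)
    (hd : p ∣ Nat.card F - 1) : Tor p T X i := by
  obtain ⟨s, hs, hs2⟩ := exists_unit hp h2 hd
  exact tor_of_co R C s hs hs2

/-- **A node simply joined to another node.** -/
theorem tor_node [Finite W] [Finite Y] (R : RGD cs h r T n X) {p : ℕ} (hp : p.Prime) (h2 : p ≠ 2) (i j : I)
    (hij : M i j = 3) (hd : p ∣ Nat.card (X (sr i)) - 1) : Tor p T X i := by
  obtain ⟨F, _, _, φ, C⟩ := exists_co_one R i j hij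
  refine tor_of_co_odd R hp h2 C ?_
  have h1 := C.card 0
  change Nat.card (X (sr i)) = Nat.card F at h1
  rwa [← h1]

end Cfsg.Agent.H40.TwoT
end

-- part: H40/TwoTorusExc
section
/-!
# Torus elements without fixed points: `F₄`, `E₆`, `E₇`, `E₈`, `²E₆` (helper40)

`Tor p T X i` for all nodes, `p` odd, `p ∣ q - 1`; the irreducible characters without nonzero `U`-fixed vectors
have degree divisible by `p`.
-/

set_option autoImplicit false
set_option linter.unusedSectionVars false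

namespace Cfsg.Agent.H40.TwoT

open Cfsg.Agent.H53.HC Cfsg.Agent.H35.ExcIdx Cfsg.Agent.Nodes.BNOf Cfsg.Agent.Tits.Roots
  Cfsg.Agent.ChevalleyStructure.CoxeterGeom Cfsg.Agent.Tits.Core Cfsg.Agent.Tits.RootComb Cfsg.Agent.Nodes.Comb

variable {r q l : ℕ} {M : CoxeterMatrix (Fin l)} {A : Fin l → Fin l → ℤ} {h : IsCartan M A} {f : Fin l → ℕ}
  {S : Type*} [Group S] {T : Subgroup S} {n : Fin l → S} {X : (Fin l → ℤ) → Subgroup S}

/-- every node simply joined to another node, `p ∣ f i - 1` -/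
theorem tor_exc [Finite S] {J : Set (Fin l)} (D : ExcData r q h f J T n X) {p : ℕ} (hp : p.Prime) (h2 : p ≠ 2)
    (hM : ∀ i, ∃ j, M i j = 3) (hf : ∀ i, p ∣ f i - 1) (i : Fin l) : Tor p T X i := by
  have := D.fin
  obtain ⟨j, hij⟩ := hM i
  exact tor_node D.rgd hp h2 i j hij (by rw [D.size]; exact hf i)

theorem joined_F4 : ∀ i : Fin 4, ∃ j, ExcRows.m4 i j = 3 := by decide +kernel
end Cfsg.Agent.H40.TwoT
end

-- part: H40/TwoF4
section
/-!
# `F₄(q)`, `p` odd, `p ∣ q - 1` (helper40)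

* `many_F4` : three characters of degree divisible by `p`, pairwise not conjugate under automorphisms
  (Harish-Chandra types `{3} ⊂ {0, 3} ⊂ {0, 1, 3}`);
* `two_F4_torus`.
-/

set_option autoImplicit false
set_option linter.unusedSectionVars false

namespace Cfsg.Agent.H40.TwoT

open Cfsg.Agent.H53.HC Cfsg.Agent.H53.HC.ExcRows Cfsg.Agent.H53.HC.ExcIM Cfsg.Agent.H35.ExcIdx Cfsg.Lie
  Cfsg.Agent.Nodes.RGDChev Cfsg.Agent.H246.Dl
open CoxeterSystem Cfsg.Agent.ChevalleyStructure.CoxeterGeom Cfsg.Agent.Tits.Roots Cfsg.Agent.Tits.Core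
  Cfsg.Agent.Tits.Exchange Cfsg.Agent.Nodes.Reps Cfsg.Agent.Nodes.BNOf Cfsg.Agent.Nodes.StabComb

universe u

variable {r q l : ℕ} {M : CoxeterMatrix (Fin l)} {A : Fin l → Fin l → ℤ} {h : IsCartan M A} {f : Fin l → ℕ}
  {S : Type*} [Group S] {T : Subgroup S} {n : Fin l → S} {X : (Fin l → ℤ) → Subgroup S}

/-- **Many characters from a chain of sets of nodes**, `p` odd, `p ∣ q_i - 1` for all nodes. -/
theorem many_exc [Finite S] (hr : r.Prime) {J : Set (Fin l)} (D : ExcData r q h f J T n X) {p : ℕ}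
    (hp : p.Prime) (h2 : p ≠ 2) (hpr : p ≠ r) (hM : ∀ i, ∃ j, M i j = 3) (hf : ∀ i, p ∣ f i - 1) {m : ℕ}
    (K : Fin m → Set (Fin l)) (hK : ∀ i, (K i).Nonempty) (hcusp : ∀ i, In h X (K i)) (hne : StrictMono K) :
    Many p S m := by
  have := D.fin
  have : Fact r.Prime := ⟨hr⟩
  have : Fact p.Prime := ⟨hp⟩
  obtain ⟨Q, hQ, hQT, hC⟩ := exists_pgroup D.rgd (tor_exc D hp h2 hM hf)
  exact many_of_chain D.rgd D.gg hpr Q hQ hQT hC K hK hcusp hne

/-- three types for `F₄` -/
def kF4 : Fin 3 → Set (Fin 4) := ![{3}, {0} ∪ {3}, {1, 0} ∪ {3}]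

theorem kF4_mono : StrictMono kF4 := by
  refine Fin.strictMono_iff_lt_succ.2 fun i => ?_
  fin_cases i
  · change ({3} : Set (Fin 4)) ⊂ {0} ∪ {3}
    refine ⟨Set.subset_union_right, fun h => ?_⟩
    have h1 : (0 : Fin 4) ∈ ({3} : Set (Fin 4)) := h (Or.inl rfl)
    have h2 : (0 : Fin 4) = 3 := h1
    exact absurd h2 (by decide)
  · change ({0} ∪ {3} : Set (Fin 4)) ⊂ {1, 0} ∪ {3}
    refine ⟨Set.union_subset_union_left _ fun x hx => Or.inr hx, fun h => ?_⟩
    have h1 : (1 : Fin 4) ∈ ({0} ∪ {3} : Set (Fin 4)) := h (Or.inl (Or.inl rfl))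
    rcases h1 with h2 | h2
    · have h3 : (1 : Fin 4) = 0 := h2
      exact absurd h3 (by decide)
    · have h3 : (1 : Fin 4) = 3 := h2
      exact absurd h3 (by decide)

/-- **`F₄(q)`**, `p` odd, `p ∣ q - 1` : three characters. -/
theorem many_F4 {K : Type u} [Field K] [Fintype K] {r f : ℕ} (hr : r.Prime) (hf : f ≠ 0)
    (hK : Fintype.card K = r ^ f) [CharP K r] {p : ℕ} (hp : p.Prime) (h2 : p ≠ 2) (hpr : p ≠ r)
    (hd : p ∣ r ^ f - 1) : Many p ↥(chevF4.group K) 3 := by
  have := finite_group (K := K) chevF4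
  have D := data_F4_2 hr hf hK
  refine many_exc hr D hp h2 hpr joined_F4 (fun i => hd) kF4 ?_ ?_ kF4_mono
  · intro i
    fin_cases i
    · exact ⟨3, rfl⟩
    · exact ⟨3, Or.inr rfl⟩
    · exact ⟨3, Or.inr rfl⟩
  · have h3 := in_node D 3 2 (by decide +kernel)
    have h0 := in_node D 0 1 (by decide +kernel)
    have h10 := in_A2 D (k₀ := 1) (k₁ := 0) (by decide +kernel) rfl
    obtain ⟨θ, hθ, -⟩ := h10
    intro i
    fin_cases i
    · exact h3
    · refine In.union D h0 h3 ?_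
      rintro i rfl j rfl
      decide +kernel
    · refine In.union D ⟨θ, hθ⟩ h3 ?_
      intro i hi j hj
      have hj' : j = 3 := hj
      subst hj'
      rcases hi with rfl | hi
      · decide +kernel
      · have hi' : i = 0 := hi
        subst hi'
        decide +kernel

/-- the row, three characters -/
theorem many_F4_torus {S : Type*} [Group S] {K : Type u} [Field K] [Fintype K] (e : S ≃* ↥(chevF4.group K)) {r : ℕ}
    [CharP K r] {p : ℕ} (hp : p.Prime) (hpr : p ≠ r) (h2 : p ≠ 2) (hd : p ∣ Fintype.card K - 1) :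
    Many p S 3 := by
  obtain ⟨f, hr, hf⟩ := FiniteField.card K r
  rw [hf] at hd
  exact Many.of_equiv e (many_F4 hr f.ne_zero hf hp h2 hpr hd)

/-- two of many -/
theorem two_of_many {S : Type*} [Group S] {p m : ℕ} (hm : 2 ≤ m) (h : Many p S m) : H596.OneFacts.Two p S := by
  obtain ⟨χ, h1, h2⟩ := h
  refine ⟨χ ⟨0, by omega⟩, χ ⟨1, by omega⟩, h1 _, h1 _, fun σ => ?_⟩
  exact h2 _ _ (by simp) σ

/-- **The row of `FactTwo`.** -/
theorem two_F4_torus {S : Type*} [Group S] {K : Type u} [Field K] [Fintype K] (e : S ≃* ↥(chevF4.group K)) {r : ℕ}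
    [CharP K r] {p : ℕ} (hp : p.Prime) (_hd : p ∣ Nat.card S) (hpr : p ≠ r) (h2 : p ≠ 2)
    (h : p ∣ Fintype.card K - 1) : H596.OneFacts.Two p S :=
  two_of_many (by norm_num) (many_F4_torus e hp hpr h2 h)

end Cfsg.Agent.H40.TwoT
end

-- part: H113/Two/Psu
section
/-!
# The row `PSU_n(q)`, `n ≥ 4`, `p` not the characteristic, of FactTwo (helper113)
-/

set_option autoImplicit false

open Cfsg

namespace Cfsg.Agent.H113.Two.Psu

open Cfsg.Agent.H596.OneFacts Cfsg.Agent.H113.Two.Psl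

universe u

/-- **`PSU_n(q)`, `n ≥ 4`, `p ∤ q`** -/
theorem two_psu_of_equiv {S : Type u} [Group S] [Finite S] {F : Type} [Field F] [Fintype F] {n q : ℕ}
    (hF : Fintype.card F = q ^ 2) (hn : 4 ≤ n) (e : S ≃* PSU n F q) {p : ℕ} (hp : p.Prime)
    (hd : p ∣ Nat.card S) (hq : ¬ p ∣ q) : Two p S :=
  two_of_equiv e (PsuTwo.two_psu_gen hF hn hp hq (by rwa [← Nat.card_congr e.toEquiv]))

/-- **The row `PSU_n(q)`, `n ≥ 4`, `p` not the characteristic.** -/
theorem two_psu (S : Type u) [Group S] [Finite S] {F : Type} [Field F] [Fintype F] {n q : ℕ}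
    (hF : Fintype.card F = q ^ 2) (hn : 4 ≤ n) (e : S ≃* PSU n F q) {p : ℕ} (hp : p.Prime)
    (hd : p ∣ Nat.card S) (hc : ¬ CharP F p) : TwoOr p S := by
  refine Or.inl (two_psu_of_equiv hF hn e hp hd fun h => hc ?_)
  obtain ⟨r, hr⟩ := CharP.exists F
  have hpr : r.Prime := (CharP.char_is_prime_or_zero F r).resolve_right (CharP.char_ne_zero_of_finite F r)
  have : Fact r.Prime := ⟨hpr⟩
  obtain ⟨s, hs0, hs⟩ := FiniteField.card F r
  have h2 : p ∣ Fintype.card F := by rw [hF]; exact h.trans (dvd_pow_self q two_ne_zero)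
  rw [hs] at h2
  rw [(Nat.prime_dvd_prime_iff_eq hp hpr).1 (hp.dvd_of_dvd_pow h2)]
  exact hr

end Cfsg.Agent.H113.Two.Psu
end

-- part: H115/HC/TwoSign
section
/-!
# The sign character of a parabolic subgroup with root groups of order two (helper115)

`R : RGD cs h p T n X` of type `G₂` with `|X_{α_0}| = 2`: the sign character of `P = PJ {0}` induces a character with two
constituents `χ`, `χ'`; `χ(1)` divides `b χ'(1)` and conversely, where `b` is a power of two.
-/

set_option autoImplicit false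

open scoped ComplexConjugate
open Cfsg

namespace Cfsg.Agent.H115.HC.Two

open CoxeterSystem Cfsg.Agent.ChevalleyStructure.CoxeterGeom Cfsg.Agent.Tits.Roots Cfsg.Agent.Tits.Core
  Cfsg.Agent.Tits.Exchange Cfsg.Agent.Nodes.Reps Cfsg.Agent.Nodes.BNOf Cfsg.Agent.Nodes.StabComb
  Cfsg.Agent.Nodes.Bruhat Cfsg.Agent.Nodes.OppDec Cfsg.Agent.Nodes.LeviDec Cfsg.Agent.H53.HC
  Cfsg.Agent.LieRecognition.RankOneAbstract Cfsg.Agent.Characters Cfsg.Agent.OddOrderCharacters.Clifford

theorem eq_of_card_two {Y : Type*} [Group Y] {X : Subgroup Y} (h2 : Nat.card X = 2) {a b : Y} (ha : a ∈ X)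
    (hb : b ∈ X) (ha1 : a ≠ 1) (hb1 : b ≠ 1) : a = b := by
  obtain ⟨x, y, hxy, hu⟩ := Nat.card_eq_two_iff.1 h2
  have key : ∀ z : X, z = x ∨ z = y := fun z => by
    have : z ∈ ({x, y} : Set X) := by rw [hu]; trivial
    exact this
  have h1 : (⟨a, ha⟩ : X) ≠ 1 := fun h => ha1 (congrArg Subtype.val h)
  have h2 : (⟨b, hb⟩ : X) ≠ 1 := fun h => hb1 (congrArg Subtype.val h)
  have h3 : (⟨a, ha⟩ : X) = ⟨b, hb⟩ := by
    rcases key 1 with h | h <;> rcases key ⟨a, ha⟩ with h4 | h4 <;> rcases key ⟨b, hb⟩ with h5 | h5 <;> simp_all only [_root_.ne_eq, _root_.Subtype.forall, _root_.not_true_eq_false, _root_.not_false_eq_true]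
  exact congrArg Subtype.val h3

section general

variable {I W Y : Type*} [Fintype I] [DecidableEq I] [Group W] [Group Y] {M : CoxeterMatrix I}
  {cs : CoxeterSystem M W} {A : I → I → ℤ} {h : IsCartan M A} {p : ℕ} {T : Subgroup Y} {n : I → Y}
  {X : (I → ℤ) → Subgroup Y} (R : RGD cs h p T n X)

include R

theorem card_neg (i : I) : Nat.card (X (-sr i)) = Nat.card (X (sr i)) := by
  rw [← rep_simple_sr (cs := cs) (h := h), ← R.conj i _ (isRoot_sr cs h i)]
  unfold cj
  exact Nat.card_congr ((X (sr i)).equivMapOfInjective _ (MulAut.conj (n i)).injective).toEquiv.symm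

/-- a root group of order two is centralised by the torus -/
theorem T_comm_of_card {x : I → ℤ} (hx : IsRoot cs h x) (h2 : Nat.card (X x) = 2) {t u : Y} (ht : t ∈ T)
    (hu : u ∈ X x) : t * u = u * t := by
  by_cases hu1 : u = 1
  · rw [hu1, mul_one, one_mul]
  · have h1 : t * u * t⁻¹ ∈ X x := by
      rw [← R.tor x hx t ht]
      exact conj_mem_cj.2 hu
    have h3 : t * u * t⁻¹ ≠ 1 := fun h => hu1 (by
      have := mul_inv_eq_one.1 h
      exact mul_eq_left.1 this)
    have h4 := eq_of_card_two h2 h1 hu h3 hu1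
    exact mul_inv_eq_iff_eq_mul.1 h4

/-- **The sign character of the Levi subgroup.** -/
theorem exists_sign [Finite Y] (hTc : ∀ a ∈ T, ∀ b ∈ T, a * b = b * a) (i : I)
    (h2 : Nat.card (X (sr i)) = 2) :
    ∃ f : ↥(LJ cs h T X {i}) →* ℂˣ, (∀ (t : Y) (ht : t ∈ T), f ⟨t, T_le_LJ ht⟩ = 1) ∧
      (∀ (u : Y) (hu : u ∈ X (sr i)), u ≠ 1 → f ⟨u, X_le_LJ (PosJ_subset _ (sr_mem_PosJ (Set.mem_singleton i))) hu⟩ = -1) ∧
      (∀ (u : Y) (hu : u ∈ X (-sr i)), u ≠ 1 → f ⟨u, X_le_LJ (RootsJ.neg (PosJ_subset _ (sr_mem_PosJ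
        (Set.mem_singleton i)))) hu⟩ = -1) := by
  classical
  have hri : (sr i : I → ℤ) ∈ RootsJ cs h ({i} : Set I) := PosJ_subset _ (sr_mem_PosJ (Set.mem_singleton i))
  have h2' : Nat.card (X (-sr i)) = 2 := by rw [card_neg R, h2]
  obtain ⟨u, hu, hu1⟩ := exists_ne_one R i
  obtain ⟨v, hv, hv1⟩ : ∃ v ∈ X (-sr i), v ≠ 1 := by
    have : Nontrivial (X (-sr i)) := by
      rw [← Finite.one_lt_card_iff_nontrivial, h2']
      norm_num
    obtain ⟨v, hv⟩ := _root_.exists_ne (1 : X (-sr i))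
    exact ⟨v, v.2, fun h => hv (Subtype.ext h)⟩
  have huu : u * u = 1 := by
    have h3 : u * u ∈ X (sr i) := mul_mem hu hu
    by_contra h4
    exact hu1 (mul_eq_left.1 (eq_of_card_two h2 h3 hu h4 hu1))
  have hvv : v * v = 1 := by
    have h3 : v * v ∈ X (-sr i) := mul_mem hv hv
    by_contra h4
    exact hv1 (mul_eq_left.1 (eq_of_card_two h2' h3 hv h4 hv1))
  have hui : u⁻¹ = u := inv_eq_of_mul_eq_one_left huu
  have hvi : v⁻¹ = v := inv_eq_of_mul_eq_one_left hvv
  have hTu : ∀ t ∈ T, t * u = u * t := fun t ht => T_comm_of_card R (isRoot_sr cs h i) h2 ht hu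
  have hTv : ∀ t ∈ T, t * v = v * t := fun t ht => T_comm_of_card R (isRoot_sr cs h i).neg h2' ht hv
  -- the subgroup
  obtain ⟨H, hH⟩ : ∃ H : Subgroup Y, H = T ⊔ Subgroup.zpowers (u * v) := ⟨_, rfl⟩
  have hTH : T ≤ H := by rw [hH]; exact le_sup_left
  have huvH : u * v ∈ H := by rw [hH]; exact Subgroup.mem_sup_right (Subgroup.mem_zpowers _)
  have hnu : ∀ x ∈ H, u * x * u ∈ H := by
    have h3 : H ≤ H.comap (MulAut.conj u).toMonoidHom := by
      conv_lhs => rw [hH]
      refine sup_le (fun t ht => ?_) ?_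
      · rw [Subgroup.mem_comap]
        change u * t * u⁻¹ ∈ H
        rw [← hTu t ht, mul_inv_cancel_right]
        exact hTH ht
      · rw [Subgroup.zpowers_le, Subgroup.mem_comap]
        change u * (u * v) * u⁻¹ ∈ H
        have e : u * (u * v) * u⁻¹ = (u * v)⁻¹ := by
          rw [mul_inv_rev, hui, hvi, ← mul_assoc, huu, one_mul]
        rw [e]
        exact inv_mem huvH
    intro x hx
    have := h3 hx
    rw [Subgroup.mem_comap] at this
    change u * x * u⁻¹ ∈ H at this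
    rwa [hui] at this
  have hHc : H ≤ Subgroup.centralizer (H : Set Y) := by
    have hT : T ≤ Subgroup.centralizer (H : Set Y) := by
      rw [Subgroup.le_centralizer_iff]
      conv_lhs => rw [hH]
      refine sup_le ?_ ?_
      · intro t ht
        rw [Subgroup.mem_centralizer_iff]
        exact fun s hs => hTc s hs t ht
      · rw [Subgroup.zpowers_le, Subgroup.mem_centralizer_iff]
        intro s hs
        rw [← mul_assoc, hTu s hs, mul_assoc, hTv s hs, ← mul_assoc]
    conv_lhs => rw [hH]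
    refine sup_le hT ?_
    rw [Subgroup.zpowers_le, Subgroup.mem_centralizer_iff]
    have h3 : H ≤ Subgroup.centralizer {u * v} := by
      conv_lhs => rw [hH]
      refine sup_le ?_ ?_
      · intro t ht
        rw [Subgroup.mem_centralizer_singleton_iff, ← mul_assoc, hTu t ht, mul_assoc, hTv t ht, ← mul_assoc]
      · rw [Subgroup.zpowers_le, Subgroup.mem_centralizer_singleton_iff]
    intro x hx
    exact Subgroup.mem_centralizer_singleton_iff.1 (h3 hx)
  have huH : u ∉ H := by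
    intro h3
    have hvH : v ∈ H := by
      have := mul_mem (inv_mem h3) huvH
      rwa [inv_mul_cancel_left] at this
    apply R.notp i
    refine IsPGroup.to_sup_of_normal_right' (R.pgrp i) ?_ ?_
    · rw [← rep_simple_sr (cs := cs) (h := h), ← R.conj i _ (isRoot_sr cs h i)]
      unfold cj
      exact (R.pgrp i).map _
    · intro x hx
      have hxH : x ∈ H := by
        by_cases hx1 : x = 1
        · rw [hx1]
          exact one_mem _
        · rw [eq_of_card_two h2 hx hu hx1 hu1]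
          exact h3
      have hXH : X (-sr i) ≤ Subgroup.centralizer {x} := by
        intro y hy
        rw [Subgroup.mem_centralizer_singleton_iff]
        by_cases hy1 : y = 1
        · rw [hy1, one_mul, mul_one]
        · rw [eq_of_card_two h2' hy hv hy1 hv1]
          exact (Subgroup.mem_centralizer_iff.1 (hHc hvH) x hxH).symm
      refine Subgroup.centralizer_le_normalizer _ ?_
      rw [Subgroup.mem_centralizer_iff]
      intro y hy
      exact Subgroup.mem_centralizer_singleton_iff.1 (hXH hy)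
  have hvH : v ∉ H := fun h3 => huH (by
    have := mul_mem huvH (inv_mem h3)
    rwa [mul_inv_cancel_right] at this)
  have hmul : ∀ x y, x * u ∈ H → y * u ∈ H → x * y ∈ H := by
    intro x y hx hy
    have h3 := mul_mem hx (hnu _ hy)
    have e : x * u * (u * (y * u) * u) = x * y := by
      calc x * u * (u * (y * u) * u) = x * (u * u) * y * (u * u) := by group
        _ = x * y := by rw [huu, mul_one, mul_one]
    rwa [e] at h3
  let S : Subgroup Y :=
    { carrier := {x | x ∈ H ∨ x * u ∈ H}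
      mul_mem' := by
        rintro x y (hx | hx) (hy | hy)
        · exact Or.inl (mul_mem hx hy)
        · refine Or.inr ?_
          rw [mul_assoc]
          exact mul_mem hx hy
        · refine Or.inr ?_
          have h3 := mul_mem hx (hnu _ hy)
          have e : x * u * (u * y * u) = x * y * u := by
            calc x * u * (u * y * u) = x * (u * u) * y * u := by group
              _ = x * y * u := by rw [huu, mul_one]
          rwa [e] at h3
        · exact Or.inl (hmul x y hx hy)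
      one_mem' := Or.inl (one_mem _)
      inv_mem' := by
        rintro x (hx | hx)
        · exact Or.inl (inv_mem hx)
        · refine Or.inr ?_
          have h3 := hnu _ (inv_mem hx)
          have e : u * (x * u)⁻¹ * u = x⁻¹ * u := by
            rw [mul_inv_rev, hui, ← mul_assoc, huu, one_mul]
          rwa [e] at h3 }
  have hL : ∀ x ∈ LJ cs h T X {i}, x ∈ H ∨ x * u ∈ H := by
    have hle : LJ cs h T X {i} ≤ S := by
      rw [LJ_eq, MJ_single]
      refine sup_le (fun t ht => Or.inl (hTH ht)) (sup_le ?_ ?_)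
      · intro x hx
        by_cases hx1 : x = 1
        · rw [hx1]
          exact one_mem _
        · rw [eq_of_card_two h2 hx hu hx1 hu1]
          refine Or.inr ?_
          rw [huu]
          exact one_mem _
      · intro x hx
        by_cases hx1 : x = 1
        · rw [hx1]
          exact one_mem _
        · rw [eq_of_card_two h2' hx hv hx1 hv1]
          refine Or.inr ?_
          have e : v * u = (u * v)⁻¹ := by rw [mul_inv_rev, hui, hvi]
          rw [e]
          exact inv_mem huvH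
    exact fun x hx => hle hx
  refine ⟨MonoidHom.mk' (fun x => if (x : Y) ∈ H then (1 : ℂˣ) else -1) ?_, ?_, ?_, ?_⟩
  · rintro ⟨x, hx⟩ ⟨y, hy⟩
    change (if x * y ∈ H then (1 : ℂˣ) else -1) = (if x ∈ H then (1 : ℂˣ) else -1) * (if y ∈ H then (1 : ℂˣ) else -1)
    by_cases h3 : x ∈ H
    · by_cases h4 : y ∈ H
      · rw [if_pos h3, if_pos h4, if_pos (mul_mem h3 h4), one_mul]
      · rw [if_pos h3, if_neg h4, if_neg, one_mul]
        intro h5
        apply h4
        have := mul_mem (inv_mem h3) h5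
        rwa [inv_mul_cancel_left] at this
    · by_cases h4 : y ∈ H
      · rw [if_neg h3, if_pos h4, if_neg, mul_one]
        intro h5
        apply h3
        have := mul_mem h5 (inv_mem h4)
        rwa [mul_inv_cancel_right] at this
      · rw [if_neg h3, if_neg h4, if_pos, neg_mul_neg, one_mul]
        exact hmul x y ((hL x hx).resolve_left h3) ((hL y hy).resolve_left h4)
  · intro t ht
    change (if t ∈ H then (1 : ℂˣ) else -1) = 1
    rw [if_pos (hTH ht)]
  · intro x hx hx1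
    change (if x ∈ H then (1 : ℂˣ) else -1) = -1
    rw [if_neg]
    rw [eq_of_card_two h2 hx hu hx1 hu1]
    exact huH
  · intro x hx hx1
    change (if x ∈ H then (1 : ℂˣ) else -1) = -1
    rw [if_neg]
    rw [eq_of_card_two h2' hx hv hx1 hv1]
    exact hvH

/-- the order of `P_J` -/
theorem card_PJ_mul [Finite W] [Finite Y] (J : Set I) :
    Nat.card (PJ cs h T X J) = Nat.card (LJ cs h T X J) * Nat.card (VJ cs h X J) := by
  rw [← Nat.card_prod]
  symm
  refine Nat.card_congr (Equiv.ofBijective (fun z : ↥(LJ cs h T X J) × ↥(VJ cs h X J) =>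
    (⟨(z.1 : Y) * z.2, mul_mem (LJ_le_PJ z.1.2) (VJ_le_PJ z.2.2)⟩ : ↥(PJ cs h T X J))) ⟨?_, ?_⟩)
  · rintro ⟨l, v⟩ ⟨l', v'⟩ h1
    have h2 : (l : Y) * v = l' * v' := congrArg Subtype.val h1
    have h3 : (l' : Y)⁻¹ * l = v' * (v : Y)⁻¹ := by
      rw [eq_mul_inv_iff_mul_eq, mul_assoc, h2, inv_mul_cancel_left]
    have h4 : (l' : Y)⁻¹ * l = 1 := eq_one_of_mem_LJ_of_mem_VJ R (mul_mem (inv_mem l'.2) l.2)
      (by rw [h3]; exact mul_mem v'.2 (inv_mem v.2))
    have h5 : l = l' := Subtype.ext (inv_mul_eq_one.1 h4).symm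
    have h6 : v = v' := Subtype.ext (by
      rw [h4] at h3
      exact (mul_inv_eq_one.1 h3.symm).symm)
    rw [h5, h6]
  · rintro ⟨g, hg⟩
    obtain ⟨l, hl, v, hv, rfl⟩ := (mem_PJ R).1 hg
    exact ⟨(⟨l, hl⟩, ⟨v, hv⟩), rfl⟩

end general

section gtwo

variable {W Y : Type*} [Group W] [Group Y] {M : CoxeterMatrix (Fin 2)} {cs : CoxeterSystem M W}
  {A : Fin 2 → Fin 2 → ℤ} {h : IsCartan M A} {p : ℕ} {T : Subgroup Y} {n : Fin 2 → Y} {X : (Fin 2 → ℤ) → Subgroup Y}
  (R : RGD cs h p T n X)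

include R

/-- **The two constituents of the character induced by the sign character of `P_0`.** -/
theorem exists_pair_sign [Finite W] [Finite Y] (hG : GG cs h T X = ⊤) (hTc : ∀ a ∈ T, ∀ b ∈ T, a * b = b * a)
    (hp : p.Prime) (hA : A 0 1 * A 1 0 = 3) (h2 : Nat.card (X (sr 0)) = 2) :
    ∃ (k : ℕ) (χ χ' : IrrCharacter Y),
      charDegree (χ : Y → ℂ) + charDegree (χ' : Y → ℂ) = (PJ cs h T X {0}).index ∧
      charDegree (χ : Y → ℂ) ∣ p ^ k * charDegree (χ' : Y → ℂ) ∧
      charDegree (χ' : Y → ℂ) ∣ p ^ k * charDegree (χ : Y → ℂ) := by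
  classical
  have := Fintype.ofFinite Y
  have hpf := Fact.mk hp
  obtain ⟨f₀, hfT, hfX, hfX'⟩ := exists_sign R hTc 0 h2
  obtain ⟨π, hπL, hπV⟩ := exists_projL R ({0} : Set (Fin 2))
  let f : ↥(PJ cs h T X {0}) →* ℂˣ := f₀.comp π
  have hfL : ∀ (l : Y) (hl : l ∈ LJ cs h T X {0}), f ⟨l, LJ_le_PJ hl⟩ = f₀ ⟨l, hl⟩ := fun l hl =>
    congrArg f₀ (hπL l hl)
  have hfV : ∀ (v : Y) (hv : v ∈ VJ cs h X {0}), f ⟨v, VJ_le_PJ hv⟩ = 1 := fun v hv => by
    have h1 := congrArg f₀ (hπV v hv)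
    rw [map_one] at h1
    exact h1
  obtain ⟨g, hg0⟩ : ∃ g, g = (n 1 * n 0) * n 1 * (n 1 * n 0)⁻¹ := ⟨_, rfl⟩
  have hg : Rp cs R.nsys (vv cs) g := by
    rw [hg0]
    exact (((rp_simple cs R.nsys 1).mul (rp_simple cs R.nsys 0)).mul (rp_simple cs R.nsys 1)).mul
      ((rp_simple cs R.nsys 1).mul (rp_simple cs R.nsys 0)).inv
  have hvv : rep cs h (vv cs) (sr 0) = sr 0 := by
    rw [rep_vv hA, sr_zero_eq]
    exact vec_ext (by simp) (by simp)
  have hvi : (vv cs)⁻¹ = vv cs := by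
    unfold vv
    simp only [mul_inv_rev, cs.inv_simple, mul_assoc]
  have hgP : g ∉ PJ cs h T X {0} := by
    rw [cell_mem_PJ_iff R ⟨1, one_mem _, g, hg, 1, one_mem _, by rw [one_mul, mul_one]⟩]
    exact vv_not_mem hA h
  -- conjugation by `g` normalises `L` and fixes the sign character
  have hconjL : ∀ l, l ∈ LJ cs h T X {0} → ∃ hl' : g⁻¹ * l * g ∈ LJ cs h T X {0}, ∀ hl : l ∈ LJ cs h T X {0},
      f₀ ⟨g⁻¹ * l * g, hl'⟩ = f₀ ⟨l, hl⟩ := by
    have hgT : ∀ t ∈ T, g⁻¹ * t * g ∈ T := fun t ht => conj_T R hg ht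
    have hgX : ∀ u ∈ X (sr 0), g⁻¹ * u * g ∈ X (sr 0) := by
      intro u hu
      have := R.conj_mem' hg (isRoot_sr cs h 0) hu
      rwa [hvi, hvv] at this
    have hgX' : ∀ u ∈ X (-sr 0), g⁻¹ * u * g ∈ X (-sr 0) := by
      intro u hu
      have := R.conj_mem' hg (isRoot_sr cs h 0).neg hu
      rwa [map_neg, hvi, hvv] at this
    have hXL : X (sr 0) ≤ LJ cs h T X {0} := X_le_LJ (PosJ_subset _ (sr_mem_PosJ (Set.mem_singleton 0)))
    have hXL' : X (-sr 0) ≤ LJ cs h T X {0} :=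
      X_le_LJ (RootsJ.neg (PosJ_subset _ (sr_mem_PosJ (Set.mem_singleton 0))))
    have hne : ∀ u : Y, u ≠ 1 → g⁻¹ * u * g ≠ 1 := by
      intro u hu1 h1
      apply hu1
      have h3 : u = g * (g⁻¹ * u * g) * g⁻¹ := by group
      rw [h3, h1, mul_one, mul_inv_cancel]
    let S : Subgroup Y :=
      { carrier := {l | ∃ (hl : l ∈ LJ cs h T X {0}) (hl' : g⁻¹ * l * g ∈ LJ cs h T X {0}),
          f₀ ⟨g⁻¹ * l * g, hl'⟩ = f₀ ⟨l, hl⟩}
        mul_mem' := by
          rintro a b ⟨ha, ha', h1⟩ ⟨hb, hb', h3⟩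
          have e : g⁻¹ * (a * b) * g = (g⁻¹ * a * g) * (g⁻¹ * b * g) := by group
          refine ⟨mul_mem ha hb, by rw [e]; exact mul_mem ha' hb', ?_⟩
          have e1 : (⟨g⁻¹ * (a * b) * g, by rw [e]; exact mul_mem ha' hb'⟩ : ↥(LJ cs h T X {0})) =
              ⟨g⁻¹ * a * g, ha'⟩ * ⟨g⁻¹ * b * g, hb'⟩ := Subtype.ext e
          have e2 : (⟨a * b, mul_mem ha hb⟩ : ↥(LJ cs h T X {0})) = ⟨a, ha⟩ * ⟨b, hb⟩ := rfl
          rw [e1, e2, map_mul, map_mul, h1, h3]
        one_mem' := by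
          refine ⟨one_mem _, by rw [mul_one, inv_mul_cancel]; exact one_mem _, ?_⟩
          congr 1
          exact Subtype.ext (by group)
        inv_mem' := by
          rintro a ⟨ha, ha', h1⟩
          have e : g⁻¹ * a⁻¹ * g = (g⁻¹ * a * g)⁻¹ := by group
          refine ⟨inv_mem ha, by rw [e]; exact inv_mem ha', ?_⟩
          have e1 : (⟨g⁻¹ * a⁻¹ * g, by rw [e]; exact inv_mem ha'⟩ : ↥(LJ cs h T X {0})) =
              (⟨g⁻¹ * a * g, ha'⟩ : ↥(LJ cs h T X {0}))⁻¹ := Subtype.ext e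
          have e2 : (⟨a⁻¹, inv_mem ha⟩ : ↥(LJ cs h T X {0})) = (⟨a, ha⟩ : ↥(LJ cs h T X {0}))⁻¹ := rfl
          rw [e1, e2, map_inv, map_inv, h1] }
    have hS : LJ cs h T X {0} ≤ S := by
      conv_lhs => rw [LJ_eq, MJ_single]
      refine sup_le ?_ (sup_le ?_ ?_)
      · intro t ht
        exact ⟨T_le_LJ ht, T_le_LJ (hgT t ht), by rw [hfT t ht, hfT _ (hgT t ht)]⟩
      · intro u hu
        refine ⟨hXL hu, hXL (hgX u hu), ?_⟩
        by_cases hu1 : u = 1
        · subst hu1
          congr 1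
          exact Subtype.ext (by group)
        · exact (hfX _ (hgX u hu) (hne u hu1)).trans (hfX u hu hu1).symm
      · intro u hu
        refine ⟨hXL' hu, hXL' (hgX' u hu), ?_⟩
        by_cases hu1 : u = 1
        · subst hu1
          congr 1
          exact Subtype.ext (by group)
        · exact (hfX' _ (hgX' u hu) (hne u hu1)).trans (hfX' u hu hu1).symm
    intro l hl
    obtain ⟨hl1, hl', h1⟩ := hS hl
    exact ⟨hl', fun _ => h1⟩
  -- the intersection is `L`
  have hint : ∀ t, t ∈ PJ cs h T X {0} → g⁻¹ * t * g ∈ PJ cs h T X {0} → t ∈ LJ cs h T X {0} := by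
    intro t ht ht'
    obtain ⟨l, hl, v, hv, rfl⟩ := (mem_PJ R).1 ht
    obtain ⟨hl', -⟩ := hconjL l hl
    have h1 : g⁻¹ * v * g ∈ VNJ cs h X {0} :=
      conj_mem_Sup' R hg (fun x hx => hx.1) (fun x hx => vv_notJ hA hx) hv
    have h3 : g⁻¹ * v * g ∈ PJ cs h T X {0} := by
      have h4 := mul_mem (inv_mem (LJ_le_PJ hl')) ht'
      have e : (g⁻¹ * l * g)⁻¹ * (g⁻¹ * (l * v) * g) = g⁻¹ * v * g := by group
      rwa [e] at h4
    have h4 := eq_one_of_mem_VNJ_of_mem_PJ R h1 h3
    have h5 : v = 1 := by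
      have h6 : v = g * (g⁻¹ * v * g) * g⁻¹ := by group
      rw [h6, h4, mul_one, mul_inv_cancel]
    rw [h5, mul_one]
    exact hl
  obtain ⟨χ, χ', hsum, hd, hd'⟩ := exists_pair (PJ cs h T X {0}) f (g := g) hgP
    (by
      rintro ⟨t, ht⟩ ht'
      have htL := hint t ht ht'
      obtain ⟨hl', h1⟩ := hconjL t htL
      exact (hfL t htL).trans ((h1 htL).symm.trans (hfL _ hl').symm))
    (by
      intro x hx hxD
      obtain ⟨a, ha, b, hb, w, k, hk, e, hwJ, hw1, hw2⟩ := exists_min_rep R hG {0} hx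
      by_cases hw : rep cs h w (sr 0) = sr 0
      · exfalso
        apply hxD
        have hwv := eq_vv hA hwJ hw
        subst hwv
        have ht := hg.unique hk
        refine ⟨a, ha, g⁻¹ * k * b, mul_mem (T_le_PJ _ ht) hb, ?_⟩
        rw [e]
        group
      · obtain ⟨u, hu, hu1⟩ := exists_ne_one R 0
        have hroot := (isRoot_sr cs h 0).act (w := w)
        have hβ : rep cs h w (sr 0) ∈ NotJ cs h ({0} : Set (Fin 2)) := by
          have h0 := hw2 0 (Set.mem_singleton 0)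
          refine ⟨hroot, h0, ?_⟩
          by_contra hcon
          push Not at hcon
          exact hw (hroot.eq_sr h0 0 fun k hk => le_antisymm (hcon k hk) (h0 k))
        have hv : k * u * k⁻¹ ∈ VJ cs h X {0} := RGD.le_Sup hβ (R.conj_mem hk (isRoot_sr cs h 0) hu)
        have ht : a * (k * u * k⁻¹) * a⁻¹ ∈ PJ cs h T X {0} := mul_mem (mul_mem ha (VJ_le_PJ hv)) (inv_mem ha)
        have huP : u ∈ PJ cs h T X {0} :=
          LJ_le_PJ (X_le_LJ (PosJ_subset _ (sr_mem_PosJ (Set.mem_singleton 0))) hu)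
        have e1 : x⁻¹ * (a * (k * u * k⁻¹) * a⁻¹) * x = b⁻¹ * u * b := by
          rw [e]
          group
        have hx' : x⁻¹ * (a * (k * u * k⁻¹) * a⁻¹) * x ∈ PJ cs h T X {0} := by
          rw [e1]
          exact mul_mem (mul_mem (inv_mem hb) huP) hb
        refine ⟨⟨_, ht⟩, hx', ?_⟩
        have h1 : f ⟨a * (k * u * k⁻¹) * a⁻¹, ht⟩ = 1 := by
          have e2 : (⟨a * (k * u * k⁻¹) * a⁻¹, ht⟩ : ↥(PJ cs h T X {0})) =
              ⟨a, ha⟩ * ⟨k * u * k⁻¹, VJ_le_PJ hv⟩ * ⟨a, ha⟩⁻¹ := rfl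
          rw [e2, map_mul, map_mul, hfV _ hv, mul_one, map_inv, mul_inv_cancel]
        have h3 : f ⟨x⁻¹ * (a * (k * u * k⁻¹) * a⁻¹) * x, hx'⟩ = -1 := by
          have e2 : (⟨x⁻¹ * (a * (k * u * k⁻¹) * a⁻¹) * x, hx'⟩ : ↥(PJ cs h T X {0})) =
              ⟨b, hb⟩⁻¹ * ⟨u, huP⟩ * ⟨b, hb⟩ := Subtype.ext e1
          rw [e2, map_mul, map_mul, map_inv, mul_comm (f ⟨b, hb⟩)⁻¹, mul_assoc, inv_mul_cancel, mul_one]
          exact (hfL u _).trans (hfX u hu hu1)
        rw [h1, h3]
        intro h4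
        have h5 := congrArg Units.val h4
        rw [Units.val_one, Units.val_neg, Units.val_one] at h5
        norm_num at h5)
  -- the index
  obtain ⟨k, hk⟩ := ((RGD.isPGroup_Upos R).to_le (VJ_le_U ({0} : Set (Fin 2)))).exists_card_eq
  have hb : (dsub (PJ cs h T X {0}) g).index ∣ p ^ k := by
    rw [← hk]
    have h1 : (LJ cs h T X {0}).subgroupOf (PJ cs h T X {0}) ≤ dsub (PJ cs h T X {0}) g := by
      intro l hl
      rw [mem_dsub]
      obtain ⟨hl', -⟩ := hconjL l hl
      exact LJ_le_PJ hl'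
    obtain ⟨j, hj⟩ := Subgroup.card_dvd_of_le h1
    have h3 := Subgroup.card_mul_index (dsub (PJ cs h T X {0}) g)
    rw [card_PJ_mul R, hj, Nat.card_congr (Subgroup.subgroupOfEquivOfLe LJ_le_PJ).toEquiv, mul_assoc] at h3
    exact ⟨j, by rw [← Nat.eq_of_mul_eq_mul_left Nat.card_pos h3, mul_comm]⟩
  exact ⟨k, χ, χ', hsum, hd.trans (Nat.mul_dvd_mul_right hb _), hd'.trans (Nat.mul_dvd_mul_right hb _)⟩

end gtwo

end Cfsg.Agent.H115.HC.Two
end

-- part: H115/HC/TwoRows
section
/-!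
# The rows `G₂(q)` and `³D₄(q)` of `FactTwo` (helper115)

Two irreducible characters of different degrees divisible by `p`.
-/

set_option autoImplicit false

open Cfsg Cfsg.Lie

namespace Cfsg.Agent.H115.HC.TwoRows

open Cfsg.Agent.H53.HC Cfsg.Agent.Nodes.RGDChev Cfsg.Agent.Characters.Core

/-- two different degrees divisible by `p` -/
def TwoDeg (p : ℕ) (H : Type*) [Group H] : Prop :=
  ∃ χ χ' : IrrCharacter H, p ∣ charDegree (χ : H → ℂ) ∧ p ∣ charDegree (χ' : H → ℂ) ∧
    charDegree (χ : H → ℂ) ≠ charDegree (χ' : H → ℂ)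

theorem TwoDeg.two {p : ℕ} {S H : Type*} [Group S] [Group H] (e : S ≃* H) (h : TwoDeg p H) :
    H596.OneFacts.Two p S := by
  obtain ⟨χ, χ', h1, h2, h3⟩ := h
  have key : ∀ ξ : IrrCharacter H, ∃ η : IrrCharacter S, charDegree (η : S → ℂ) = charDegree (ξ : H → ℂ) := by
    intro ξ
    refine ⟨⟨(ξ : H → ℂ) ∘ e.toMonoidHom, isIrr_comp e.toMonoidHom e.surjective ξ.2⟩, ?_⟩
    change charDegree ((ξ : H → ℂ) ∘ e.toMonoidHom) = _
    unfold charDegree
    rw [Function.comp_apply, map_one]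
  obtain ⟨η, hη⟩ := key χ
  obtain ⟨η', hη'⟩ := key χ'
  exact H596.OneFacts.two_of_degree_ne η η' (by rw [hη]; exact h1) (by rw [hη']; exact h2) (by rw [hη, hη']; exact h3)

/-- the Steinberg character -/
theorem exists_st {p : ℕ} (hp : p.Prime) {G : Type*} [Group G] [Finite G] (hG : HasRGD p G) (hd : p ∣ Nat.card G) :
    ∃ (χ : IrrCharacter G) (a : ℕ), a ≠ 0 ∧ charDegree (χ : G → ℂ) = p ^ a := by
  have := Fact.mk hp
  obtain ⟨χ, hχ, h1⟩ := H167.SteinbergRGD.steinberg_of_hasRGD hG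
  have Q : Sylow p G := default
  obtain ⟨a, ha⟩ := Q.2.exists_card_eq
  refine ⟨⟨χ, hχ⟩, a, ?_, ?_⟩
  · rintro rfl
    have h2 := Q.dvd_card_of_dvd_card hd
    rw [ha, pow_zero, Nat.dvd_one] at h2
    exact hp.one_lt.ne' h2
  · have h2 : χ 1 = (charDegree χ : ℂ) := Cfsg.Agent.Blocks.Basic.irr_one_eq_charDegree hχ
    have h3 := (h1 Q).1
    rw [h2, ha] at h3
    exact_mod_cast h3

/-- the two characters of degrees `E`, `E q` and the Steinberg character -/
theorem of_E {G : Type*} [Group G] [Finite G] {q r f E : ℕ} (hr : r.Prime) (hf : 0 < f) (hq : q = r ^ f)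
    (hR : HasRGD r G) (hrG : r ∣ Nat.card G) (hE1 : 1 < E) (hE : ∀ ℓ : ℕ, ℓ.Prime → ℓ ∣ q → ¬ ℓ ∣ E)
    (h : ∃ χ₁ χ₂ : IrrCharacter G, charDegree (χ₁ : G → ℂ) = E ∧ charDegree (χ₂ : G → ℂ) = E * q)
    {p : ℕ} (hp : p.Prime) (hpE : p ∣ E ∨ p ∣ q) : TwoDeg p G := by
  obtain ⟨χ₁, χ₂, h1, h2⟩ := h
  have hq2 : 2 ≤ q := by
    rw [hq]
    exact hr.two_le.trans (Nat.le_self_pow hf.ne' r)
  rcases hpE with h3 | h3
  · refine ⟨χ₁, χ₂, by rw [h1]; exact h3, by rw [h2]; exact h3.mul_right _, ?_⟩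
    rw [h1, h2]
    intro h4
    nlinarith only [hE1, hq2, h4]
  · have hpr : p = r := by
      rw [hq] at h3
      exact (Nat.prime_dvd_prime_iff_eq hp hr).1 (hp.dvd_of_dvd_pow h3)
    subst hpr
    obtain ⟨χ, a, ha, h4⟩ := exists_st hr hR hrG
    refine ⟨χ, χ₂, by rw [h4]; exact dvd_pow_self _ ha, by rw [h2]; exact h3.mul_left _, ?_⟩
    rw [h2, h4]
    intro h5
    have h6 : E ∣ p ^ a := by
      rw [h5]
      exact Dvd.intro q rfl
    obtain ⟨j, -, hj⟩ := (Nat.dvd_prime_pow hr).1 h6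
    have hj0 : j ≠ 0 := by
      rintro rfl
      rw [pow_zero] at hj
      omega
    exact hE p hr h3 (by rw [hj]; exact dvd_pow_self _ hj0)

/-! ### `G₂(q)` -/

/-- `G₂(q)`, `q ≥ 4` -/
theorem two_group_four (F : Type) [Field F] [Fintype F] (h4 : 4 ≤ Fintype.card F) {p : ℕ} (hp : p.Prime)
    (hd : p ∣ Nat.card ↥(chevG2.group F)) : TwoDeg p ↥(chevG2.group F) := by
  obtain ⟨r, f, hr, hch, hf, hcard⟩ := Rows.exists_char F
  have hN : Nat.card ↥(chevG2.group F) = (Fintype.card F) ^ 6 * ((Fintype.card F) ^ 2 - 1) * ((Fintype.card F) ^ 6 - 1) :=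
    Cfsg.Agent.S1059.result rfl
  have hrG : r ∣ Nat.card ↥(chevG2.group F) := by
    rw [hN, hcard]
    exact ((dvd_pow (dvd_pow_self r hf.ne') (by norm_num)).mul_right _).mul_right _
  have hE : ∀ ℓ : ℕ, ℓ.Prime → ℓ ∣ Fintype.card F →
      ¬ ℓ ∣ (Fintype.card F + 1) * (Fintype.card F ^ 4 + Fintype.card F ^ 2 + 1) := by
    intro ℓ hℓ h1 h2
    rcases hℓ.dvd_mul.1 h2 with h3 | h3
    · exact hℓ.one_lt.ne' (Nat.dvd_one.1 ((Nat.dvd_add_right h1).1 h3))
    · have h5 : ℓ ∣ Fintype.card F ^ 4 + Fintype.card F ^ 2 := dvd_add (dvd_pow h1 (by norm_num)) (dvd_pow h1 (by norm_num))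
      exact hℓ.one_lt.ne' (Nat.dvd_one.1 ((Nat.dvd_add_right h5).1 h3))
  have hE1 : 1 < (Fintype.card F + 1) * (Fintype.card F ^ 4 + Fintype.card F ^ 2 + 1) := by
    have h1 : 0 < Fintype.card F ^ 4 + Fintype.card F ^ 2 := by positivity
    nlinarith only [h1]
  by_cases hc : p ∣ (Fintype.card F + 1) * (Fintype.card F ^ 4 + Fintype.card F ^ 2 + 1) ∨ p ∣ Fintype.card F
  · exact of_E hr hf hcard (hasRGD_G2 F r) hrG hE1 hE (GTwo.exists_E h4) hp hc
  · push Not at hc
    rw [hN] at hd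
    rcases GTwo.arith (by omega) hp hd hc.2 with h1 | ⟨h2, h1⟩
    · exact absurd h1 hc.1
    · have h3 : p ≠ 3 := by
        rintro rfl
        apply hc.1
        obtain ⟨k, hk⟩ := h1
        have e : Fintype.card F = 3 * k + 1 := by omega
        rw [e]
        exact Dvd.dvd.mul_left ⟨27 * k ^ 4 + 36 * k ^ 3 + 21 * k ^ 2 + 6 * k + 1, by ring⟩ _
      have h5 : 5 ≤ p := by
        have := hp.two_le
        have h44 : p ≠ 4 := by
          rintro rfl
          exact absurd hp (by norm_num)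
        omega
      obtain ⟨χ, χ', a1, a2, a3⟩ := GTwo.exists_reg hp h5 h1
      exact ⟨χ, χ', a1, a2, a3.ne'⟩

/-- `G₂(3)` -/
theorem two_group_three (F : Type) [Field F] [Fintype F] (h3 : Fintype.card F = 3) {p : ℕ} (hp : p.Prime)
    (hd : p ∣ Nat.card ↥(chevG2.group F)) : TwoDeg p ↥(chevG2.group F) := by
  obtain ⟨r, f, hr, hch, hf, hcard⟩ := Rows.exists_char F
  have hr3 : r = 3 := by
    have h1 : r ∣ 3 := by
      rw [← h3, hcard]
      exact dvd_pow_self r hf.ne'
    exact (Nat.prime_dvd_prime_iff_eq hr Nat.prime_three).1 h1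
  subst hr3
  obtain ⟨d, hd0, hdeg⟩ := H996.Deg.GThree.degrees_G2 (K := F) (by rw [Nat.card_eq_fintype_card]; exact h3)
  obtain ⟨χ1, h1⟩ := hdeg 104 (by decide)
  obtain ⟨χ2, h2⟩ := hdeg 168 (by decide)
  obtain ⟨χ3, h4⟩ := hdeg 91 (by decide)
  have hN : Nat.card ↥(chevG2.group F) = (Fintype.card F) ^ 6 * ((Fintype.card F) ^ 2 - 1) * ((Fintype.card F) ^ 6 - 1) :=
    Cfsg.Agent.S1059.result rfl
  rw [h3] at hN
  have hpc : p = 3 ∨ p = 2 ∨ p = 7 ∨ p = 13 := by
    have e : Nat.card ↥(chevG2.group F) = 3 ^ 6 * (2 ^ 6 * (7 * 13)) := by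
      rw [hN]
      norm_num
    rw [e, hp.dvd_mul, hp.dvd_mul, hp.dvd_mul] at hd
    rcases hd with h | h | h | h
    · exact Or.inl ((Nat.prime_dvd_prime_iff_eq hp Nat.prime_three).1 (hp.dvd_of_dvd_pow h))
    · exact Or.inr (Or.inl ((Nat.prime_dvd_prime_iff_eq hp Nat.prime_two).1 (hp.dvd_of_dvd_pow h)))
    · exact Or.inr (Or.inr (Or.inl ((Nat.prime_dvd_prime_iff_eq hp (by norm_num)).1 h)))
    · exact Or.inr (Or.inr (Or.inr ((Nat.prime_dvd_prime_iff_eq hp (by norm_num)).1 h)))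
  rcases hpc with rfl | rfl | rfl | rfl
  · obtain ⟨χ, a, ha, h5⟩ := exists_st Nat.prime_three (hasRGD_G2 F 3) hd
    refine ⟨χ, χ2, by rw [h5]; exact dvd_pow_self _ ha, by rw [h2]; exact ⟨56 * d, by ring⟩, ?_⟩
    rw [h5, h2]
    intro h6
    have h7 : 2 ∣ 3 ^ a := by
      rw [h6]
      exact ⟨84 * d, by ring⟩
    have := (Nat.prime_dvd_prime_iff_eq Nat.prime_two Nat.prime_three).1 (Nat.prime_two.dvd_of_dvd_pow h7)
    omega
  · refine ⟨χ1, χ2, by rw [h1]; exact ⟨52 * d, by ring⟩, by rw [h2]; exact ⟨84 * d, by ring⟩, ?_⟩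
    rw [h1, h2]
    omega
  · refine ⟨χ2, χ3, by rw [h2]; exact ⟨24 * d, by ring⟩, by rw [h4]; exact ⟨13 * d, by ring⟩, ?_⟩
    rw [h2, h4]
    omega
  · refine ⟨χ1, χ3, by rw [h1]; exact ⟨8 * d, by ring⟩, by rw [h4]; exact ⟨7 * d, by ring⟩, ?_⟩
    rw [h1, h4]
    omega

/-- **`FactTwo` for `G₂(q)`.** -/
theorem two_G2 (S : Type*) [Group S] [Finite S] (h : Lie.IsoChevG2 S) (_hs : IsSimpleGroup S) {p : ℕ} (hp : p.Prime)
    (hd : p ∣ Nat.card S) : H596.OneFacts.Two p S := by
  obtain ⟨F, _, _, h3, ⟨e⟩⟩ := h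
  rw [Nat.card_congr e.toEquiv] at hd
  rcases Nat.eq_or_lt_of_le h3 with h4 | h4
  · exact (two_group_three F h4.symm hp hd).two e
  · exact (two_group_four F h4 hp hd).two e

/-! ### `³D₄(q)` -/

theorem ratio {d d' k : ℕ} (hsum : d + d' = 2457) (h1 : d ∣ 2 ^ k * d') (h2 : d' ∣ 2 ^ k * d) :
    273 ∣ d ∧ 273 ∣ d' ∧ (2 ∣ d ∨ 2 ∣ d') := by
  have key : ∀ {d d' k : ℕ}, d + d' = 2457 → d ∣ 2 ^ k * d' → d' ∣ 2 ^ k * d → ¬ 2 ∣ d →
      273 ∣ d ∧ 273 ∣ d' ∧ 2 ∣ d' := by
    intro d d' k hsum h1 h2 hodd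
    have hc : Nat.Coprime d (2 ^ k) := ((Nat.Prime.coprime_iff_not_dvd Nat.prime_two).2 hodd).symm.pow_right k
    obtain ⟨c, rfl⟩ := hc.dvd_of_dvd_mul_left h1
    have hd0 : 0 < d := by
      rcases Nat.eq_zero_or_pos d with h | h
      · exact absurd (by rw [h]; exact dvd_zero 2) hodd
      · exact h
    rw [mul_comm d c] at h2
    obtain ⟨j, -, rfl⟩ := (Nat.dvd_prime_pow Nat.prime_two).1 (Nat.dvd_of_mul_dvd_mul_right hd0 h2)
    have hj : j < 12 := by
      by_contra hj
      push Not at hj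
      have h3 : 2 ^ 12 ≤ 2 ^ j := Nat.pow_le_pow_right (by norm_num) hj
      nlinarith only [hd0, hsum, h3]
    interval_cases j
    · omega
    · have : d = 819 := by omega
      subst this
      exact ⟨by norm_num, by norm_num, by norm_num⟩
    · omega
    · have : d = 273 := by omega
      subst this
      exact ⟨by norm_num, by norm_num, by norm_num⟩
    all_goals (clear * - hodd hsum; omega)
  by_cases hodd : 2 ∣ d
  · have h3 : ¬ 2 ∣ d' := by
      intro h4
      have := dvd_add hodd h4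
      rw [hsum] at this
      omega
    obtain ⟨a, b, c⟩ := key (by rw [add_comm]; exact hsum) h2 h1 h3
    exact ⟨b, a, Or.inl c⟩
  · obtain ⟨a, b, c⟩ := key hsum h1 h2 hodd
    exact ⟨a, b, Or.inr c⟩

open Cfsg.Agent.Nodes.LeviDec Cfsg.Agent.Nodes.StabComb Cfsg.Agent.BiChar.TwDFour in
/-- `³D₄(2)` -/
theorem two_twisted_two {K : Type} [Field K] [Fintype K] (hK : Fintype.card K = 2 ^ 3) {p : ℕ} (hp : p.Prime)
    (hd : p ∣ Nat.card ↥(twistedD4 K 2)) : TwoDeg p ↥(twistedD4 K 2) := by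
  classical
  have hq : IsPrimePow 2 := Nat.prime_two.isPrimePow
  obtain ⟨r, hch⟩ := CharP.exists K
  have hrp : r.Prime := CharP.char_is_prime K r
  have : Fact r.Prime := ⟨hrp⟩
  have hr2 : r = 2 := by
    obtain ⟨m, -, hm⟩ := FiniteField.card K r
    have h1 : r ∣ 2 ^ 3 := by
      rw [← hK, hm]
      exact dvd_pow_self _ m.ne_zero
    exact (Nat.prime_dvd_prime_iff_eq hrp Nat.prime_two).1 (hrp.dvd_of_dvd_pow h1)
  subst hr2
  obtain ⟨φ, hφ⟩ := ChevalleyStructure.D4Fixed.exists_frob hq hK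
  have hle := ChevalleyStructure.D4Fixed.twisted_le_fix hK hφ
  have : Finite CoxeterMatrix.G₂.Group := Nodes.RGDChev.finite_W Cfsg.Agent.BiChar.GTwo.isType
    Cfsg.Agent.BiChar.TwDFour.cs
  have Rg := Nodes.RGDTwD4.rgd (K := K) Cfsg.Agent.BiChar.TwDFour.cs hK hφ 2
  obtain ⟨k, χ, χ', hsum, h1, h2⟩ := Two.exists_pair_sign Rg (TwDFour.GG_top hφ hK) TwDFour.T_comm Nat.prime_two
    (by decide) (TwDFour.card_X0 hφ hle (by norm_num) hK)
  rw [TwDFour.index_eq' (p := 2) hφ hle hq hK] at hsum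
  have hsum' : charDegree (χ : ↥(twistedD4 K 2) → ℂ) + charDegree (χ' : ↥(twistedD4 K 2) → ℂ) = 2457 := by
    rw [hsum]
    norm_num
  obtain ⟨a1, a2, a3⟩ := ratio hsum' h1 h2
  have hne : charDegree (χ : ↥(twistedD4 K 2) → ℂ) ≠ charDegree (χ' : ↥(twistedD4 K 2) → ℂ) := by omega
  have hN := Cfsg.Agent.S1067.result hq hK
  have hpc : p = 2 ∨ p ∣ 273 := by
    have e : Nat.card ↥(twistedD4 K 2) = 2 ^ 12 * (3 ^ 4 * (7 ^ 2 * 13)) := by
      rw [hN]
      norm_num
    rw [e, hp.dvd_mul, hp.dvd_mul, hp.dvd_mul] at hd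
    rcases hd with h | h | h | h
    · exact Or.inl ((Nat.prime_dvd_prime_iff_eq hp Nat.prime_two).1 (hp.dvd_of_dvd_pow h))
    · exact Or.inr ((hp.dvd_of_dvd_pow h).trans (by norm_num))
    · exact Or.inr ((hp.dvd_of_dvd_pow h).trans (by norm_num))
    · exact Or.inr (h.trans (by norm_num))
  rcases hpc with rfl | hp3
  · obtain ⟨ξ, a, ha, h5⟩ := exists_st Nat.prime_two (Cfsg.Agent.Nodes.RGDTwD4.hasRGD hq hK 2) hd
    have hnot : ∀ e : ℕ, 273 ∣ e → (2 ^ a : ℕ) ≠ e := by
      intro e he h6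
      have h7 : 3 ∣ 2 ^ a := by
        rw [h6]
        exact Dvd.dvd.trans (by norm_num) he
      have := (Nat.prime_dvd_prime_iff_eq Nat.prime_three Nat.prime_two).1 (Nat.prime_three.dvd_of_dvd_pow h7)
      omega
    rcases a3 with h6 | h6
    · exact ⟨ξ, χ, by rw [h5]; exact dvd_pow_self _ ha, h6, by rw [h5]; exact hnot _ a1⟩
    · exact ⟨ξ, χ', by rw [h5]; exact dvd_pow_self _ ha, h6, by rw [h5]; exact hnot _ a2⟩
  · exact ⟨χ, χ', hp3.trans a1, hp3.trans a2, hne⟩

/-- `³D₄(q)`, `q ≥ 3` -/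
theorem two_twisted_three {K : Type} [Field K] [Fintype K] {q : ℕ} (hq : IsPrimePow q) (h3 : 3 ≤ q)
    (hK : Fintype.card K = q ^ 3) {p : ℕ} (hp : p.Prime)
    (hd : p ∣ Nat.card ↥(twistedD4 K q)) : TwoDeg p ↥(twistedD4 K q) := by
  obtain ⟨r, fK, hr, hch, hfK, hcard⟩ := Rows.exists_char K
  obtain ⟨r', f, hr', hf, hqf⟩ := id hq
  have hrr : r' = r := by
    have h1 : r' ∣ r ^ fK := by
      rw [← hcard, hK, ← hqf]
      exact dvd_pow (dvd_pow_self r' hf.ne') (by norm_num)
    exact (Nat.prime_dvd_prime_iff_eq hr'.nat_prime hr).1 (hr'.nat_prime.dvd_of_dvd_pow h1)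
  subst hrr
  have hN := Cfsg.Agent.S1067.result hq hK
  have hrq : r' ∣ q := by
    rw [← hqf]
    exact dvd_pow_self r' hf.ne'
  have hrG : r' ∣ Nat.card ↥(twistedD4 K q) := by
    rw [hN]
    exact (((dvd_pow hrq (by norm_num)).mul_right _).mul_right _).mul_right _
  have hE : ∀ ℓ : ℕ, ℓ.Prime → ℓ ∣ q → ¬ ℓ ∣ (q ^ 3 + 1) * (q ^ 8 + q ^ 4 + 1) := by
    intro ℓ hℓ h1 h2
    rcases hℓ.dvd_mul.1 h2 with h3 | h3
    · exact hℓ.one_lt.ne' (Nat.dvd_one.1 ((Nat.dvd_add_right (dvd_pow h1 (by norm_num))).1 h3))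
    · have h5 : ℓ ∣ q ^ 8 + q ^ 4 := dvd_add (dvd_pow h1 (by norm_num)) (dvd_pow h1 (by norm_num))
      exact hℓ.one_lt.ne' (Nat.dvd_one.1 ((Nat.dvd_add_right h5).1 h3))
  have hE1 : 1 < (q ^ 3 + 1) * (q ^ 8 + q ^ 4 + 1) := by
    have h1 : 0 < q ^ 3 := by positivity
    have h2 : 0 < q ^ 8 + q ^ 4 := by positivity
    nlinarith only [h1, h2]
  by_cases hc : p ∣ (q ^ 3 + 1) * (q ^ 8 + q ^ 4 + 1) ∨ p ∣ q
  · exact of_E hr'.nat_prime hf hqf.symm (Cfsg.Agent.Nodes.RGDTwD4.hasRGD hq hK r') hrG hE1 hE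
      (TwDFour.exists_E hq h3 hK) hp hc
  · push Not at hc
    rw [hN] at hd
    rcases TwDFour.arith (by omega) hp hd hc.2 with h1 | ⟨h2, h1⟩
    · exact absurd h1 hc.1
    · have h3 : p ≠ 3 := by
        rintro rfl
        apply hc.1
        obtain ⟨k, hk⟩ := h1
        have e : q = 3 * k + 1 := by omega
        have h5 : (q ^ 8 + q ^ 4 + 1) % 3 = 0 := by
          have h6 : q % 3 = 1 := by omega
          rw [Nat.add_mod, Nat.add_mod (q ^ 8), Nat.pow_mod, Nat.pow_mod q 4, h6]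
        exact Dvd.dvd.mul_left (Nat.dvd_of_mod_eq_zero h5) _
      have h5 : 5 ≤ p := by
        have := hp.two_le
        have h44 : p ≠ 4 := by
          rintro rfl
          exact absurd hp (by norm_num)
        omega
      obtain ⟨χ, χ', a1, a2, a3⟩ := TwDFour.exists_reg hq hK hp h5 h1
      exact ⟨χ, χ', a1, a2, a3.ne'⟩

/-- **`FactTwo` for `³D₄(q)`.** -/
theorem two_3D4 (S : Type*) [Group S] [Finite S] (h : Lie.Iso3D4 S) (_hs : IsSimpleGroup S) {p : ℕ} (hp : p.Prime)
    (hd : p ∣ Nat.card S) : H596.OneFacts.Two p S := by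
  obtain ⟨K, _, _, q, hq, hK, ⟨e⟩⟩ := h
  rw [Nat.card_congr e.toEquiv] at hd
  rcases Nat.eq_or_lt_of_le hq.two_le with h4 | h4
  · subst h4
    exact (two_twisted_two hK hp hd).two e
  · exact (two_twisted_three hq h4 hK hp hd).two e

end Cfsg.Agent.H115.HC.TwoRows
end

-- part: H717/Two/Asm
section
/-!
# Assembly of `FactTwo` (helper717)

`Row P` : the row of the groups with `P`, for the primes which are not the defining characteristic.
-/

set_option autoImplicit false

namespace Cfsg.Agent.H717.Two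

open Cfsg Cfsg.Agent.H596.OneFacts

universe u

/-- a row, not in the defining characteristic -/
def Row (P : ∀ (S : Type u) [Group S], Prop) : Prop :=
  ∀ (S : Type u) [Group S] [Finite S], IsSimpleGroup S → ¬ IsMulCommutative S → P S → ∀ {p : ℕ}, p.Prime →
    p ∣ Nat.card S → ¬ IsLieTypeChar p S → TwoOr p S

theorem row_alt : Row.{u} IsAlternating := fun S _ _ _ _ h p hp hd _ => H654.Two.two_alternating S h hp hd

theorem row_psl : Row.{u} IsPSL := by
  intro S _ _ hs _ h p hp hd hn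
  obtain ⟨F, i1, i2, n, hn2, h4, ⟨e⟩⟩ := h
  rcases Nat.lt_or_ge 2 n with h3 | h3
  · refine H113.Two.Psl.two_psl S hs h3 e hp hd fun hc => hn ?_
    exact Or.inl ⟨F, i1, i2, hc, n, hn2, h4, ⟨e⟩⟩
  · obtain rfl : n = 2 := by omega
    exact H654.Two.two_psl_two S (h4 rfl) e hp hd

theorem row_sz : Row.{u} Lie.IsoSuzuki := fun S _ _ hs _ h p hp hd _ => H654.Two.two_sz S h hs hp hd

theorem row_ree : Row.{u} Lie.IsoRee := fun S _ _ hs _ h p hp hd _ => H654.Two.two_ree S h hs hp hd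

theorem row_2F4 : Row.{u} Lie.Iso2F4 := fun S _ _ _ _ h p hp hd _ => Or.inl (H42.Deg.F4Two.two_2F4 S h hp hd)

theorem row_E8 : Row.{u} Lie.IsoE8 := by
  intro S _ _ _ _ h p hp hd hn
  obtain ⟨r, hr, hL, hB⟩ := twoBig_E8 h
  exact Or.inl (hB.two hp hd fun hpr => hn (hpr ▸ hL))

theorem row_E7 : Row.{u} Lie.IsoE7 := by
  intro S _ _ _ _ h p hp hd hn
  obtain ⟨r, hr, hL, hB⟩ := twoBig_E7 h
  exact Or.inl (hB.two hp hd fun hpr => hn (hpr ▸ hL))

theorem row_2E6 : Row.{u} Lie.Iso2E6 := by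
  intro S _ _ _ _ h p hp hd hn
  obtain ⟨r, hr, -, ⟨K, i1, i2, q, hq, hK, hch, he⟩, h1⟩ := H53.HC.TwoRows.two_TwE6 h
  refine Or.inl (h1 p hp hd fun hpr => hn ?_)
  subst hpr
  exact Or.inr (Or.inr (Or.inr (Or.inr (Or.inr (Or.inr (Or.inr (Or.inl ⟨K, i1, i2, hch, q, hq, Or.inl ⟨hK, he⟩⟩)))))))

theorem row_F4 : Row.{u} Lie.IsoF4 := by
  intro S _ _ _ _ h p hp hd hn
  obtain ⟨K, i1, i2, ⟨e⟩⟩ := h
  obtain ⟨r, hr⟩ := CharP.exists K
  have hpr : p ≠ r := by
    rintro rfl
    exact hn (Or.inr (Or.inr (Or.inr (Or.inr (Or.inr (Or.inr (Or.inl ⟨K, i1, i2, hr, Or.inr (Or.inl ⟨e⟩)⟩)))))))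
  left
  by_cases hc : p = 2 ∨ ¬ p ∣ Fintype.card K - 1
  · exact H654.Two.F4Row.two_F4_cross e hp hd hpr hc
  · push Not at hc
    exact H40.TwoT.two_F4_torus e hp hd hpr hc.1 hc.2

theorem row_E6 : Row.{u} Lie.IsoChevE6 := by
  intro S _ _ _ _ h p hp hd hn
  obtain ⟨F, i1, i2, ⟨e⟩⟩ := h
  obtain ⟨r, f, hr, hf, hF, hch⟩ := H53.HC.ExcIM.exists_prime_pow F
  have hpr : p ≠ r := by
    rintro rfl
    exact hn (Or.inr (Or.inr (Or.inr (Or.inr (Or.inr (Or.inr (Or.inl ⟨F, i1, i2, hch,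
      Or.inr (Or.inr (Or.inl ⟨e⟩))⟩)))))))
  rw [Nat.card_congr e.toEquiv] at hd
  exact Or.inl (H53.HC.TwoRows.Two.of_equiv e (H53.HC.TwoRows.two_E6 hr hf hF hp hd hpr))

theorem row_psu : Row.{u} IsPSU := by
  intro S _ _ hs _ h p hp hd hn
  obtain ⟨F, i1, i2, n, q, hF, hn3, hn2, ⟨e⟩⟩ := h
  rcases Nat.lt_or_ge 3 n with h3 | h3
  · refine H113.Two.Psu.two_psu S hF h3 e hp hd fun hc => hn ?_
    exact Or.inr (Or.inr (Or.inl ⟨F, i1, i2, hc, n, q, hF, hn3, hn2, ⟨e⟩⟩))
  · obtain rfl : n = 3 := by omega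
    exact H654.Two.two_psu3 S hs hF (fun h => hn2 ⟨rfl, h⟩) e hp hd

theorem row_G2 : Row.{u} Lie.IsoChevG2 := fun S _ _ hs _ h p hp hd _ =>
  Or.inl (H115.HC.TwoRows.two_G2 S h hs hp hd)

theorem row_3D4 : Row.{u} Lie.Iso3D4 := fun S _ _ hs _ h p hp hd _ =>
  Or.inl (H115.HC.TwoRows.two_3D4 S h hs hp hd)

theorem row_odd : Row.{u} IsPOmegaOdd := by
  intro S _ _ _ _ h p hp hd hn
  obtain ⟨F, i1, i2, m, hm, ho, ⟨e⟩⟩ := h
  obtain ⟨r, hr⟩ := CharP.exists F
  have hrp : r.Prime := (CharP.char_is_prime_or_zero F r).resolve_right (CharP.char_ne_zero_of_finite F r)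
  have : Fact r.Prime := ⟨hrp⟩
  rw [Nat.card_congr e.toEquiv] at hd
  refine Or.inl (H654.Two.congr e (H749.Two.two_odd_main (p := r) F (by rwa [Nat.card_eq_fintype_card]) hm hp ?_ hd))
  rintro rfl
  exact hn (Or.inr (Or.inr (Or.inr (Or.inl ⟨F, i1, i2, hr, m, hm, ho, ⟨e⟩⟩))))

theorem row_plus : Row.{u} IsPOmegaPlus := by
  intro S _ _ _ _ h p hp hd hn
  obtain ⟨F, i1, i2, m, hm, ⟨e⟩⟩ := h
  obtain ⟨r, hr⟩ := CharP.exists F
  have hrp : r.Prime := (CharP.char_is_prime_or_zero F r).resolve_right (CharP.char_ne_zero_of_finite F r)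
  have : Fact r.Prime := ⟨hrp⟩
  rw [Nat.card_congr e.toEquiv] at hd
  refine Or.inl (H654.Two.congr e (H749.Two.two_plus_main (p := r) F hm hp ?_ hd))
  rintro rfl
  exact hn (Or.inr (Or.inr (Or.inr (Or.inr (Or.inl ⟨F, i1, i2, hr, m, hm, ⟨e⟩⟩)))))

/-- **Assembly.** -/
theorem factTwo_of (hK : ∀ (S : Type u) [Group S] [Finite S] [IsSimpleGroup S], IsKnownSimple' S)
    (hPSp : Row.{u} IsPSp) (hMinus : Row.{u} IsPOmegaMinus) (hT : Row.{u} Lie.IsoTits)
    (hSpor : Row.{u} IsSporadicGroup) : FactTwo.{u} := by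
  intro S _ _ hs hnc p hp hd
  by_cases hL : IsLieTypeChar p S
  · exact two_char hp S hs hnc hd hL
  rcases hK S with h | h | h | h | h | h | h | h | h | h
  · exact absurd ⟨⟨fun a b => by
      have : Fact (Nat.card S).Prime := ⟨h⟩
      have := isCyclic_of_prime_card (α := S) (p := Nat.card S) rfl
      exact (IsCyclic.commGroup (α := S)).mul_comm a b⟩⟩ hnc
  · exact row_alt S hs hnc h hp hd hL
  · exact row_psl S hs hnc h hp hd hL
  · exact hPSp S hs hnc h hp hd hL
  · exact row_psu S hs hnc h hp hd hL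
  · exact row_odd S hs hnc h hp hd hL
  · exact row_plus S hs hnc h hp hd hL
  · exact hMinus S hs hnc h hp hd hL
  · rcases h with h | h | h | h | h | h | h | h | h | h | h
    · exact row_G2 S hs hnc h hp hd hL
    · exact row_F4 S hs hnc h hp hd hL
    · exact row_E6 S hs hnc h hp hd hL
    · exact row_E7 S hs hnc h hp hd hL
    · exact row_E8 S hs hnc h hp hd hL
    · exact row_2E6 S hs hnc h hp hd hL
    · exact row_3D4 S hs hnc h hp hd hL
    · exact row_sz S hs hnc h hp hd hL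
    · exact row_ree S hs hnc h hp hd hL
    · exact row_2F4 S hs hnc h hp hd hL
    · exact hT S hs hnc h hp hd hL
  · exact hSpor S hs hnc h hp hd hL

end Cfsg.Agent.H717.Two
end

private theorem dce_b6f031725d55 : _root_.True := by
  try have : _root_.True := by simp only [_root_.Cfsg.Agent.OddHalf.NI.Mult.lo.eq_1]
  try have : _root_.True := by simp only [_root_.Cfsg.Agent.OddHalf.NI.Mult.up.eq_1]
  try have : _root_.True := by simp only [_root_.Matrix.SpecialLinearGroup.transvection.eq_1]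
  exact _root_.True.intro
end

-- part: H53/Two/FactTwo
section
prune_inst 0x2f020770445a202000000000202004220300000900000840064660a460b08a2608902200008800102000080801001002001000030420000000a040000000505218800560093084d1da40019800008000000008000000000000000000000000000210000000
set_option linter.all false
open scoped Cfsg.Agent.FastGrp

-- part: H749/TwoO8m
section
/-!
# `Ω⁻_8(2)`, `p = 5, 7` (helper749, with helper477's characters)
-/

set_option autoImplicit false

open Cfsg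

namespace Cfsg.Agent.H749.Two

open Cfsg.Agent.Characters Cfsg.Agent.H477.HC

universe u

theorem o8mTwo : O8mTwo := by
  intro F _ _ a b hF hab r hr
  have hcF : Nat.card F = 2 := by rw [Nat.card_eq_fintype_card, hF]
  obtain ⟨p, hp⟩ := CharP.exists F
  have hpr : p.Prime := (CharP.char_is_prime_or_zero F p).resolve_right (CharP.char_ne_zero_of_finite F p)
  have : Fact p.Prime := ⟨hpr⟩
  have hp2 : p = 2 := by
    have := char_dvd F (p := p)
    rw [hcF] at this
    exact (Nat.prime_dvd_prime_iff_eq hpr Nat.prime_two).1 this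
  subst hp2
  obtain ⟨d, hd1, hd2, hd3⟩ := o8m_two hcF hab
  have hd4 := Nat.le_of_dvd (by norm_num) hd2
  rcases hr with rfl | rfl
  · obtain ⟨t, e, i, ht, ht', he, he1, he2, he3⟩ := minus_top F a b hab (l := 3) le_rfl
    obtain ⟨x, hx⟩ := minus_dvd_top F (p := 2) a b hab (l := 3) (by norm_num)
    have h1 : 2295 ∣ 2 ^ x * dg (CForm.minusF F (3 + 0) a b hab) 3 := by
      refine Dvd.dvd.trans (dvd_of_eq ?_) hx
      rw [hcF]
      rfl
    rw [he1] at h1
    have h2 : 2295 ∣ e := by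
      have h3 : 2295 ∣ 2 ^ (x + i) * e := by
        rw [pow_add]
        exact h1.trans (dvd_of_eq (by ring))
      exact (Nat.Coprime.pow_right (x + i) (by norm_num : Nat.Coprime 2295 2)).dvd_of_dvd_mul_left h3
    have h3 := Nat.le_of_dvd he3 h2
    exact two_of_ch he hd3 (Dvd.dvd.trans (by norm_num) h2) (Dvd.dvd.trans (by norm_num) hd1) (by (clear * - hd4 he3 h2; omega))
  · obtain ⟨f, g, hf, -, hf', -⟩ := rk3_minus F a b hab (l := 3) le_rfl
    rw [hcF] at hf'
    norm_num at hf'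
    have e1 : f = 84 := by omega
    subst e1
    exact two_of_ch hf hd3 (by norm_num) (Dvd.dvd.trans (by norm_num) hd1) (by
      rintro rfl
      revert hd1
      norm_num)

/-- **`PΩ⁻`** -/
theorem two_omega_minus' (S : Type u) [Group S] [Finite S] (h : IsPOmegaMinus S) {r : ℕ} (hr : r.Prime)
    (hd : r ∣ Nat.card S) (hL : ¬ IsLieTypeChar r S) : H596.OneFacts.Two r S :=
  two_omega_minus o8mTwo S h hr hd hL

end Cfsg.Agent.H749.Two
end

-- part: H722/HC/SpFourTwo
section
/-!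
# `PSp_4(q)`: two characters of degree divisible by an odd prime `r ∣ q - 1` (helper722, for helper749's `Sp4Two`)
-/

set_option autoImplicit false

open scoped ComplexConjugate
open Cfsg

namespace Cfsg.Agent.H722.HC

open Cfsg.Agent.Characters Module Cfsg.Agent.H53.HC Cfsg.Agent.H477.HC Cfsg.Agent.H749.Two

universe u v w

/-- **the characters of `Sp_4(q)` of degrees `q (q² + 1) dim τ` and `(q² + 1) dim τ`** -/
theorem exists_pair4 (K : Type u) [Field K] [Fintype K] {M : Type v} [AddCommGroup M] [Module ℂ M]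
    [FiniteDimensional ℂ M] {τ : Representation ℂ (CForm.spF K 1).iso M} (hτi : τ.IsIrreducible) (hτ : Cu τ) :
    ∃ (χ χ' : (CForm.spF K 2).iso → ℂ) (d d' D : ℕ), IsIrrCharacter _ χ ∧ IsIrrCharacter _ χ' ∧ χ 1 = (d : ℂ) ∧
      χ' 1 = (d' : ℂ) ∧ (Nat.card K + 1) * d = Nat.card K * (D * finrank ℂ M) ∧
      (Nat.card K + 1) * d' = D * finrank ℂ M ∧
      ((∀ z : (CForm.spF K 1).iso, (∀ x, (z : (Fin 1 ⊕ Fin 1 → K) ≃ₗ[K] (Fin 1 ⊕ Fin 1 → K)) x = -x) → τ z = 1) →
        ∀ z : (CForm.spF K 2).iso,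
          (∀ v, (z : (Fin 2 ⊕ Fin 2 → K) ≃ₗ[K] (Fin 2 ⊕ Fin 2 → K)) v = (-1 : K) • v) → χ z = χ 1 ∧ χ' z = χ' 1) := by
  classical
  have hq1 : 1 < Nat.card K := Finite.one_lt_card
  obtain ⟨e, f, j, h⟩ := CForm.frm_sp (K := K) (k := 1) (n := 1) (m := 2) rfl
  obtain ⟨w, hw1, hw2, hw3⟩ := h.exists_w
  obtain ⟨ρ, hρ, hρs⟩ := exists_isRho h
  have := finite_iso (CForm.spF K 2)
  let _ : Fintype (CForm.spF K 2).iso := Fintype.ofFinite _
  let _ : Fintype (Pp K e) := Fintype.ofFinite _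
  let _ : Fintype (CForm.Us (CForm.spF K 2) e) := Fintype.ofFinite _
  have hdd := hd hw1 hw2 hw3 h hρ hτ
  obtain ⟨hU, hA⟩ := sum_rr hw1 hw2 hw3 h hρ hτ
  have hirr : IsIrrCharacter (Pp K e) (Representation.character
      (MonoidHom.comp τ ρ : Representation ℂ (Pp K e) M)) :=
    Core.isIrr_comp ρ hρs (Core.isIrrCharacter_of_rep τ hτi)
  have hq0 : (Nat.card K : ℂ) ≠ 0 := Nat.cast_ne_zero.2 (by omega)
  rw [← Nat.card_eq_fintype_card] at hU hA
  obtain ⟨χ, χ₂, hχ, hχ₂, hχ1, hχ₂1, hχz⟩ := hdd.exists_chars hirr hA (lam := Nat.card K)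
    (mu := -(Nat.card K : ℂ) ^ 2) (by ring) (by rw [hU]; push_cast; ring) (by
      intro h1
      have h2 : (Nat.card K : ℂ) * (1 + Nat.card K) = 0 := by linear_combination h1
      have h3 : (1 + (Nat.card K : ℂ)) ≠ 0 := by
        have : ((1 + Nat.card K : ℕ) : ℂ) ≠ 0 := Nat.cast_ne_zero.2 (by omega)
        push_cast at this
        exact this
      exact (mul_eq_zero.1 h2).elim hq0 h3)
  obtain ⟨d, -, hd⟩ := Core.isIrr_apply_one hχ
  obtain ⟨d', -, hd'⟩ := Core.isIrr_apply_one hχ₂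
  have h1 : Representation.character (MonoidHom.comp τ ρ : Representation ℂ (Pp K e) M) 1 = (finrank ℂ M : ℂ) :=
    Representation.char_one _
  refine ⟨χ, χ₂, d, d', (Pp K e).index, hχ, hχ₂, hd, hd', ?_, ?_, fun hτ1 z hzv => ?_⟩
  · rw [hd, h1] at hχ1
    have h2 : (Nat.card K : ℂ) * (((Nat.card K + 1) * d : ℕ) : ℂ) =
        (Nat.card K : ℂ) * ((Nat.card K * ((Pp K e).index * finrank ℂ M) : ℕ) : ℂ) := by
      push_cast
      linear_combination hχ1
    exact_mod_cast mul_left_cancel₀ hq0 h2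
  · rw [hd', h1] at hχ₂1
    have h2 : (Nat.card K : ℂ) * (((Nat.card K + 1) * d' : ℕ) : ℂ) =
        (Nat.card K : ℂ) * (((Pp K e).index * finrank ℂ M : ℕ) : ℂ) := by
      push_cast
      linear_combination hχ₂1
    exact_mod_cast mul_left_cancel₀ hq0 h2
  · have hzP : z ∈ Pp K e := mem_Pp (hzv _)
    refine hχz ⟨z, hzP⟩ (fun g => iso_ext fun v => ?_) ?_
    · rw [CForm.mul_apply', CForm.mul_apply']
      change (g : (Fin 2 ⊕ Fin 2 → K) ≃ₗ[K] (Fin 2 ⊕ Fin 2 → K)) ((z :
        (Fin 2 ⊕ Fin 2 → K) ≃ₗ[K] (Fin 2 ⊕ Fin 2 → K)) v) = (z :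
        (Fin 2 ⊕ Fin 2 → K) ≃ₗ[K] (Fin 2 ⊕ Fin 2 → K)) _
      rw [hzv, hzv, map_smul]
    · rw [MonoidHom.comp_apply]
      refine hτ1 _ fun x => ?_
      rw [← sub_eq_zero]
      refine (CForm.spF K 1).nondeg _ fun y => ?_
      rw [(CForm.spF K 1).B_sub_left, hρ]
      change (CForm.spF K 2).B ((z : (Fin 2 ⊕ Fin 2 → K) ≃ₗ[K] (Fin 2 ⊕ Fin 2 → K)) (j x)) (j y) - _ = 0
      rw [hzv, (CForm.spF K 2).B_smul_left, h.hjB, (CForm.spF K 1).B_neg_left]
      ring

/-- **`PSp_4(q)`, an odd prime `r ∣ q - 1`: two characters** -/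
theorem sp4_two (K : Type u) [Field K] [Finite K] {r : ℕ} (hr : r.Prime) (hr2 : r ≠ 2)
    (hrd : r ∣ Nat.card K - 1) : H596.OneFacts.Two r (PSp 2 K) := by
  classical
  let _ : Fintype K := Fintype.ofFinite K
  have hq1 : 1 < Nat.card K := Finite.one_lt_card
  obtain ⟨M, _, _, _, τ, hτi, hτ, hτ1, hτr⟩ := exists_cu K hr hr2 hrd
  obtain ⟨χ, χ', d, d', D, hχ, hχ', hd, hd', hdeg, hdeg', hχz⟩ := exists_pair4 K hτi hτ
  have key : ∀ x : ℕ, r ∣ (Nat.card K + 1) * x → r ∣ x := by
    intro x h1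
    refine (hr.dvd_mul.1 h1).resolve_left fun h2 => ?_
    have h3 : Nat.card K + 1 = (Nat.card K - 1) + 2 := by omega
    rw [h3] at h2
    have h4 := (Nat.dvd_add_right hrd).1 h2
    exact hr2 ((Nat.prime_dvd_prime_iff_eq hr Nat.prime_two).1 h4)
  have hrd' : r ∣ d := key d (by rw [hdeg]; exact Dvd.dvd.mul_left (Dvd.dvd.mul_left hτr _) _)
  have hrd'' : r ∣ d' := key d' (by rw [hdeg']; exact Dvd.dvd.mul_left hτr _)
  have hz : ∀ (z : (CForm.spF K 2).iso) (a : Kˣ), a ^ 2 = 1 →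
      (∀ v, (z : (Fin 2 ⊕ Fin 2 → K) ≃ₗ[K] (Fin 2 ⊕ Fin 2 → K)) v = (a : K) • v) → χ z = χ 1 ∧ χ' z = χ' 1 := by
    intro z a ha hv
    have h1 : (a : K) ^ 2 = 1 := by rw [← Units.val_pow_eq_pow_val, ha, Units.val_one]
    rcases mul_self_eq_one_iff.1 (by rw [← sq]; exact h1 : (a : K) * a = 1) with h2 | h2
    · have h3 : z = 1 := iso_ext fun v => by
        rw [hv, h2, one_smul]
        rfl
      rw [h3]
      exact ⟨rfl, rfl⟩
    · exact hχz hτ1 z fun v => by rw [hv, h2]
  have ha : Ch (PSp 2 K) d := sp_down hχ hd fun z a h1 h2 => (hz z a h1 h2).1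
  have hb : Ch (PSp 2 K) d' := sp_down hχ' hd' fun z a h1 h2 => (hz z a h1 h2).2
  refine two_of_ch ha hb hrd' hrd'' ?_
  rintro rfl
  have h1 : d = Nat.card K * d := by
    have h2 : (Nat.card K + 1) * d = (Nat.card K + 1) * (Nat.card K * d) := by
      rw [hdeg]
      nth_rewrite 1 [← hdeg']
      ring
    exact Nat.eq_of_mul_eq_mul_left (by omega) h2
  have h2 := ch_pos ha
  nlinarith only [hq1, h1, h2]

/-- helper749's hypothesis -/
theorem sp4Two : Sp4Two := fun F _ _ _ r hr hr2 hrd => sp4_two F hr hr2 (by rwa [Nat.card_eq_fintype_card])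

end Cfsg.Agent.H722.HC
end

-- part: H368/Two/TitsDeg
section
/-!
# Two more degrees of the Tits group (helper368)

The collinearity relation (valency 10) of the generalized octagon on 1755 points has the eigenvalues
10, 5, 1, -3, -5; the eigenvalues 5 and -3 give the degrees 351 and 675.
-/

set_option autoImplicit false
set_option maxRecDepth 100000
set_option exponentiation.threshold 5000

namespace Cfsg.Agent.H368.Two.TitsDeg

open Cfsg Cfsg.Agent.H707.RowTitsModel Cfsg.Agent.H678.DG Cfsg.Agent.H678.DG.Tits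
open Cfsg.Agent.SporadicB.RuData Cfsg.Agent.SporadicB.RuOrder Cfsg.Agent.SporadicB.RuTitsData
open Cfsg.Agent.SporadicB.RuTits
open Cfsg.Agent.Lib.BitNet Cfsg.Agent.Lib.BitNetSimple
open MulAction

/-- Words moving the base point to the representatives of the classes. -/
def wd : Fin 5 → List (ℕ × ℕ) := ![[], x0, x0 ++ x1.reverse,
  x0 ++ (x0 ++ (x1 ++ (x1 ++ (x1 ++ (x0 ++ (x0 ++ (x0 ++ x0))))))),
  x0 ++ (x1.reverse ++ (x1.reverse ++ (x0 ++ (x1 ++ x0))))]

theorem wd_mem' : ∀ i, i ≠ 0 → Mem T (wd i) := by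
  intro i hi
  fin_cases i
  · exact absurd rfl hi
  · exact tmem0
  · exact tmem0.append tmem1.reverse
  · exact tmem0.append (tmem0.append (tmem1.append (tmem1.append (tmem1.append (tmem0.append
      (tmem0.append (tmem0.append tmem0)))))))
  · exact tmem0.append (tmem1.reverse.append (tmem1.reverse.append (tmem0.append (tmem1.append tmem0))))

theorem wd_app : ∀ i, Nat.beq (appF (wd i) 1968) (ry i) = true := by decide +kernel

/-- The relation of valency 10. -/
noncomputable def E1 (x y : X) : Bool :=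
  @decide (∃ g : T, g • r 0 = x ∧ g • r 1 = y) (Classical.propDecidable _)

theorem E1_iff (x y : X) : E1 x y = true ↔ ∃ g : T, g • r 0 = x ∧ g • r 1 = y := by
  unfold E1
  exact @decide_eq_true_iff _ (Classical.propDecidable _)

theorem E1_smul (g : T) (x y : X) : E1 (g • x) (g • y) = E1 x y := by
  rw [Bool.eq_iff_iff, E1_iff, E1_iff]
  constructor
  · rintro ⟨h, h1, h2⟩
    exact ⟨g⁻¹ * h, by rw [mul_smul, h1, inv_smul_smul], by rw [mul_smul, h2, inv_smul_smul]⟩
  · rintro ⟨h, h1, h2⟩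
    exact ⟨g * h, by rw [mul_smul, h1], by rw [mul_smul, h2]⟩

/-- The class of a point is invariant under the stabiliser. -/
theorem cls_inv {g : T} (hg : g • r 0 = r 0) (x : X) : cls (g • x) = cls x := by
  rw [cls_iff, smul_val]
  have h1 : g.1 p1 = p1 := congrArg Subtype.val hg
  rw [inv _ g.2 h1]
  exact cls_spec x

theorem exists_stab (x : X) : ∃ g : T, g • r 0 = r 0 ∧ g • r (cls x) = x := by
  obtain ⟨k, hk⟩ := orb_i (cls x)
  obtain ⟨g, hg, hgx⟩ := exists_of_iterF (b := (r (cls x)).1) gensT1 hk (cls_spec x)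
  exact ⟨⟨g, hg.1⟩, Subtype.ext hg.2, Subtype.ext hgx⟩

/-- The masks of the neighbours of the representatives. -/
noncomputable def nb (i : Fin 5) : ℕ := appMF (wd i) c10

/-- The neighbours of the representatives, for a word. -/
theorem E1_of_word {i : Fin 5} (h : Mem T (wd i)) (y : X) : E1 (r i) y = true ↔ (nb i).testBit y.1 = true := by
  obtain ⟨ok, hT⟩ := h
  set γ : T := ⟨perm ok, hT⟩ with hγ
  have h0 : γ • r 0 = r i := by
    refine Subtype.ext (Fin.ext ?_)
    have h1 := Nat.eq_of_beq_eq_true (wd_app i)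
    rw [appF_eq] at h1
    show ((perm ok (r 0).1 : Fin 4060) : ℕ) = ry i
    rw [perm_apply]
    exact h1
  have h2 : (nb i).testBit y.1 = c10.testBit (γ⁻¹ • y).1 := by
    have h3 := testBit_appM ok.valid c10 (γ⁻¹ • y).1
    have h4 : app (wd i) (γ⁻¹ • y).1 = y.1 := by
      have h5 : ((perm ok (γ⁻¹ • y).1 : Fin 4060) : ℕ) = app (wd i) (γ⁻¹ • y).1 := perm_apply _ _
      rw [← h5]
      have h6 : γ • γ⁻¹ • y = y := smul_inv_smul _ _
      exact congrArg (fun z : X => (z.1 : ℕ)) h6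
    rw [h4] at h3
    unfold nb
    rw [appMF_eq]
    exact h3
  have h3 : c10.testBit (γ⁻¹ • y).1 = true ↔ cls (γ⁻¹ • y) = 1 := (cls_iff _ 1).symm
  rw [h2, h3, E1_iff]
  constructor
  · rintro ⟨g, hg0, hg1⟩
    have h4 : (γ⁻¹ * g) • r 0 = r 0 := by rw [mul_smul, hg0, ← h0, inv_smul_smul]
    have h5 := cls_inv h4 (r 1)
    rw [mul_smul, hg1, cls_r] at h5
    exact h5
  · intro h4
    obtain ⟨g, hg0, hg1⟩ := exists_stab (γ⁻¹ • y)
    rw [h4] at hg1
    exact ⟨γ * g, by rw [mul_smul, hg0, h0], by rw [mul_smul, hg1, smul_inv_smul]⟩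

theorem E1_zero (y : X) : E1 (r 0) y = true ↔ (nb 0).testBit y.1 = true := by
  have h1 : nb 0 = c10 := rfl
  rw [h1, E1_iff]
  have h3 : c10.testBit y.1 = true ↔ cls y = 1 := (cls_iff _ 1).symm
  rw [h3]
  constructor
  · rintro ⟨g, hg0, hg1⟩
    have h5 := cls_inv hg0 (r 1)
    rwa [hg1, cls_r] at h5
  · intro h4
    obtain ⟨g, hg0, hg1⟩ := exists_stab y
    rw [h4] at hg1
    exact ⟨g, hg0, hg1⟩

theorem E1_r (i : Fin 5) (y : X) : E1 (r i) y = true ↔ (nb i).testBit y.1 = true := by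
  by_cases h : i = 0
  · subst h
    exact E1_zero y
  · exact E1_of_word (wd_mem' i h) y

/-- The collapsed matrix. -/
def B1 : Fin 5 → Fin 5 → ℕ := ![![0, 10, 0, 0, 0], ![1, 1, 8, 0, 0], ![0, 1, 1, 8, 0], ![0, 0, 1, 1, 8],
  ![0, 0, 0, 5, 5]]

/-- The mask of the neighbours of a point in a class. -/
noncomputable def nbc (i j : Fin 5) : ℕ := Nat.land (nb i) (cm j)

theorem nbc_card : ∀ i j, Nat.beq (popc 12 (nbc i j)) (B1 i j) = true := by decide +kernel

theorem testBit_nbc (i j : Fin 5) (k : ℕ) : (nbc i j).testBit k = true ↔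
    ((nb i).testBit k = true ∧ (cm j).testBit k = true) := by
  have e : nbc i j = nb i &&& cm j := rfl
  rw [e, Nat.testBit_and, Bool.and_eq_true]

theorem count1 (i j : Fin 5) : (Finset.univ.filter fun y : X => E1 (r i) y = true ∧ cls y = j).card = B1 i j := by
  have h1 : (Finset.univ.filter fun y : X => E1 (r i) y = true ∧ cls y = j).card = (pts 4060 (nbc i j)).card := by
    rw [← Finset.card_map (Function.Embedding.subtype _)]
    (with_reducible congr 1)
    ext y
    rw [Finset.mem_map, mem_pts, testBit_nbc]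
    constructor
    · rintro ⟨z, hz, rfl⟩
      obtain ⟨-, hz1, hz2⟩ := Finset.mem_filter.1 hz
      exact ⟨(E1_r i z).1 hz1, (cls_iff _ _).1 hz2⟩
    · rintro ⟨h1, h2⟩
      have h4 : (row 0).testBit y = true := by
        have h3 := Nat.eq_of_beq_eq_true (cm_row j)
        have h4 : Nat.land (cm j) (row 0) = cm j &&& row 0 := rfl
        rw [h4] at h3
        rw [← h3, Nat.testBit_and, Bool.and_eq_true] at h2
        exact h2.2
      exact ⟨⟨y, h4⟩, Finset.mem_filter.2 ⟨Finset.mem_univ _, (E1_r i _).2 h1, (cls_iff _ _).2 h2⟩, rfl⟩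
  rw [h1]
  have h2 := Nat.eq_of_beq_eq_true (nbc_card i j)
  apply le_antisymm
  · rw [← h2]
    exact card_pts_le (by norm_num) _
  · rw [← h2]
    refine card_pts_eq fun k hk => ?_
    by_contra hlt
    have h3 := cm_lt j
    rw [Nat.blt_eq] at h3
    have h4 : cm j < 2 ^ k := lt_of_lt_of_le h3 (Nat.pow_le_pow_right (by norm_num) (not_lt.1 hlt))
    rw [testBit_nbc, Nat.testBit_lt_two_pow h4] at hk
    exact Bool.noConfusion hk.2

/-- The degree for an eigenvalue. -/
theorem deg1 (a : Fin 5 → ℚ) (t : ℚ) (L : Fin 5 → Fin 5 → ℚ) (d : ℕ)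
    (ha : a 0 = 1) (hBa : ∀ i, ∑ j, (B1 i j : ℚ) * a j = t * a i)
    (hL : ∀ i j, ∑ l, L i l * ((B1 l j : ℚ) - if l = j then t else 0) =
      (if i = j then 1 else 0) - if j = 0 then a i else 0)
    (hd : (d : ℚ) * ∑ j, (kk j : ℚ) * (a j * a j) = (1755 : ℕ)) :
    ∃ χ : IrrCharacter T, charDegree (χ : T → ℂ) = d := by
  have := _root_.Cfsg.Agent.H678.DG.Tits.trans
  refine Sph.exists_of_graph_rat E1 E1_smul (r 0) (MulAction.stabilizer T (r 0)) (fun _ h => h) cls r ?_ ?_ B1 count1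
    kk card_cls 0 (cls_r 0) a t L d 1755 card_X ha hBa hL hd
  · intro g hg x
    exact cls_inv hg x
  · intro x
    obtain ⟨g, hg0, hg1⟩ := exists_stab x
    exact ⟨g, hg0, hg1⟩

theorem deg_351 : ∃ χ : IrrCharacter T, charDegree (χ : T → ℂ) = 351 :=
  deg1 ![1, 1/2, 1/8, 0, -1/64] 5 ![![0, 0, 0, 0, 0], ![1/10, 0, 0, 0, 0], ![1/20, 1/8, 0, 0, 0],
    ![1/80, 1/16, 1/8, 0, 0], ![0, 1/64, 1/16, 1/8, 0]] 351 (by decide +kernel) (by decide +kernel)
    (by decide +kernel) (by decide +kernel)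

theorem deg_675 : ∃ χ : IrrCharacter T, charDegree (χ : T → ℂ) = 675 :=
  deg1 ![1, -3/10, 1/40, 1/40, -1/64] (-3) ![![0, 0, 0, 0, 0], ![1/10, 0, 0, 0, 0], ![-1/20, 1/8, 0, 0, 0],
    ![1/80, -1/16, 1/8, 0, 0], ![0, 1/64, -1/16, 1/8, 0]] 675 (by decide +kernel) (by decide +kernel)
    (by decide +kernel) (by decide +kernel)

end Cfsg.Agent.H368.Two.TitsDeg
end

-- part: H368/Two/Tits
section
/-!
# The row of the Tits group (helper368)

Degrees 78, 351, 650, 675.
-/

set_option autoImplicit false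

namespace Cfsg.Agent.H368.Two.Tits

open Cfsg Cfsg.Agent.H651.Two Cfsg.Agent.H596.OneFacts
open Cfsg.Agent.SporadicB.RuTits
open Cfsg.Agent.H678.DG.Tits Cfsg.Agent.H368.Two.TitsDeg

universe u

theorem two_T {p : ℕ} [hp : Fact p.Prime] (hd : p ∣ Nat.card T) : Two p T := by
  have h := prime_mem hp.out (L := [(2, 11), (3, 3), (5, 2), (13, 1)]) (by decide) card_T.symm hd
  simp only [List.map_cons, List.map_nil, List.mem_cons, List.not_mem_nil, or_false] at h
  rcases h with rfl | rfl | rfl | rfl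
  · exact two_of_degs deg_78 deg_650 (by norm_num) (by norm_num) (by norm_num)
  · exact two_of_degs deg_78 deg_351 (by norm_num) (by norm_num) (by norm_num)
  · exact two_of_degs deg_650 deg_675 (by norm_num) (by norm_num) (by norm_num)
  · exact two_of_degs deg_78 deg_650 (by norm_num) (by norm_num) (by norm_num)

/-- **The row of the Tits group.** -/
theorem two_tits {S : Type u} [Group S] (h : Cfsg.Lie.IsoTits S) {p : ℕ} [hp : Fact p.Prime]
    (hd : p ∣ Nat.card S) : TwoOr p S := by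
  obtain ⟨e⟩ := h
  obtain ⟨f⟩ := H707.RowTits.equiv
  exact twoOr_of ⟨e.trans f⟩ hd fun h => two_T h

end Cfsg.Agent.H368.Two.Tits
end

-- part: H53/Two/FactTwo
section
/-!
# `FactTwo` (helper53)

**`factTwo`**: every finite nonabelian simple group `S` and every prime `p` dividing its order satisfy `TwoOr p S`.
-/

set_option autoImplicit false

namespace Cfsg.Agent.H53.Two

open Cfsg Cfsg.Agent.H596.OneFacts Cfsg.Agent.H717.Two

universe u

theorem row_spor (hK0 : H995.CopEngine.AllKnown.{0}) : Row.{u} IsSporadicGroup := by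
  intro S _ _ _ _ h p hp hd _
  have : Fact p.Prime := ⟨hp⟩
  exact H651.Two.Spor.two_sporadic hK0 h hd

theorem row_tits : Row.{u} Lie.IsoTits := by
  intro S _ _ _ _ h p hp hd _
  have : Fact p.Prime := ⟨hp⟩
  exact H368.Two.Tits.two_tits h hd

theorem row_psp : Row.{u} IsPSp := fun S _ _ _ _ h _ hp hd hn =>
  Or.inl (H749.Two.two_psp H722.HC.sp4Two S h hp hd hn)

theorem row_minus : Row.{u} IsPOmegaMinus := fun S _ _ _ _ h _ hp hd hn =>
  Or.inl (H749.Two.two_omega_minus' S h hp hd hn)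

/-- **`FactTwo`** -/
theorem factTwo : FactTwo.{u} :=
  factTwo_of (fun _ _ _ _ => S0000.result) row_psp row_minus row_tits (row_spor fun _ _ _ _ => S0000.result)

end Cfsg.Agent.H53.Two
end
end
end
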